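import Groth.Agent.EtRamLib.DegP
import Mathlib

/-! Normal forms of right-hand sides of Artin–Schreier equations over discrete valuation rings. -/

set_option autoImplicit false
set_option linter.all false
universe u

open IsLocalRing

namespace Groth.Agent.EtRamLib.ASForm

/-- Over a perfect residue field a right-hand side is integral or has a pole of order prime to `p`. -/
theorem reduce_perfect (p : ℕ) (hp : p.Prime) {A K : Type u} [CommRing A] [IsDomain A] [IsDiscreteValuationRing A]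
    [Field K] [Algebra A K] [IsFractionRing A K] [CharP K p] {π : A} (hπ : Irreducible π)
    (hperf : ∀ a : A, ∃ r : A, residue A a = residue A r ^ p) (x : K) :
    ∃ h : K, (∃ a : A, x - (h ^ p - h) = algebraMap A K a) ∨
      ∃ (j : ℕ) (u : Aˣ), ¬ p ∣ j ∧ (x - (h ^ p - h)) * algebraMap A K π ^ j = algebraMap A K u := by
  haveI : ExpChar K p := ExpChar.prime hp
  have hπK : algebraMap A K π ≠ 0 := (map_ne_zero_iff _ (IsFractionRing.injective A K)).mpr hπ.ne_zero
  suffices H : ∀ (n : ℕ) (x : K) (a : A), x * algebraMap A K π ^ n = algebraMap A K a →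
      ∃ h : K, (∃ a : A, x - (h ^ p - h) = algebraMap A K a) ∨
        ∃ (j : ℕ) (u : Aˣ), ¬ p ∣ j ∧ (x - (h ^ p - h)) * algebraMap A K π ^ j = algebraMap A K u by
    obtain ⟨a, b, hb, rfl⟩ := IsFractionRing.div_surjective A x
    obtain ⟨n, v, hv⟩ := IsDiscreteValuationRing.eq_unit_mul_pow_irreducible (nonZeroDivisors.ne_zero hb) hπ
    refine H n _ ((v⁻¹ : Aˣ) * a) ?_
    have hb' : algebraMap A K b ≠ 0 := IsFractionRing.to_map_ne_zero_of_mem_nonZeroDivisors hb
    rw [div_mul_eq_mul_div, div_eq_iff hb', ← map_pow, ← map_mul, ← map_mul, hv]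
    congr 1
    linear_combination (-a * π ^ n) * v.inv_mul
  intro n
  induction n using Nat.strong_induction_on with
  | _ n ih =>
    intro x a hx
    rcases Nat.eq_zero_or_pos n with rfl | hn
    · exact ⟨0, Or.inl ⟨a, by rw [zero_pow hp.ne_zero, sub_zero, sub_zero, ← hx, pow_zero, mul_one]⟩⟩
    have step : ∀ (y : K) (s : A), y * algebraMap A K π ^ n = algebraMap A K (π * s) →
        ∃ h : K, (∃ a : A, y - (h ^ p - h) = algebraMap A K a) ∨
          ∃ (j : ℕ) (u : Aˣ), ¬ p ∣ j ∧ (y - (h ^ p - h)) * algebraMap A K π ^ j = algebraMap A K u := by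
      intro y s hy
      refine ih (n - 1) (by omega) y s (mul_right_cancel₀ hπK ?_)
      rw [mul_assoc, ← pow_succ, Nat.sub_add_cancel hn, hy, map_mul, mul_comm]
    by_cases ha : IsUnit a
    swap
    · rw [← mem_nonunits_iff, ← mem_maximalIdeal, hπ.maximalIdeal_eq, Ideal.mem_span_singleton] at ha
      obtain ⟨s, rfl⟩ := ha
      exact step x s hx
    by_cases hd : p ∣ n
    swap
    · exact ⟨0, Or.inr ⟨n, ha.unit, hd, by rw [zero_pow hp.ne_zero, sub_zero, sub_zero, hx, IsUnit.unit_spec]⟩⟩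
    obtain ⟨m, rfl⟩ := hd
    obtain ⟨r, hr⟩ := hperf a
    obtain ⟨s, hs⟩ : π ∣ a - r ^ p := by
      rw [← Ideal.mem_span_singleton, ← hπ.maximalIdeal_eq, ← residue_eq_zero_iff, map_sub, map_pow, hr, sub_self]
    have hm : m < p * m := by
      have hm0 : 0 < m := Nat.pos_of_mul_pos_left hn
      exact lt_mul_of_one_lt_left hm0 hp.one_lt
    let h₁ : K := algebraMap A K r / algebraMap A K π ^ m
    obtain ⟨h₂, hh⟩ := step (x - (h₁ ^ p - h₁)) (s + π ^ (p * m - m - 1) * r) (by
      have e1 : h₁ ^ p * algebraMap A K π ^ (p * m) = algebraMap A K r ^ p := by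
        rw [mul_comm p m, div_pow, ← pow_mul, div_mul_cancel₀ _ (pow_ne_zero _ hπK)]
      have e2 : h₁ * algebraMap A K π ^ (p * m) = algebraMap A K r * algebraMap A K π ^ (p * m - m) := by
        conv_lhs => rw [← Nat.add_sub_cancel' hm.le, pow_add]
        rw [← mul_assoc, div_mul_cancel₀ _ (pow_ne_zero _ hπK)]
      rw [sub_mul, sub_mul, hx, e1, e2, ← map_pow, ← map_pow, ← map_mul, ← map_sub, ← map_sub]
      congr 1
      rw [show π * (s + π ^ (p * m - m - 1) * r) = π * s + π ^ (p * m - m - 1 + 1) * r by ring,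
        Nat.sub_add_cancel (by omega), ← hs]
      ring)
    refine ⟨h₁ + h₂, ?_⟩
    have e : x - ((h₁ + h₂) ^ p - (h₁ + h₂)) = x - (h₁ ^ p - h₁) - (h₂ ^ p - h₂) := by
      rw [add_pow_expChar]; ring
    rw [e]; exact hh

section Decomp

variable {A B K L : Type u} [CommRing A] [CommRing B] [IsDomain B] [IsDiscreteValuationRing B] [Algebra A B]
  [Field K] [Field L] [Algebra A K] [Algebra B L] [IsFractionRing B L] [Algebra K L] [Algebra A L]
  [IsScalarTower A K L] [IsScalarTower A B L]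

variable (K B) in
/-- A trivial right-hand side. -/
def Triv (p : ℕ) (x : L) : Prop :=
  ∃ (a : K) (h : L) (b : B), x = algebraMap K L a + (h ^ p - h) + algebraMap B L b

/-- The decomposition into terms with distinct exponents. -/
theorem decompose (p : ℕ) (hp : p.Prime) [CharP L p] {π : A} (hπ : Irreducible (algebraMap A B π))
    (hcore : ∀ b : B, (∀ n : ℕ, ∃ y : B, residue B y ^ p ^ n = residue B b) → ∃ a : A, residue B (algebraMap A B a) = residue B b)
    (x : L) : ∃ (n : ℕ) (s : Finset ℕ) (c : ℕ → B) (k : ℕ → ℕ),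
      (∀ i ∈ s, 0 < i ∧ i ≤ n ∧ (∀ r : B, residue B (c i) ≠ residue B r ^ p) ∧ (0 < k i → ¬ p ∣ i)) ∧
      Triv B K p (x - ∑ i ∈ s, algebraMap B L (c i) ^ p ^ k i / algebraMap A L π ^ i) := by
  classical
  haveI : ExpChar L p := ExpChar.prime hp
  have hπL : algebraMap A L π ≠ 0 := by
    rw [IsScalarTower.algebraMap_apply A B L]
    exact (map_ne_zero_iff _ (IsFractionRing.injective B L)).mpr hπ.ne_zero
  suffices H : ∀ (n : ℕ) (x : L) (b : B), x * algebraMap A L π ^ n = algebraMap B L b →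
      ∃ (s : Finset ℕ) (c : ℕ → B) (k : ℕ → ℕ),
      (∀ i ∈ s, 0 < i ∧ i ≤ n ∧ (∀ r : B, residue B (c i) ≠ residue B r ^ p) ∧ (0 < k i → ¬ p ∣ i)) ∧
      Triv B K p (x - ∑ i ∈ s, algebraMap B L (c i) ^ p ^ k i / algebraMap A L π ^ i) by
    obtain ⟨a, b, hb, rfl⟩ := IsFractionRing.div_surjective B x
    obtain ⟨n, v, hv⟩ := IsDiscreteValuationRing.eq_unit_mul_pow_irreducible (nonZeroDivisors.ne_zero hb) hπ
    refine ⟨n, H n _ ((v⁻¹ : Bˣ) * a) ?_⟩
    have hb' : algebraMap B L b ≠ 0 := IsFractionRing.to_map_ne_zero_of_mem_nonZeroDivisors hb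
    rw [IsScalarTower.algebraMap_apply A B L, div_mul_eq_mul_div, div_eq_iff hb', ← map_pow, ← map_mul, ← map_mul, hv]
    congr 1
    linear_combination (-a * algebraMap A B π ^ n) * v.inv_mul
  intro n
  induction n using Nat.strong_induction_on with
  | _ n ih =>
    intro x b hx
    rcases Nat.eq_zero_or_pos n with rfl | hn
    · exact ⟨∅, fun _ => 0, fun _ => 0, fun i hi => absurd hi (Finset.notMem_empty i), 0, 0, b, by
        rw [pow_zero, mul_one] at hx
        simp [hx, zero_pow hp.ne_zero]⟩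
    have step : ∀ (y : L) (s : B), y * algebraMap A L π ^ n = algebraMap B L (algebraMap A B π * s) →
        ∃ (s : Finset ℕ) (c : ℕ → B) (k : ℕ → ℕ),
        (∀ i ∈ s, 0 < i ∧ i ≤ n - 1 ∧ (∀ r : B, residue B (c i) ≠ residue B r ^ p) ∧ (0 < k i → ¬ p ∣ i)) ∧
        Triv B K p (y - ∑ i ∈ s, algebraMap B L (c i) ^ p ^ k i / algebraMap A L π ^ i) := by
      intro y s hy
      refine ih (n - 1) (by omega) y s (mul_right_cancel₀ hπL ?_)
      rw [mul_assoc, ← pow_succ, Nat.sub_add_cancel hn, hy, map_mul, ← IsScalarTower.algebraMap_apply A B L, mul_comm]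
    have hdiv : ∀ z : B, residue B z = 0 → algebraMap A B π ∣ z := fun z hz => by
      rwa [residue_eq_zero_iff, hπ.maximalIdeal_eq, Ideal.mem_span_singleton] at hz
    have weaken : ∀ (y : L), Triv B K p (x - y) → (∃ (s : Finset ℕ) (c : ℕ → B) (k : ℕ → ℕ),
        (∀ i ∈ s, 0 < i ∧ i ≤ n - 1 ∧ (∀ r : B, residue B (c i) ≠ residue B r ^ p) ∧ (0 < k i → ¬ p ∣ i)) ∧
        Triv B K p (y - ∑ i ∈ s, algebraMap B L (c i) ^ p ^ k i / algebraMap A L π ^ i)) →
        ∃ (s : Finset ℕ) (c : ℕ → B) (k : ℕ → ℕ),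
        (∀ i ∈ s, 0 < i ∧ i ≤ n ∧ (∀ r : B, residue B (c i) ≠ residue B r ^ p) ∧ (0 < k i → ¬ p ∣ i)) ∧
        Triv B K p (x - ∑ i ∈ s, algebraMap B L (c i) ^ p ^ k i / algebraMap A L π ^ i) := by
      rintro y ⟨a₁, h₁, b₁, e₁⟩ ⟨s, c, k, hs, a₂, h₂, b₂, e₂⟩
      refine ⟨s, c, k, fun i hi => ⟨(hs i hi).1, (hs i hi).2.1.trans (Nat.sub_le n 1), (hs i hi).2.2⟩, a₁ + a₂, h₁ + h₂, b₁ + b₂, ?_⟩
      rw [map_add, map_add, add_pow_expChar]
      linear_combination e₁ + e₂
    by_cases hb : IsUnit b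
    swap
    · rw [← mem_nonunits_iff, ← mem_maximalIdeal, hπ.maximalIdeal_eq, Ideal.mem_span_singleton] at hb
      obtain ⟨s, rfl⟩ := hb
      exact weaken x ⟨0, 0, 0, by simp [zero_pow hp.ne_zero]⟩ (step x s hx)
    by_cases hA : ∃ a : A, residue B (algebraMap A B a) = residue B b
    · obtain ⟨a, ha⟩ := hA
      obtain ⟨s, hs⟩ := hdiv (b - algebraMap A B a) (by rw [map_sub, ha, sub_self])
      refine weaken (x - algebraMap A L a / algebraMap A L π ^ n)
        ⟨algebraMap A K a / algebraMap A K π ^ n, 0, 0, ?_⟩ (step _ s ?_)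
      · rw [map_div₀, map_pow, ← IsScalarTower.algebraMap_apply, ← IsScalarTower.algebraMap_apply, zero_pow hp.ne_zero, map_zero]
        ring
      · rw [sub_mul, div_mul_cancel₀ _ (pow_ne_zero _ hπL), hx, IsScalarTower.algebraMap_apply A B L, ← map_sub, hs]
    obtain ⟨k₀, hk₀⟩ : ∃ k, ¬ ∃ y : B, residue B y ^ p ^ k = residue B b := by
      by_contra hall
      push Not at hall
      exact hA (hcore b hall)
    have hex : ∃ k, ¬ ∃ y : B, residue B y ^ p ^ k = residue B b := ⟨k₀, hk₀⟩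
    have hk1 : Nat.find hex ≠ 0 := fun h0 => Nat.find_spec hex (by
      rw [h0]; exact ⟨b, by rw [pow_zero, pow_one]⟩)
    obtain ⟨k, hk⟩ := Nat.exists_eq_succ_of_ne_zero hk1
    obtain ⟨c₀, hc₀⟩ := not_not.mp (Nat.find_min hex (show k < Nat.find hex by omega))
    have hc₀' : ∀ r : B, residue B c₀ ≠ residue B r ^ p := fun r hr => Nat.find_spec hex (by
      rw [hk]; exact ⟨r, by rw [← hc₀, hr, ← pow_mul, pow_succ, mul_comm]⟩)
    by_cases hterm : 0 < k → ¬ p ∣ n
    · obtain ⟨s, hs⟩ := hdiv (b - c₀ ^ p ^ k) (by rw [map_sub, map_pow, hc₀, sub_self])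
      obtain ⟨S, c, kk, hS, hT⟩ := step (x - algebraMap B L c₀ ^ p ^ k / algebraMap A L π ^ n) s (by
        rw [sub_mul, div_mul_cancel₀ _ (pow_ne_zero _ hπL), hx, ← map_pow, ← map_sub, hs])
      have hnS : n ∉ S := fun h => by have := (hS n h).2.1; omega
      refine ⟨insert n S, Function.update c n c₀, Function.update kk n k, fun i hi => ?_, ?_⟩
      · rcases Finset.mem_insert.mp hi with rfl | hi'
        · simp only [Function.update_self]
          exact ⟨hn, le_rfl, hc₀', hterm⟩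
        · have hne : i ≠ n := fun h => hnS (h ▸ hi')
          simp only [Function.update_of_ne hne]
          exact ⟨(hS i hi').1, (hS i hi').2.1.trans (Nat.sub_le n 1), (hS i hi').2.2⟩
      · rw [Finset.sum_insert hnS]
        simp only [Function.update_self]
        rw [← sub_sub, Finset.sum_congr rfl fun i hi => by
          have hne : i ≠ n := fun h => hnS (h ▸ hi)
          rw [Function.update_of_ne hne, Function.update_of_ne hne]]
        exact hT
    · push Not at hterm
      obtain ⟨hk0, hd⟩ := hterm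
      obtain ⟨m, rfl⟩ := hd
      let r := c₀ ^ p ^ (k - 1)
      have hr : residue B b = residue B r ^ p := by
        rw [map_pow, ← pow_mul, ← pow_succ, Nat.sub_add_cancel hk0, hc₀]
      obtain ⟨s, hs⟩ := hdiv (b - r ^ p) (by rw [map_sub, map_pow (residue B) r p, hr, sub_self])
      have hm : m < p * m := lt_mul_of_one_lt_left (Nat.pos_of_mul_pos_left hn) hp.one_lt
      let h₁ : L := algebraMap B L r / algebraMap A L π ^ m
      refine weaken (x - (h₁ ^ p - h₁)) ⟨0, h₁, 0, by simp⟩ (step _ (s + algebraMap A B π ^ (p * m - m - 1) * r) ?_)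
      have e1 : h₁ ^ p * algebraMap A L π ^ (p * m) = algebraMap B L r ^ p := by
        rw [mul_comm p m, div_pow, ← pow_mul, div_mul_cancel₀ _ (pow_ne_zero _ hπL)]
      have e2 : h₁ * algebraMap A L π ^ (p * m) = algebraMap B L r * algebraMap A L π ^ (p * m - m) := by
        conv_lhs => rw [← Nat.add_sub_cancel' hm.le, pow_add]
        rw [← mul_assoc, div_mul_cancel₀ _ (pow_ne_zero _ hπL)]
      rw [sub_mul, sub_mul, hx, e1, e2, IsScalarTower.algebraMap_apply A B L, ← map_pow, ← map_pow, ← map_mul, ← map_sub, ← map_sub]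
      congr 1
      rw [show algebraMap A B π * (s + algebraMap A B π ^ (p * m - m - 1) * r) =
          algebraMap A B π * s + algebraMap A B π ^ (p * m - m - 1 + 1) * r by ring,
        Nat.sub_add_cancel (by omega), ← hs]
      ring

end Decomp

end Groth.Agent.EtRamLib.ASForm
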