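import Groth.Agent.EtRamLib.TotGen
import Groth.Agent.EtRamLib.ASNormalForm
import Groth.Prelude.Def_EtRam
import Mathlib

/-! The base extension killing the constant part of an Artin–Schreier equation. -/

set_option autoImplicit false
set_option linter.all false
universe u

open IsLocalRing Polynomial

namespace Groth.Agent.EtRamLib.ASBase

theorem root_val {A K E : Type u} [CommRing A] [IsDomain A] [IsDiscreteValuationRing A] [Field K] [Algebra A K]
    [IsFractionRing A K] [Field E] [Algebra K E] [Algebra A E] [IsScalarTower A K E] {π : A} (hπ : Irreducible π)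
    {q N : ℕ} (hq : 0 < q) (hN : 0 < N) {z : E} (hz : algebraMap A E π = z ^ q + algebraMap A E (π ^ N) * z)
    (V : ValuationSubring E) (hV : DegP.Dom A V) :
    V.valuation z ^ q = V.valuation (algebraMap A E π) := by
  have h0 := DegP.vpi_pos (K := K) hπ (V := V)
  have h1 := DegP.vpi_lt_one hπ hV
  have hzlt : V.valuation z < 1 := by
    by_contra hge
    push Not at hge
    have h2 : V.valuation (algebraMap A E (π ^ N) * z) < V.valuation (z ^ q) := by
      rw [map_mul, map_pow (algebraMap A E), map_pow, map_pow]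
      calc V.valuation (algebraMap A E π) ^ N * V.valuation z < 1 * V.valuation z :=
            mul_lt_mul_of_pos_right (pow_lt_one₀ zero_le' h1 hN.ne') (lt_of_lt_of_le one_pos hge)
        _ ≤ V.valuation z ^ q := by rw [one_mul]; exact le_self_pow hge hq.ne'
    have h3 : V.valuation (algebraMap A E π) = V.valuation (z ^ q) := by
      rw [hz]; exact Valuation.map_add_eq_of_lt_left _ h2
    rw [map_pow] at h3
    exact absurd (h3 ▸ one_le_pow₀ hge : 1 ≤ V.valuation (algebraMap A E π)) (not_le.mpr h1)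
  rw [← map_pow, show z ^ q = algebraMap A E π - algebraMap A E (π ^ N) * z by rw [hz]; ring]
  refine Valuation.map_sub_eq_of_lt_left _ ?_
  rw [map_mul, map_pow (algebraMap A E), map_pow]
  calc V.valuation (algebraMap A E π) ^ N * V.valuation z < V.valuation (algebraMap A E π) ^ N * 1 :=
        mul_lt_mul_of_pos_left hzlt (pow_pos h0 N)
    _ ≤ V.valuation (algebraMap A E π) := by rw [mul_one]; exact pow_le_of_le_one zero_le' h1.le hN.ne'

/-- A root of a separable monic polynomial in a separable extension of bounded degree. -/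
theorem exists_root_ext {K : Type u} [Field K] (f : K[X]) (hfm : f.Monic) (hfs : f.Separable) (hfd : f.natDegree ≠ 0) :
    ∃ (E : Type u) (_ : Field E) (_ : Algebra K E) (_ : FiniteDimensional K E) (_ : Algebra.IsSeparable K E) (z : E),
      aeval z f = 0 ∧ Module.finrank K E ≤ f.natDegree := by
  obtain ⟨g, hg, hgf⟩ := exists_irreducible_of_natDegree_ne_zero hfd
  haveI := Fact.mk hg
  let pb := AdjoinRoot.powerBasis hg.ne_zero
  have hroot : aeval (AdjoinRoot.root g) f = 0 := by
    obtain ⟨c, hc⟩ := hgf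
    rw [hc, map_mul, AdjoinRoot.aeval_eq, AdjoinRoot.mk_self, zero_mul]
  refine ⟨AdjoinRoot g, inferInstance, inferInstance, pb.finite, ?_, AdjoinRoot.root g, hroot, ?_⟩
  · have hs : IsSeparable K (AdjoinRoot.root g) := hfs.of_dvd (minpoly.dvd K _ hroot)
    haveI := (IntermediateField.isSeparable_adjoin_simple_iff_isSeparable K (AdjoinRoot g)).mpr hs
    rw [IntermediateField.adjoin_root_eq_top g] at this
    exact AlgEquiv.Algebra.isSeparable IntermediateField.topEquiv
  · rw [pb.finrank]
    exact natDegree_le_of_dvd hgf hfm.ne_zero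

theorem adjoin_eq_top_of_span {K L : Type u} [Field K] [Field L] [Algebra K L] {e : ℕ} {t : L}
    (h : ∀ x : L, ∃ c : Fin e → K, x = ∑ l, algebraMap K L (c l) * t ^ (l : ℕ)) : Algebra.adjoin K ({t} : Set L) = ⊤ := by
  refine eq_top_iff.mpr fun x _ => ?_
  obtain ⟨c, rfl⟩ := h x
  exact sum_mem fun l _ => mul_mem (Subalgebra.algebraMap_mem _ _) (pow_mem (Algebra.subset_adjoin (Set.mem_singleton t)) _)

set_option maxHeartbeats 800000 in
theorem exists_base (p : ℕ) (hp : p.Prime) {A K : Type u} [CommRing A] [IsDomain A] [IsDiscreteValuationRing A]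
    [Field K] [Algebra A K] [IsFractionRing A K] [CharP K p] {π : A} (hπ : Irreducible π)
    (hperf : ∀ a : A, ∃ r : A, residue A a = residue A r ^ p) (a : K) (Q N : ℕ) (hQ : 0 < Q) (hN : 0 < N) :
    ∃ (K₁ : Type u) (_ : Field K₁) (_ : Algebra K K₁) (_ : FiniteDimensional K K₁) (_ : Algebra.IsSeparable K K₁)
      (z ϖ W₀ b : K₁) (e : ℕ),
      0 < e ∧ Module.finrank K K₁ = e ∧ Algebra.adjoin K ({ϖ} : Set K₁) = ⊤ ∧
      algebraMap K K₁ (algebraMap A K π) = z ^ p ^ Q + algebraMap K K₁ (algebraMap A K (π ^ N)) * z ∧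
      algebraMap K K₁ a = W₀ ^ p - W₀ + b ∧
      EtRam.IsTotallyRamified A ((algebraMap K K₁).comp (algebraMap A K)) ∧
      (∀ V : ValuationSubring K₁, EtRam.Dominates A ((algebraMap K K₁).comp (algebraMap A K)) V → b ∈ V) ∧
      ∀ (E : Type u) [Field E] [Algebra K₁ E] [Algebra A E] [Algebra K E] [IsScalarTower A K E] [IsScalarTower K K₁ E]
        (V : ValuationSubring E), DegP.Dom A V →
        V.valuation (algebraMap K₁ E ϖ) ^ e = V.valuation (algebraMap A E π) ∧
          V.valuation (algebraMap K₁ E z) ^ p ^ Q = V.valuation (algebraMap A E π) := by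
  classical
  haveI : ExpChar K p := ExpChar.prime hp
  let q := p ^ Q
  have hq : 1 < q := Nat.one_lt_pow hQ.ne' hp.one_lt
  let eK : K := algebraMap A K (π ^ N)
  have he : eK ≠ 0 := fun h => pow_ne_zero N hπ.ne_zero (IsFractionRing.injective A K (h.trans (map_zero _).symm))
  let f : K[X] := X ^ q + (C eK * X - C (algebraMap A K π))
  have hdlt : (C eK * X - C (algebraMap A K π) : K[X]).degree < (q : WithBot ℕ) := by
    refine lt_of_le_of_lt (degree_sub_le _ _) (max_lt ?_ (lt_of_le_of_lt degree_C_le (by exact_mod_cast (by omega : 0 < q))))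
    rw [degree_C_mul_X he]
    exact_mod_cast hq
  have hfm : f.Monic := monic_X_pow_add hdlt
  have hfd : f.natDegree = q := natDegree_eq_of_degree_eq_some (by
    rw [degree_add_eq_left_of_degree_lt (by rwa [degree_X_pow]), degree_X_pow])
  have hfs : f.Separable := by
    rw [separable_def]
    have : derivative f = C eK := by
      simp only [f, q, map_add, map_sub, derivative_X_pow, derivative_C_mul, derivative_X, derivative_C, Nat.cast_pow,
        CharP.cast_eq_zero, zero_pow hQ.ne', map_zero, zero_mul, zero_add, sub_zero, mul_one]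
    rw [this]
    exact ⟨0, C eK⁻¹, by rw [zero_mul, zero_add, ← C_mul, inv_mul_cancel₀ he, C_1]⟩
  obtain ⟨Kz, _, _, _, _, z, hz, hzd⟩ := exists_root_ext f hfm hfs (by omega)
  rw [hfd] at hzd
  letI : Algebra A Kz := ((algebraMap K Kz).comp (algebraMap A K)).toAlgebra
  haveI : IsScalarTower A K Kz := IsScalarTower.of_algebraMap_eq fun _ => rfl
  have hz' : algebraMap A Kz π = z ^ q + algebraMap A Kz (π ^ N) * z := by
    simp only [f, map_add, map_sub, map_mul, aeval_X_pow, aeval_X, aeval_C, eK] at hz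
    rw [IsScalarTower.algebraMap_apply A K Kz, IsScalarTower.algebraMap_apply A K Kz (π ^ N)]
    linear_combination -hz
  have hTR := TotGen.of_pow (K := K) hπ (by omega : 0 < q) (t := z) hzd
    fun V hV => root_val (K := K) hπ (by omega) hN hz' V hV
  obtain ⟨⟨Vz, hVz⟩, huniq, hres⟩ := hTR.tot
  obtain ⟨hdvr, hmaxz⟩ := hTR.isDVR hπ (by omega) hVz
  haveI := hdvr
  haveI : CharP Kz p := charP_of_injective_algebraMap (algebraMap K Kz).injective p
  haveI : ExpChar Kz p := ExpChar.prime hp
  have hzV : z ∈ Vz := (Vz.valuation_le_one_iff z).mp (hTR.t_pos hπ (by omega) hVz).2.le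
  have hzirr : Irreducible (⟨z, hzV⟩ : Vz) :=
    (IsDiscreteValuationRing.irreducible_iff_uniformizer _).mpr (hmaxz hzV)
  have hperfz : ∀ x : Vz, ∃ r : Vz, residue Vz x = residue Vz r ^ p := fun x => by
    obtain ⟨a₁, ha₁⟩ := hres Vz hVz (residue Vz x)
    obtain ⟨r, hr⟩ := hperf a₁
    let g := RingHom.codRestrict (algebraMap A Kz) Vz hVz.1
    haveI : IsLocalHom g := ⟨fun y hy => by
      by_contra hu
      exact (hVz.2 y ((mem_maximalIdeal y).mpr hu)).ne ((Vz.valuation_eq_one_iff _).mp hy)⟩
    refine ⟨g r, ?_⟩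
    rw [← ha₁]
    show residue Vz (g a₁) = _
    rw [show residue Vz (g a₁) = ResidueField.map g (residue A a₁) from rfl, hr, map_pow]
    rfl
  have compat : ∀ (E : Type u) [Field E] [Algebra Kz E] [Algebra A E] [Algebra K E] [IsScalarTower A K E]
      [IsScalarTower K Kz E] (V : ValuationSubring E), DegP.Dom A V →
      V.valuation (algebraMap Kz E z) ^ q = V.valuation (algebraMap A E π) ∧
        ∀ u : Vz, IsUnit u → V.valuation (algebraMap Kz E (u : Kz)) = 1 := by
    intro E _ _ _ _ _ _ V hV
    have hA : ∀ x, algebraMap Kz E (algebraMap A Kz x) = algebraMap A E x := fun x => by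
      rw [IsScalarTower.algebraMap_apply A K Kz, ← IsScalarTower.algebraMap_apply K Kz E, ← IsScalarTower.algebraMap_apply A K E]
    refine ⟨root_val (K := K) hπ (by omega) hN (by rw [← hA π, ← hA (π ^ N), ← map_pow, ← map_mul, ← map_add, hz']) V hV,
      fun u hu => ?_⟩
    have hd : DegP.Dom A (V.comap (algebraMap Kz E)) := by
      refine ⟨fun x => show algebraMap Kz E (algebraMap A Kz x) ∈ V by rw [hA]; exact hV.1 x, fun x hx => ?_⟩
      refine ((V.comap (algebraMap Kz E)).valuation_lt_one_iff ⟨_, show algebraMap Kz E (algebraMap A Kz x) ∈ V by rw [hA]; exact hV.1 x⟩).mp fun hu' => ?_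
      have h2 := (V.valuation_eq_one_iff _).mp (hu'.map (EtRam.inclOfComap V (algebraMap Kz E)))
      rw [EtRam.inclOfComap_apply_coe] at h2
      exact (hV.2 x hx).ne (hA x ▸ h2)
    have heq := huniq Vz _ hVz hd
    subst heq
    exact (V.valuation_eq_one_iff _).mp (hu.map (EtRam.inclOfComap V (algebraMap Kz E)))
  obtain ⟨h, hcase⟩ := ASForm.reduce_perfect p hp (A := Vz) (K := Kz) hzirr hperfz (algebraMap K Kz a)
  rcases hcase with ⟨b, hb⟩ | ⟨j, u, hj, hu⟩
  · refine ⟨Kz, inferInstance, inferInstance, inferInstance, inferInstance, z, z, h, (b : Kz), q, by omega, hTR.rank,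
      adjoin_eq_top_of_span hTR.span, ?_, ?_, hTR.tot, fun V hV => ?_, fun E _ _ _ _ _ _ V hV => ?_⟩
    · rw [← IsScalarTower.algebraMap_apply A K Kz, ← IsScalarTower.algebraMap_apply A K Kz]; exact hz'
    · rw [show (b : Kz) = algebraMap Vz Kz b from rfl, ← hb]; ring
    · rw [← huniq Vz V hVz hV]; exact b.2
    · exact ⟨(compat E V hV).1, (compat E V hV).1⟩
  let a' : Kz := algebraMap K Kz a - (h ^ p - h)
  let g₂ : Kz[X] := X ^ p + (-X - C a')
  have hdlt₂ : (-X - C a' : Kz[X]).degree < (p : WithBot ℕ) := by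
    refine lt_of_le_of_lt (degree_sub_le _ _) (max_lt ?_ (lt_of_le_of_lt degree_C_le (by exact_mod_cast hp.pos)))
    rw [degree_neg, degree_X]
    exact_mod_cast hp.one_lt
  have hgm : g₂.Monic := monic_X_pow_add hdlt₂
  have hgd : g₂.natDegree = p := natDegree_eq_of_degree_eq_some (by
    rw [degree_add_eq_left_of_degree_lt (by rwa [degree_X_pow]), degree_X_pow])
  have hgs : g₂.Separable := by
    rw [separable_def]
    have : derivative g₂ = -1 := by
      simp only [g₂, map_add, map_sub, map_neg, derivative_X_pow, derivative_X, derivative_C, CharP.cast_eq_zero,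
        map_zero, zero_mul, zero_add, sub_zero]
    rw [this]
    exact ⟨0, -1, by ring⟩
  obtain ⟨K₁, _, _, _, _, w, hw, hwd⟩ := exists_root_ext g₂ hgm hgs (by rw [hgd]; exact hp.ne_zero)
  rw [hgd] at hwd
  simp only [g₂, map_add, map_sub, map_neg, aeval_X_pow, aeval_X, aeval_C] at hw
  letI : Algebra K K₁ := ((algebraMap Kz K₁).comp (algebraMap K Kz)).toAlgebra
  haveI : IsScalarTower K Kz K₁ := IsScalarTower.of_algebraMap_eq fun _ => rfl
  haveI : FiniteDimensional K K₁ := Module.Finite.trans Kz K₁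
  haveI : Algebra.IsSeparable K K₁ := Algebra.IsSeparable.trans K Kz K₁
  letI : Algebra A K₁ := ((algebraMap K K₁).comp (algebraMap A K)).toAlgebra
  haveI : IsScalarTower A K K₁ := IsScalarTower.of_algebraMap_eq fun _ => rfl
  have hgcd : (1 : ℤ) = j * Nat.gcdA j p + p * Nat.gcdB j p := by
    rw [← Nat.gcd_eq_gcd_ab, Nat.coprime_comm.mp (hp.coprime_iff_not_dvd.mpr hj)]; rfl
  let ϖ : K₁ := w ^ (-Nat.gcdA j p) * (algebraMap Kz K₁ z) ^ Nat.gcdB j p
  have hvals : ∀ (E : Type u) [Field E] [Algebra K₁ E] [Algebra A E] [Algebra K E] [IsScalarTower A K E]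
      [IsScalarTower K K₁ E] (V : ValuationSubring E), DegP.Dom A V →
      V.valuation (algebraMap K₁ E ϖ) ^ (p * q) = V.valuation (algebraMap A E π) ∧
        V.valuation (algebraMap K₁ E (algebraMap Kz K₁ z)) ^ q = V.valuation (algebraMap A E π) := by
    intro E _ _ _ _ _ _ V hV
    letI : Algebra Kz E := ((algebraMap K₁ E).comp (algebraMap Kz K₁)).toAlgebra
    haveI : IsScalarTower Kz K₁ E := IsScalarTower.of_algebraMap_eq fun _ => rfl
    haveI : IsScalarTower K Kz E := IsScalarTower.of_algebraMap_eq fun x => by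
      show _ = algebraMap K₁ E (algebraMap Kz K₁ (algebraMap K Kz x))
      rw [← IsScalarTower.algebraMap_apply K Kz K₁, ← IsScalarTower.algebraMap_apply K K₁ E]
    obtain ⟨hzE, hunitE⟩ := compat E V hV
    let G := V.valuation (algebraMap Kz E z)
    have hπ1 := DegP.vpi_lt_one hπ hV
    have hπ0 := DegP.vpi_pos (K := K) hπ (V := V)
    have hG0 : 0 < G := zero_lt_iff.mpr fun h0 => by
      rw [show V.valuation (algebraMap Kz E z) = G from rfl, h0, zero_pow (by omega)] at hzE
      exact hπ0.ne hzE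
    have hG1 : G < 1 := not_le.mp fun hle => (one_le_pow₀ hle (n := q)).not_gt (hzE ▸ hπ1)
    have hj0 : j ≠ 0 := fun h0 => hj (h0 ▸ dvd_zero p)
    have ha' : V.valuation (algebraMap Kz E a') = (G ^ j)⁻¹ := by
      refine eq_inv_of_mul_eq_one_left ?_
      have h2 := congrArg (fun x => V.valuation (algebraMap Kz E x)) hu
      simp only [map_mul, map_pow] at h2
      rw [show V.valuation (algebraMap Kz E (algebraMap Vz Kz (u : Vz))) = 1 from hunitE u u.isUnit] at h2
      exact h2
    have hbig : 1 < V.valuation (algebraMap Kz E a') := by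
      rw [ha']; exact (one_lt_inv₀ (pow_pos hG0 j)).mpr (pow_lt_one₀ hG0.le hG1 hj0)
    have hwE : algebraMap Kz E a' = algebraMap K₁ E w ^ p - algebraMap K₁ E w := by
      rw [IsScalarTower.algebraMap_apply Kz K₁ E, ← map_pow, ← map_sub]
      congr 1
      linear_combination -hw
    have hw1 : 1 < V.valuation (algebraMap K₁ E w) := not_le.mp fun hle => by
      refine (not_le.mpr hbig) ?_
      rw [hwE]
      exact V.valuation.map_sub_le (by rw [map_pow]; exact pow_le_one' hle p) hle
    have hwp : V.valuation (algebraMap K₁ E w) ^ p = (G ^ j)⁻¹ := by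
      rw [← ha', hwE, Valuation.map_sub_eq_of_lt_left _ (by
        rw [map_pow]
        calc V.valuation (algebraMap K₁ E w) = V.valuation (algebraMap K₁ E w) ^ 1 := (pow_one _).symm
          _ < _ := pow_lt_pow_right₀ hw1 hp.one_lt), map_pow]
    have hϖ : V.valuation (algebraMap K₁ E ϖ) ^ p = G := by
      rw [map_mul, map_zpow₀, map_zpow₀, map_mul, map_zpow₀, map_zpow₀, ← IsScalarTower.algebraMap_apply Kz K₁ E, mul_pow,
        ← zpow_natCast (V.valuation (algebraMap K₁ E w) ^ _), ← zpow_mul, mul_comm (-Nat.gcdA j p), zpow_mul,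
        zpow_natCast (V.valuation (algebraMap K₁ E w)) p, hwp, inv_zpow', ← zpow_natCast G j, ← zpow_mul,
        show V.valuation (algebraMap Kz E z) = G from rfl, ← zpow_natCast (G ^ _) p, ← zpow_mul, ← zpow_add₀ hG0.ne']
      convert zpow_one G using 2
      rw [hgcd]; ring
    refine ⟨by rw [pow_mul, hϖ]; exact hzE, ?_⟩
    rw [← IsScalarTower.algebraMap_apply Kz K₁ E]; exact hzE
  have hle : Module.finrank K K₁ ≤ p * q := by
    rw [← Module.finrank_mul_finrank K Kz K₁, hTR.rank, mul_comm]
    exact Nat.mul_le_mul_right _ hwd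
  have hTR₁ := TotGen.of_pow (K := K) hπ (Nat.mul_pos hp.pos (by omega : 0 < q)) (t := ϖ) hle
    fun V hV => (hvals K₁ V hV).1
  refine ⟨K₁, inferInstance, inferInstance, inferInstance, inferInstance, algebraMap Kz K₁ z, ϖ,
    algebraMap Kz K₁ h + w, 0, p * q, Nat.mul_pos hp.pos (by omega), hTR₁.rank,
    adjoin_eq_top_of_span hTR₁.span, ?_, ?_, hTR₁.tot, fun V hV => V.zero_mem, fun E _ _ _ _ _ _ V hV => hvals E V hV⟩
  · rw [IsScalarTower.algebraMap_apply K Kz K₁, IsScalarTower.algebraMap_apply K Kz K₁ (algebraMap A K (π ^ N)),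
      ← IsScalarTower.algebraMap_apply A K Kz, ← IsScalarTower.algebraMap_apply A K Kz, ← map_pow, ← map_mul, ← map_add, hz']
  · haveI : CharP K₁ p := charP_of_injective_algebraMap (algebraMap K K₁).injective p
    haveI : ExpChar K₁ p := ExpChar.prime hp
    simp only [a', map_sub, map_pow] at hw
    rw [IsScalarTower.algebraMap_apply K Kz K₁, add_pow_expChar, add_zero]
    linear_combination -hw

end Groth.Agent.EtRamLib.ASBase
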