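import Groth.Agent.EtRamLib.ASWeakSol
import Mathlib

/-! Weak solutions for Galois extensions of degree `p` over weakly unramified extensions in characteristic `p`. -/

set_option autoImplicit false
set_option linter.all false
universe u

open IsLocalRing

namespace Groth.Agent.EtRamLib.ASWeak

theorem charP_residue (p : ℕ) (hp : p.Prime) (A K : Type u) [CommRing A] [IsLocalRing A] [Field K] [Algebra A K]
    (hinj : Function.Injective (algebraMap A K)) [CharP K p] : CharP (ResidueField A) p := by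
  haveI : CharP A p := (RingHom.charP_iff (algebraMap A K) hinj p).mpr ‹_›
  refine (CharP.charP_iff_prime_eq_zero hp).mpr ?_
  rw [← map_natCast (residue A), CharP.cast_eq_zero, map_zero]

variable (p : ℕ) (hp : p.Prime) {A B C K L M : Type u}
  [CommRing A] [IsDomain A] [IsDiscreteValuationRing A] [CommRing B] [IsDomain B] [IsDiscreteValuationRing B]
  [CommRing C] [IsDomain C] [IsDiscreteValuationRing C]
  [Algebra A B] [Algebra B C]
  [IsLocalHom (algebraMap A B)] [IsLocalHom (algebraMap B C)]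
  [Field K] [Field L] [Field M] [Algebra A K] [IsFractionRing A K] [Algebra B L] [IsFractionRing B L]
  [Algebra C M] [Algebra K L] [Algebra L M] [Algebra K M] [IsScalarTower K L M]
  [Algebra A L] [IsScalarTower A K L] [IsScalarTower A B L] [Algebra B M] [IsScalarTower B L M] [IsScalarTower B C M]
  [CharP K p]

set_option maxHeartbeats 3200000 in
include hp in
theorem exists_weak (hw : EtRam.IsWeaklyUnramified A B) [IsGalois L M] (hdeg : Module.finrank L M = p)
    (hk : ∀ x : ResidueField B, (∀ n : ℕ, ∃ y : ResidueField B, y ^ (p ^ n) = x) ↔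
      x ∈ Set.range (algebraMap (ResidueField A) (ResidueField B))) :
    ∃ (K₁ : Type u) (_ : Field K₁) (_ : Algebra K K₁), FiniteDimensional K K₁ ∧ Algebra.IsSeparable K K₁ ∧
      EtRam.IsTotallyRamified A ((algebraMap K K₁).comp (algebraMap A K)) ∧ EtRam.IsWeakSolution C K M K₁ := by
  classical
  obtain ⟨π, hπ⟩ := IsDiscreteValuationRing.exists_irreducible A
  have hπB : Irreducible (algebraMap A B π) := (IsDiscreteValuationRing.irreducible_iff_uniformizer _).mpr (by
    rw [← hw, hπ.maximalIdeal_eq, Ideal.map_span, Set.image_singleton])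
  haveI : CharP L p := charP_of_injective_algebraMap (algebraMap K L).injective p
  haveI hcA : CharP (ResidueField A) p := charP_residue p hp A K (IsFractionRing.injective A K)
  haveI hcB : CharP (ResidueField B) p := charP_residue p hp B L (IsFractionRing.injective B L)
  haveI : ExpChar (ResidueField B) p := ExpChar.prime hp
  obtain ⟨y, ξ, hy, hygen⟩ := exists_generator p hp L M hdeg
  -- the residue field of `A` is the perfect core
  have hcore : ∀ b : B, (∀ n : ℕ, ∃ r : B, residue B r ^ p ^ n = residue B b) →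
      ∃ a : A, residue B (algebraMap A B a) = residue B b := by
    intro b hb
    obtain ⟨x, hx⟩ := (hk (residue B b)).mp fun n => by
      obtain ⟨r, hr⟩ := hb n
      exact ⟨residue B r, hr⟩
    obtain ⟨a, rfl⟩ := residue_surjective x
    exact ⟨a, hx⟩
  have hperf : ∀ a : A, ∃ r : A, residue A a = residue A r ^ p := by
    intro a
    let x : ResidueField B := algebraMap (ResidueField A) (ResidueField B) (residue A a)
    have hx : ∀ n, ∃ u : ResidueField B, u ^ p ^ n = x := (hk x).mpr ⟨_, rfl⟩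
    obtain ⟨u, hu⟩ := hx 1
    rw [pow_one] at hu
    obtain ⟨v, hv⟩ := (hk u).mp fun n => by
      obtain ⟨u', hu'⟩ := hx (n + 1)
      refine ⟨u', frobenius_inj (ResidueField B) p ?_⟩
      rw [frobenius_def, frobenius_def, ← pow_mul, ← pow_succ, hu', hu]
    obtain ⟨r, rfl⟩ := residue_surjective v
    refine ⟨r, (algebraMap (ResidueField A) (ResidueField B)).injective ?_⟩
    rw [map_pow, hv, hu]
  obtain ⟨n, s, c, k, hs, aξ, hξ0, bξ, hTriv⟩ := ASForm.decompose (K := K) p hp hπB hcore ξ
  let Q := s.sup k + 1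
  let N := n + 2
  obtain ⟨K₁, _, _, _, _, z, ϖ, W₀, bK, e, he, hrank, hgenK, hzeq, haeq, htot, hbK, hval⟩ :=
    ASBase.exists_base p hp hπ hperf aξ Q N (Nat.succ_pos _) (Nat.succ_pos _)
  refine ⟨K₁, inferInstance, inferInstance, inferInstance, inferInstance, htot, ?_⟩
  intro M₁ _ _ _ _ _ _ hadj W hW
  letI : Algebra L M₁ := ((algebraMap M M₁).comp (algebraMap L M)).toAlgebra
  haveI : IsScalarTower L M M₁ := IsScalarTower.of_algebraMap_eq fun _ => rfl
  haveI : IsScalarTower K L M₁ := IsScalarTower.of_algebraMap_eq fun x => by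
    show _ = algebraMap M M₁ (algebraMap L M (algebraMap K L x))
    rw [← IsScalarTower.algebraMap_apply K L M, ← IsScalarTower.algebraMap_apply K M M₁]
  letI : Algebra B M₁ := ((algebraMap L M₁).comp (algebraMap B L)).toAlgebra
  haveI : IsScalarTower B L M₁ := IsScalarTower.of_algebraMap_eq fun _ => rfl
  letI : Algebra A M₁ := ((algebraMap K M₁).comp (algebraMap A K)).toAlgebra
  haveI : IsScalarTower A K M₁ := IsScalarTower.of_algebraMap_eq fun _ => rfl
  haveI : CharP M₁ p := charP_of_injective_algebraMap (algebraMap K M₁).injective p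
  haveI : ExpChar M₁ p := ExpChar.prime hp
  have hABM : ∀ x : A, algebraMap B M₁ (algebraMap A B x) = algebraMap A M₁ x := fun x => by
    show algebraMap L M₁ (algebraMap B L (algebraMap A B x)) = algebraMap K M₁ (algebraMap A K x)
    rw [← IsScalarTower.algebraMap_apply A B L, IsScalarTower.algebraMap_apply A K L, ← IsScalarTower.algebraMap_apply K L M₁]
  have hWB : EtRam.Dominates B (algebraMap B M₁) W := by
    have he' : ∀ b, algebraMap B M₁ b = ((algebraMap M M₁).comp (algebraMap C M)) (algebraMap B C b) := fun b => by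
      show algebraMap M M₁ (algebraMap L M (algebraMap B L b)) = algebraMap M M₁ (algebraMap C M (algebraMap B C b))
      rw [← IsScalarTower.algebraMap_apply B L M, ← IsScalarTower.algebraMap_apply B C M]
    exact ⟨fun b => by rw [he']; exact hW.1 _, fun b hb => by
      rw [he']; exact hW.2 _ ((mem_maximalIdeal _).mpr fun hu => (mem_maximalIdeal _).mp hb (hu.of_map (algebraMap B C)))⟩
  have hWA : DegP.Dom A W := ⟨fun x => by rw [← hABM]; exact hWB.1 _, fun x hx => by
    rw [← hABM]; exact hWB.2 _ ((mem_maximalIdeal _).mpr fun hu => (mem_maximalIdeal _).mp hx (hu.of_map (algebraMap A B)))⟩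
  let g := algebraMap K₁ M₁
  -- the field `L(ϖ)`
  have hintϖ : IsIntegral L (g ϖ) :=
    (((Algebra.IsIntegral.isIntegral (R := K) ϖ).map (IsScalarTower.toAlgHom K K₁ M₁))).tower_top
  let L₁ := IntermediateField.adjoin L ({g ϖ} : Set M₁)
  haveI : FiniteDimensional L L₁ := IntermediateField.adjoin.finiteDimensional hintϖ
  have hL₁ : Module.finrank L L₁ ≤ e := by
    rw [IntermediateField.adjoin.finrank hintϖ, ← hrank]
    refine le_trans (Polynomial.natDegree_le_of_dvd (minpoly.dvd L _ ?_)
      ((minpoly.monic (Algebra.IsIntegral.isIntegral (R := K) ϖ)).map (algebraMap K L)).ne_zero) ?_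
    · rw [Polynomial.aeval_map_algebraMap, Polynomial.aeval_algebraMap_apply, minpoly.aeval, map_zero]
    · rw [Polynomial.natDegree_map]; exact minpoly.natDegree_le ϖ
  have hK₁L₁ : ∀ x : K₁, g x ∈ L₁ := fun x => by
    have hx : x ∈ Algebra.adjoin K ({ϖ} : Set K₁) := by rw [hgenK]; trivial
    induction hx using Algebra.adjoin_induction with
    | mem u hu => rw [Set.mem_singleton_iff] at hu; subst hu; exact IntermediateField.mem_adjoin_simple_self L _
    | algebraMap r =>
      rw [show g (algebraMap K K₁ r) = algebraMap L M₁ (algebraMap K L r) by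
        rw [← IsScalarTower.algebraMap_apply K L M₁, ← IsScalarTower.algebraMap_apply K K₁ M₁]]
      exact L₁.algebraMap_mem _
    | add _ _ _ _ h1 h2 => rw [map_add]; exact add_mem h1 h2
    | mul _ _ _ _ h1 h2 => rw [map_mul]; exact mul_mem h1 h2
  let gK : K₁ →+* L₁ := g.codRestrict L₁ hK₁L₁
  letI : Algebra K₁ L₁ := gK.toAlgebra
  letI : Algebra K L₁ := ((algebraMap L L₁).comp (algebraMap K L)).toAlgebra
  letI : Algebra B L₁ := ((algebraMap L L₁).comp (algebraMap B L)).toAlgebra
  letI : Algebra A L₁ := ((algebraMap K L₁).comp (algebraMap A K)).toAlgebra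
  haveI : IsScalarTower B L L₁ := IsScalarTower.of_algebraMap_eq fun _ => rfl
  haveI : IsScalarTower A K L₁ := IsScalarTower.of_algebraMap_eq fun _ => rfl
  haveI : IsScalarTower K K₁ L₁ := IsScalarTower.of_algebraMap_eq fun x => Subtype.ext (by
    show algebraMap L M₁ (algebraMap K L x) = g (algebraMap K K₁ x)
    rw [← IsScalarTower.algebraMap_apply K L M₁, ← IsScalarTower.algebraMap_apply K K₁ M₁])
  have hABL : ∀ x : A, algebraMap B L₁ (algebraMap A B x) = algebraMap A L₁ x := fun x => Subtype.ext (by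
    show algebraMap B M₁ (algebraMap A B x) = algebraMap L M₁ (algebraMap K L (algebraMap A K x))
    rw [hABM, ← IsScalarTower.algebraMap_apply K L M₁]; rfl)
  have hTR := TotGen.of_pow (A := B) (K := L) (L := L₁) hπB he (t := gK ϖ) hL₁ fun V hV => by
    have hVA : DegP.Dom A V := ⟨fun x => by rw [← hABL]; exact hV.1 _, fun x hx => by
      rw [← hABL]; exact hV.2 _ ((mem_maximalIdeal _).mpr fun hu => (mem_maximalIdeal _).mp hx (hu.of_map (algebraMap A B)))⟩
    rw [hABL]; exact (hval L₁ V hVA).1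
  let j : L₁ →+* M₁ := algebraMap L₁ M₁
  let V₁ := W.comap j
  have hV₁ : DegP.Dom B V₁ := by
    have hmem : ∀ b, algebraMap B L₁ b ∈ V₁ := fun b => show algebraMap B M₁ b ∈ W from hWB.1 b
    refine ⟨hmem, fun b hb => (V₁.valuation_lt_one_iff ⟨_, hmem b⟩).mp fun hu => ?_⟩
    have h1 := (W.valuation_eq_one_iff _).mp (hu.map (EtRam.inclOfComap W j))
    exact (hWB.2 b hb).ne h1
  obtain ⟨hdvr, hmax₁⟩ := hTR.isDVR hπB he hV₁
  haveI := hdvr
  have hV₁A : DegP.Dom A V₁ := ⟨fun x => by rw [← hABL]; exact hV₁.1 _, fun x hx => by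
    rw [← hABL]; exact hV₁.2 _ ((mem_maximalIdeal _).mpr fun hu => (mem_maximalIdeal _).mp hx (hu.of_map (algebraMap A B)))⟩
  obtain ⟨hϖe, hzq⟩ := hval L₁ V₁ hV₁A
  let G := V₁.valuation (algebraMap A L₁ π)
  have hG0 : 0 < G := by
    show 0 < V₁.valuation (algebraMap A L₁ π)
    rw [← hABL]; exact DegP.vpi_pos (K := L) hπB
  have hG1 : G < 1 := by
    show V₁.valuation (algebraMap A L₁ π) < 1
    rw [← hABL]; exact DegP.vpi_lt_one hπB hV₁
  let t := gK ϖ
  obtain ⟨ht0, ht1⟩ := hTR.t_pos hπB he hV₁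
  have htV : t ∈ V₁ := (V₁.valuation_le_one_iff t).mp ht1.le
  have htirr : Irreducible (⟨t, htV⟩ : V₁) :=
    (IsDiscreteValuationRing.irreducible_iff_uniformizer _).mpr (hmax₁ htV)
  let z₁ := gK z
  let q := p ^ Q
  have hq : 0 < q := pow_pos hp.pos Q
  have hz0 : 0 < V₁.valuation z₁ := zero_lt_iff.mpr fun h0 => by
    have := hzq; rw [show V₁.valuation (algebraMap K₁ L₁ z) = V₁.valuation z₁ from rfl, h0, zero_pow hq.ne'] at this
    exact hG0.ne this
  have hz1 : V₁.valuation z₁ < 1 := not_le.mp fun hle => (one_le_pow₀ hle (n := q)).not_gt (by rw [show V₁.valuation z₁ ^ q = G from hzq]; exact hG1)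
  have hz₁ : z₁ ≠ 0 := fun h0 => hz0.ne' (by rw [h0, map_zero])
  have hπz : algebraMap A L₁ π = z₁ ^ q + algebraMap A L₁ (π ^ N) * z₁ := by
    have h1 := congrArg gK hzeq
    rw [map_add, map_mul, map_pow] at h1
    rw [show algebraMap A L₁ π = gK (algebraMap K K₁ (algebraMap A K π)) from IsScalarTower.algebraMap_apply K K₁ L₁ _, h1]
    congr 2
    exact (IsScalarTower.algebraMap_apply K K₁ L₁ _).symm
  -- the element `z₁` has valuation a power of `t`
  obtain ⟨mz, hmz⟩ : ∃ mz : ℕ, V₁.valuation z₁ = V₁.valuation t ^ mz := by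
    obtain ⟨m, hm⟩ := hTR.values V₁ hV₁ z₁ hz₁
    have hm0 : 0 ≤ m := by
      by_contra hlt
      refine hz1.not_ge ?_
      rw [hm, ← zpow_zero (V₁.valuation t)]
      exact (zpow_right_strictAnti₀ ht0 ht1).antitone (by omega)
    obtain ⟨m', rfl⟩ := Int.eq_ofNat_of_zero_le hm0
    exact ⟨m', by rw [hm, zpow_natCast]⟩
  have hmz0 : 0 < mz := Nat.pos_of_ne_zero fun h0 => hz1.ne (by rw [hmz, h0, pow_zero])
  -- rewriting the equation
  let r : ℕ → ℕ := fun i => i * p ^ (Q - k i)
  have hkQ : ∀ i ∈ s, k i < Q := fun i hi => Nat.lt_succ_of_le (Finset.le_sup hi)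
  let cL : ℕ → L₁ := fun i => algebraMap B L₁ (c i)
  let x : ℕ → L₁ := fun i => cL i / z₁ ^ r i
  haveI : CharP L₁ p := charP_of_injective_algebraMap (algebraMap L L₁).injective p
  haveI : ExpChar L₁ p := ExpChar.prime hp
  have hterm : ∀ i ∈ s, ∃ (H : L₁) (β : L₁), β ∈ V₁ ∧
      algebraMap L L₁ (algebraMap B L (c i) ^ p ^ k i / algebraMap A L π ^ i) = x i + (H ^ p - H) + β := by
    intro i hi
    obtain ⟨H, hH⟩ := wp_iterate p hp (x i) (k i)
    have hxi : x i ^ p ^ k i = cL i ^ p ^ k i / (z₁ ^ q) ^ i := by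
      simp only [x, r, q]
      rw [div_pow, ← pow_mul, ← pow_mul]
      congr 2
      rw [mul_assoc, ← pow_add, Nat.sub_add_cancel (hkQ i hi).le, mul_comm]
    have hP : algebraMap L L₁ (algebraMap A L π) = algebraMap A L₁ π := Subtype.ext (by
      show algebraMap L M₁ (algebraMap A L π) = algebraMap L M₁ (algebraMap K L (algebraMap A K π))
      rw [← IsScalarTower.algebraMap_apply A K L])
    refine ⟨H, cL i ^ p ^ k i * (1 / algebraMap A L₁ π ^ i - 1 / (z₁ ^ q) ^ i), mul_mem (pow_mem (hV₁.1 _) _) ?_, ?_⟩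
    · refine inv_pow_sub_mem V₁ hπz hG0 hG1 (by rw [map_pow]; exact hzq) (N := N) ?_ (hs i hi).1
        (by have := (hs i hi).2.1; omega)
      rw [map_mul, map_pow (algebraMap A L₁), map_pow]
      exact mul_le_of_le_one_right' hz1.le
    · rw [← hH, hxi, map_div₀, map_pow, map_pow, hP]
      show cL i ^ p ^ k i / _ = _
      ring
  choose! H β hβ hterm' using hterm
  have hbK₁ : gK bK ∈ V₁ := by
    have hA : ∀ w, gK (algebraMap K K₁ (algebraMap A K w)) = algebraMap A L₁ w := fun w =>
      (IsScalarTower.algebraMap_apply K K₁ L₁ _).symm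
    refine hbK (V₁.comap gK) ⟨fun w => show gK (algebraMap K K₁ (algebraMap A K w)) ∈ V₁ by rw [hA]; exact hV₁A.1 w, fun w hw' => ?_⟩
    refine ((V₁.comap gK).valuation_lt_one_iff ⟨_, show gK (algebraMap K K₁ (algebraMap A K w)) ∈ V₁ by rw [hA]; exact hV₁A.1 w⟩).mp fun hu => ?_
    have h1 := (V₁.valuation_eq_one_iff _).mp (hu.map (EtRam.inclOfComap V₁ gK))
    rw [EtRam.inclOfComap_apply_coe] at h1
    exact (hV₁A.2 w hw').ne (hA w ▸ h1)
  let HH : L₁ := algebraMap L L₁ hξ0 + gK W₀ + ∑ i ∈ s, H i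
  let β₀ : L₁ := gK bK + algebraMap B L₁ bξ + ∑ i ∈ s, β i
  have hβ₀ : β₀ ∈ V₁ := add_mem (add_mem hbK₁ (hV₁.1 _)) (sum_mem fun i hi => hβ i hi)
  have hξeq : algebraMap L L₁ ξ = (HH ^ p - HH) + (β₀ + ∑ i ∈ s, x i) := by
    have h1 : algebraMap L L₁ (algebraMap K L aξ) = gK W₀ ^ p - gK W₀ + gK bK := by
      rw [show algebraMap L L₁ (algebraMap K L aξ) = gK (algebraMap K K₁ aξ) from IsScalarTower.algebraMap_apply K K₁ L₁ aξ,
        haeq, map_add, map_sub, map_pow]
    have h2 := congrArg (algebraMap L L₁) (sub_eq_iff_eq_add.mp hTriv)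
    rw [h2, map_add, map_add, map_add, map_sum, Finset.sum_congr rfl hterm', h1, map_sub, map_pow,
      ← IsScalarTower.algebraMap_apply B L L₁]
    simp only [HH, β₀]
    rw [add_pow_expChar, add_pow_expChar, sum_pow_char p s H, Finset.sum_add_distrib, Finset.sum_add_distrib,
      Finset.sum_sub_distrib]
    ring
  letI : Algebra V₁ M₁ := (j.comp V₁.subtype).toAlgebra
  haveI : IsScalarTower V₁ L₁ M₁ := IsScalarTower.of_algebraMap_eq fun _ => rfl
  haveI : CharP (ResidueField V₁) p := charP_residue p hp V₁ L₁ Subtype.val_injective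
  let y₁ : M₁ := algebraMap M M₁ y - j HH
  let η : L₁ := β₀ + ∑ i ∈ s, x i
  have hy₁ : y₁ ^ p - y₁ = j η := by
    have h1 : (algebraMap M M₁ y) ^ p - algebraMap M M₁ y = j (algebraMap L L₁ ξ) := by
      rw [← map_pow, ← map_sub, hy]; rfl
    have h2 : j η = j (algebraMap L L₁ ξ) - ((j HH) ^ p - j HH) := by
      rw [hξeq, ← map_pow, ← map_sub, ← map_sub]; congr 1; ring
    rw [h2, sub_pow_expChar, ← h1]; ring
  have hgen₁ : IntermediateField.adjoin L₁ ({y₁} : Set M₁) = ⊤ := by
    let F := IntermediateField.adjoin L₁ ({y₁} : Set M₁)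
    have hy' : algebraMap M M₁ y ∈ F := by
      rw [show algebraMap M M₁ y = y₁ + j HH from (sub_add_cancel _ _).symm]
      exact add_mem (IntermediateField.mem_adjoin_simple_self L₁ _) (F.algebraMap_mem HH)
    have hM : ∀ m : M, algebraMap M M₁ m ∈ F := fun m => by
      have hm : m ∈ IntermediateField.adjoin L ({y} : Set M) := by rw [hygen]; trivial
      induction hm using IntermediateField.adjoin_induction with
      | mem u hu => rw [Set.mem_singleton_iff] at hu; subst hu; exact hy'
      | algebraMap l => rw [← IsScalarTower.algebraMap_apply L M M₁]; exact F.algebraMap_mem (algebraMap L L₁ l)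
      | add _ _ _ _ h1 h2 => rw [map_add]; exact add_mem h1 h2
      | inv _ _ h1 => rw [map_inv₀]; exact inv_mem h1
      | mul _ _ _ _ h1 h2 => rw [map_mul]; exact mul_mem h1 h2
    refine eq_top_iff.mpr fun m hm0 => ?_
    clear hm0
    have hm : m ∈ Algebra.adjoin M (Set.range (algebraMap K₁ M₁)) := by rw [hadj]; trivial
    induction hm using Algebra.adjoin_induction with
    | mem u hu => obtain ⟨u, rfl⟩ := hu; exact F.algebraMap_mem (gK u)
    | algebraMap u => exact hM u
    | add _ _ _ _ h1 h2 => exact add_mem h1 h2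
    | mul _ _ _ _ h1 h2 => exact mul_mem h1 h2
  let P : Polynomial V₁ := Polynomial.X ^ p - Polynomial.X
  have hPm : P.Monic := Polynomial.monic_X_pow_sub (by rw [Polynomial.degree_X]; exact_mod_cast hp.one_lt)
  have hPd : P.natDegree = p := Polynomial.natDegree_eq_of_degree_eq_some (by
    rw [Polynomial.degree_sub_eq_left_of_degree_lt (by rw [Polynomial.degree_X_pow, Polynomial.degree_X]; exact_mod_cast hp.one_lt),
      Polynomial.degree_X_pow])
  have hPr : P.map (residue V₁) = Polynomial.X ^ p - Polynomial.X := by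
    simp only [P, Polynomial.map_sub, Polynomial.map_pow, Polynomial.map_X]
  have haeval : Polynomial.aeval y₁ P = algebraMap L₁ M₁ η := by
    simp only [P, map_sub, Polynomial.aeval_X_pow, Polynomial.aeval_X]; exact hy₁
  have hWV₁ : EtRam.Dominates V₁ (algebraMap V₁ M₁) W := ⟨fun v => v.2, fun v hv =>
    (W.valuation_lt_one_iff (EtRam.inclOfComap W j v)).mp (map_nonunit (EtRam.inclOfComap W j) v hv)⟩
  have hweak : (maximalIdeal V₁).map (RingHom.codRestrict (algebraMap V₁ M₁) W hWV₁.1) = maximalIdeal W := by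
    haveI : IsLocalHom (RingHom.codRestrict (algebraMap V₁ M₁) W hWV₁.1) := EtRam.isLocalHom_inclOfComap W j
    letI : Algebra V₁ W := (RingHom.codRestrict (algebraMap V₁ M₁) W hWV₁.1).toAlgebra
    rcases s.eq_empty_or_nonempty with hse | hne
    · have hη : η ∈ V₁ := by simp only [η, hse, Finset.sum_empty, add_zero]; exact hβ₀
      haveI := (DegP.finrank_le (A := V₁) hp hPm hPd (ξ := η) haeval hgen₁).1
      have := DegP.unramified (K := L₁) htirr (P - Polynomial.C ⟨η, hη⟩)
        (hPm.sub_of_left (lt_of_le_of_lt Polynomial.degree_C_le (Polynomial.natDegree_pos_iff_degree_pos.mp (by rw [hPd]; exact hp.pos))))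
        (by
          rw [Polynomial.map_sub, hPr, Polynomial.map_C, Polynomial.separable_def]
          have hd : Polynomial.derivative (Polynomial.X ^ p - Polynomial.X - Polynomial.C (residue V₁ ⟨η, hη⟩)) = -1 := by
            simp [Polynomial.derivative_X_pow, CharP.cast_eq_zero (ResidueField V₁) p]
          rw [hd]; exact ⟨0, -1, by ring⟩)
        (z := y₁) (by rw [map_sub, haeval, Polynomial.aeval_C]; exact sub_self _) hgen₁
      exact (this W hWV₁).1
    obtain ⟨i₀, hi₀, hmaxr⟩ := s.exists_max_image r hne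
    have hinjr : ∀ i ∈ s, r i = r i₀ → i = i₀ := by
      have key : ∀ a ∈ s, ∀ b ∈ s, k b < k a → r a ≠ r b := by
        intro a ha b hb hlt heq
        refine (hs a ha).2.2.2 (by omega) ⟨b * p ^ (k a - k b - 1), ?_⟩
        have h1 : a * p ^ (Q - k a) = b * p ^ (k a - k b - 1 + 1) * p ^ (Q - k a) := by
          rw [show a * p ^ (Q - k a) = b * p ^ (Q - k b) from heq, mul_assoc, ← pow_add]
          congr 2
          have := hkQ a ha
          omega
        have h2 := Nat.eq_of_mul_eq_mul_right (pow_pos hp.pos _) h1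
        refine h2.trans ?_
        rw [pow_succ]; ring
      intro i hi heq
      rcases lt_trichotomy (k i) (k i₀) with h | h | h
      · exact absurd heq.symm (key i₀ hi₀ i hi h)
      · have heq' : i * p ^ (Q - k i₀) = i₀ * p ^ (Q - k i₀) := by rw [show r i = i * p ^ (Q - k i) from rfl, h] at heq; exact heq
        exact Nat.eq_of_mul_eq_mul_right (pow_pos hp.pos _) heq'
      · exact absurd heq (key i hi i₀ hi₀ h)
    let R := mz * r i₀
    have hr0 : 0 < r i₀ := Nat.mul_pos (hs i₀ hi₀).1 (pow_pos hp.pos _)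
    have hR : 0 < R := Nat.mul_pos hmz0 hr0
    have hpR : p ∣ R := dvd_mul_of_dvd_right (dvd_mul_of_dvd_right (dvd_pow_self p (by have := hkQ i₀ hi₀; omega)) _) _
    have hvR : V₁.valuation (t ^ R) = V₁.valuation z₁ ^ r i₀ := by rw [map_pow, hmz, ← pow_mul]
    let u₀ : L₁ := t ^ R / z₁ ^ r i₀
    have hvu₀ : V₁.valuation u₀ = 1 := by rw [map_div₀, hvR, map_pow, div_self (pow_ne_zero _ hz0.ne')]
    have hrest : V₁.valuation (η * t ^ R - cL i₀ * u₀) < 1 := by
      have e1 : η * t ^ R - cL i₀ * u₀ = β₀ * t ^ R + ∑ i ∈ s.erase i₀, x i * t ^ R := by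
        simp only [η, add_mul, Finset.sum_mul]
        rw [← Finset.add_sum_erase s (fun i => x i * t ^ R) hi₀, show x i₀ * t ^ R = cL i₀ * u₀ from div_mul_eq_mul_div _ _ _ |>.trans (mul_div_assoc _ _ _)]
        ring
      rw [e1]
      refine Valuation.map_add_lt _ ?_ (Valuation.map_sum_lt _ one_ne_zero fun i hi => ?_)
      · rw [map_mul, map_pow]
        exact lt_of_le_of_lt (mul_le_of_le_one_left' ((V₁.valuation_le_one_iff _).mpr hβ₀)) (pow_lt_one₀ zero_le' ht1 hR.ne')
      · have hi' := Finset.mem_of_mem_erase hi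
        have hlt : r i < r i₀ := lt_of_le_of_ne (hmaxr i hi') fun h => (Finset.ne_of_mem_erase hi) (hinjr i hi' h)
        rw [map_mul, hvR, map_div₀, map_pow, div_mul_eq_mul_div, mul_div_assoc, ← Nat.add_sub_cancel' hlt.le, pow_add,
          mul_div_cancel_left₀ _ (pow_ne_zero _ hz0.ne')]
        exact lt_of_le_of_lt (mul_le_of_le_one_left' ((V₁.valuation_le_one_iff _).mpr (hV₁.1 _)))
          (pow_lt_one₀ zero_le' hz1 (by omega))
    have hηmem : η * t ^ R ∈ V₁ := by
      rw [show η * t ^ R = (η * t ^ R - cL i₀ * u₀) + cL i₀ * u₀ by ring]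
      exact add_mem ((V₁.valuation_le_one_iff _).mp hrest.le) (mul_mem (hV₁.1 _) ((V₁.valuation_le_one_iff _).mp hvu₀.le))
    -- the residue of the leading coefficient
    have hAK : ∀ w, gK (algebraMap K K₁ (algebraMap A K w)) = algebraMap A L₁ w := fun w =>
      (IsScalarTower.algebraMap_apply K K₁ L₁ _).symm
    let uK : K₁ := ϖ ^ R / z ^ r i₀
    have huK : gK uK = u₀ := by simp only [uK, u₀, t, z₁, map_div₀, map_pow]
    have hu₀mem : u₀ ∈ V₁ := (V₁.valuation_le_one_iff _).mp hvu₀.le
    have hVK : EtRam.Dominates A ((algebraMap K K₁).comp (algebraMap A K)) (V₁.comap gK) := by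
      refine ⟨fun w => show gK (algebraMap K K₁ (algebraMap A K w)) ∈ V₁ by rw [hAK]; exact hV₁A.1 w, fun w hw' => ?_⟩
      refine ((V₁.comap gK).valuation_lt_one_iff ⟨_, show gK (algebraMap K K₁ (algebraMap A K w)) ∈ V₁ by rw [hAK]; exact hV₁A.1 w⟩).mp fun hu => ?_
      have h1 := (V₁.valuation_eq_one_iff _).mp (hu.map (EtRam.inclOfComap V₁ gK))
      rw [EtRam.inclOfComap_apply_coe] at h1
      exact (hV₁A.2 w hw').ne (hAK w ▸ h1)
    obtain ⟨α, hα⟩ := htot.2.2 _ hVK (residue _ (⟨uK, show gK uK ∈ V₁ by rw [huK]; exact hu₀mem⟩ : V₁.comap gK))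
    let gB : B →+* V₁ := RingHom.codRestrict (algebraMap B L₁) V₁ hV₁.1
    haveI : IsLocalHom gB := ⟨fun b hb => by
      by_contra hu
      exact (hV₁.2 b ((mem_maximalIdeal b).mpr hu)).ne ((V₁.valuation_eq_one_iff _).mp hb)⟩
    let gA : A →+* V₁ := RingHom.codRestrict (algebraMap A L₁) V₁ hV₁A.1
    have hgAB : ∀ w, gA w = gB (algebraMap A B w) := fun w => Subtype.ext (hABL w).symm
    have hu₀res : residue V₁ ⟨u₀, hu₀mem⟩ = residue V₁ (gA α) := by
      have h1 := congrArg (ResidueField.map (EtRam.inclOfComap V₁ gK)) hα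
      simp only [ResidueField.map_residue] at h1
      rw [show (⟨u₀, hu₀mem⟩ : V₁) = EtRam.inclOfComap V₁ gK ⟨uK, show gK uK ∈ V₁ by rw [huK]; exact hu₀mem⟩ from Subtype.ext huK.symm, ← h1]
      congr 1
      exact Subtype.ext (hAK α)
    have hαres : residue A α ≠ 0 := fun h0 => by
      have h1 : residue V₁ (gA α) = 0 := by
        rw [hgAB]
        exact (residue_eq_zero_iff _).mpr (map_nonunit gB _ ((mem_maximalIdeal _).mpr fun hu =>
          (mem_maximalIdeal _).mp ((residue_eq_zero_iff _).mp h0) (hu.of_map (algebraMap A B))))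
      rw [← hu₀res, residue_eq_zero_iff] at h1
      exact hvu₀.not_lt ((V₁.valuation_lt_one_iff _).mp h1)
    have hlead : residue V₁ ⟨η * t ^ R, hηmem⟩ = ResidueField.map gB (residue B (c i₀) * residue B (algebraMap A B α)) := by
      rw [map_mul, ResidueField.map_residue, ResidueField.map_residue, ← hgAB, ← hu₀res, ← map_mul, ← sub_eq_zero, ← map_sub,
        residue_eq_zero_iff]
      exact (V₁.valuation_lt_one_iff _).mpr hrest
    have hnot : ∀ r' : V₁, residue V₁ ⟨η * t ^ R, hηmem⟩ ≠ residue V₁ r' ^ p := by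
      intro r' hr'
      obtain ⟨b', hb'⟩ := hTR.tot.2.2 V₁ hV₁ (residue V₁ r')
      have hb'' : residue V₁ r' = ResidueField.map gB (residue B b') := by rw [← hb']; rfl
      rw [hlead, hb'', ← map_pow] at hr'
      have h2 := (ResidueField.map gB).injective hr'
      obtain ⟨ρ, hρ⟩ := hperf α
      have hρ' : residue B (algebraMap A B α) = residue B (algebraMap A B ρ) ^ p := by
        rw [← ResidueField.map_residue (algebraMap A B) α, hρ, map_pow, ResidueField.map_residue]
      have hρ0 : residue B (algebraMap A B ρ) ≠ 0 := fun h0 => hαres ((ResidueField.map (algebraMap A B)).injective (by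
        rw [ResidueField.map_residue, map_zero, hρ', h0, zero_pow hp.ne_zero]))
      obtain ⟨w, hw'⟩ := residue_surjective (residue B b' / residue B (algebraMap A B ρ))
      refine (hs i₀ hi₀).2.2.1 w ?_
      rw [hw', div_pow, eq_div_iff (pow_ne_zero _ hρ0), ← hρ']
      exact h2
    obtain ⟨-, -, hres3⟩ := DegP.pole_dvd (A := V₁) (K := L₁) (L := M₁) htirr hp hPm hPd hPr hR hpR hnot
      (ξ := η) (by rfl) haeval hgen₁
    exact (hres3 W hWV₁).1
  letI : Algebra (W.comap g) W := (EtRam.inclOfComap W g).toAlgebra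
  show (maximalIdeal (W.comap g)).map (EtRam.inclOfComap W g) = maximalIdeal W
  refine le_antisymm (Ideal.map_le_iff_le_comap.mpr fun v hv => map_nonunit (EtRam.inclOfComap W g) v hv) ?_
  rw [← hweak]
  refine (Ideal.map_mono (le_of_eq (hmax₁ htV))).trans ?_
  rw [Ideal.map_span, Set.image_singleton, Ideal.span_singleton_le_iff_mem]
  let ϖW : W.comap g := ⟨ϖ, show g ϖ ∈ W from htV⟩
  rw [show RingHom.codRestrict (algebraMap V₁ M₁) W hWV₁.1 ⟨t, htV⟩ = EtRam.inclOfComap W g ϖW from rfl]
  refine Ideal.mem_map_of_mem _ ((mem_maximalIdeal _).mpr fun hu => ?_)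
  have h1 := hu.map (EtRam.inclOfComap W g)
  have h2 : IsUnit (⟨t, htV⟩ : V₁) := isUnit_of_map_unit (EtRam.inclOfComap W j) _ h1
  exact htirr.not_isUnit h2

end Groth.Agent.EtRamLib.ASWeak
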