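import Groth.Agent.EtRamLib.DegP
import Mathlib.RingTheory.Polynomial.ScaleRoots
import Mathlib.FieldTheory.Galois.Basic
import Mathlib.GroupTheory.PGroup

/-!
# Equations `P(z) = ξ` with `P ≡ X^p - X`
-/

set_option autoImplicit false
set_option linter.all false
universe u

open Polynomial

namespace Groth.Agent.EtRamLib.DegP

variable {A K L : Type u} [CommRing A] [IsDomain A] [IsDiscreteValuationRing A] [Field K] [Algebra A K]
  [IsFractionRing A K] [Field L] [Algebra K L] [Algebra A L] [IsScalarTower A K L] {π : A} (hπ : Irreducible π)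
  {p : ℕ} (hp : p.Prime) {P : A[X]} (hPm : P.Monic) (hPd : P.natDegree = p)
  (hPr : P.map (IsLocalRing.residue A) = X ^ p - X)

variable (A L) in
/-- Unique dominating valuation ring, residually inseparable of degree `p`. -/
def ResInsep (p : ℕ) : Prop :=
  (∃ V : ValuationSubring L, EtRam.Dominates A (algebraMap A L) V) ∧
    (∀ V V' : ValuationSubring L, EtRam.Dominates A (algebraMap A L) V → EtRam.Dominates A (algebraMap A L) V' → V = V') ∧
    ∀ (V : ValuationSubring L) (h : EtRam.Dominates A (algebraMap A L) V),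
      letI : Algebra A V := (RingHom.codRestrict (algebraMap A L) V h.1).toAlgebra
      ∀ [IsLocalHom (algebraMap A V)],
        EtRam.IsWeaklyUnramified A V ∧
          IsPurelyInseparable (IsLocalRing.ResidueField A) (IsLocalRing.ResidueField V) ∧
          Module.finrank (IsLocalRing.ResidueField A) (IsLocalRing.ResidueField V) = p

variable (A K L) in
/-- One of the four ramification types. -/
def Four (p : ℕ) : Prop :=
  Module.finrank K L = 1 ∨ (EtRam.IsUnramifiedExt A (algebraMap A L) ∧ Module.finrank K L = p) ∨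
    (EtRam.IsTotallyRamified A (algebraMap A L) ∧ Module.finrank K L = p) ∨ ResInsep A L p

include hPm hp hPd in
theorem finrank_le {ξ : K} {z : L} (hz : aeval z P = algebraMap K L ξ) (hgen : IntermediateField.adjoin K {z} = ⊤) :
    FiniteDimensional K L ∧ Module.finrank K L ≤ p := by
  let f := P.map (algebraMap A K) - C ξ
  have hdeg : (P.map (algebraMap A K)).natDegree = p := by rw [hPm.natDegree_map, hPd]
  have hfm : f.Monic := (hPm.map _).sub_of_left (lt_of_le_of_lt degree_C_le (natDegree_pos_iff_degree_pos.mp (by rw [hdeg]; exact hp.pos)))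
  have hfz : aeval z f = 0 := by
    rw [map_sub, aeval_map_algebraMap, hz, aeval_C, sub_self]
  have hint : IsIntegral K z := ⟨f, hfm, hfz⟩
  haveI := IntermediateField.adjoin.finiteDimensional hint
  rw [hgen] at this
  refine ⟨IntermediateField.topEquiv.toLinearEquiv.finiteDimensional, ?_⟩
  rw [← IntermediateField.finrank_top', ← hgen, IntermediateField.adjoin.finrank hint]
  refine (natDegree_le_of_dvd (minpoly.dvd _ _ hfz) hfm.ne_zero).trans ?_
  rw [natDegree_sub_C, hdeg]

include hπ hp hPm hPd hPr in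
/-- Integral right-hand side. -/
theorem integral_case [CharP (IsLocalRing.ResidueField A) p] (a : A) {z : L} (hz : aeval z P = algebraMap A L a) (hgen : IntermediateField.adjoin K {z} = ⊤)
    (hdich : Module.finrank K L = 1 ∨ Module.finrank K L = p) :
    Module.finrank K L = 1 ∨ (EtRam.IsUnramifiedExt A (algebraMap A L) ∧ Module.finrank K L = p) := by
  refine hdich.imp_right fun h => ⟨?_, h⟩
  haveI : FiniteDimensional K L := (finrank_le hp hPm hPd (ξ := algebraMap A K a)
    (by rw [hz, ← IsScalarTower.algebraMap_apply]) hgen).1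
  refine unramified hπ (P - C a) (hPm.sub_of_left (lt_of_le_of_lt degree_C_le
    (natDegree_pos_iff_degree_pos.mp (by rw [hPd]; exact hp.pos)))) ?_ (by rw [map_sub, hz, aeval_C, sub_self]) hgen
  rw [Polynomial.map_sub, hPr, map_C, Polynomial.separable_def]
  have hd : derivative (X ^ p - X - C (IsLocalRing.residue A a)) = -1 + C ((p : IsLocalRing.ResidueField A)) * X ^ (p - 1) := by
    rw [derivative_sub, derivative_sub, derivative_X_pow, derivative_X, derivative_C, sub_zero]
    ring
  have hp0 : (p : IsLocalRing.ResidueField A) = 0 := CharP.cast_eq_zero _ p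
  rw [hd, hp0, C_0, zero_mul, add_zero]
  exact ⟨0, -1, by ring⟩

include hPm hPd hPr in
theorem scale_mod {m : ℕ} (hm : 0 < m) (hπ : Irreducible π) :
    ∃ D : A[X], P.scaleRoots (π ^ m) = X ^ p + C π * D := by
  obtain ⟨D, hD⟩ : C π ∣ P.scaleRoots (π ^ m) - X ^ p := by
    refine (C_dvd_iff_dvd_coeff π _).mpr fun i => ?_
    have h1 : (P.scaleRoots (π ^ m) - X ^ p).map (IsLocalRing.residue A) = 0 := by
      rw [Polynomial.map_sub, map_scaleRoots _ _ _ (by rw [hPm.leadingCoeff, map_one]; exact one_ne_zero), map_pow,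
        show IsLocalRing.residue A π = 0 by
          rw [IsLocalRing.residue_eq_zero_iff, IsLocalRing.mem_maximalIdeal]; exact hπ.not_isUnit,
        zero_pow hm.ne', scaleRoots_zero, (hPm.map _).leadingCoeff, one_smul, hPm.natDegree_map, hPd,
        Polynomial.map_pow, map_X, sub_self]
    have h2 : IsLocalRing.residue A ((P.scaleRoots (π ^ m) - X ^ p).coeff i) = 0 := by
      rw [← coeff_map, h1, coeff_zero]
    rwa [IsLocalRing.residue_eq_zero_iff, hπ.maximalIdeal_eq, Ideal.mem_span_singleton] at h2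
  exact ⟨D, by rw [← hD]; ring⟩

include hPd in
theorem scale_aeval {R : Type u} [CommRing R] [Algebra A R] (m : ℕ) (x : R) :
    aeval (algebraMap A R π ^ m * x) (P.scaleRoots (π ^ m)) = algebraMap A R π ^ (p * m) * aeval x P := by
  have := scaleRoots_eval₂_mul (p := P) (algebraMap A R) x (π ^ m)
  rw [map_pow, hPd, ← pow_mul, mul_comm m] at this
  exact this

include hπ hp hPm hPd hPr in
/-- Pole of order prime to `p`. -/
theorem pole_prime {n : ℕ} (hn : ¬ p ∣ n) {a : A} (ha : IsUnit a) {ξ : K}
    (hξ : ξ * algebraMap A K π ^ n = algebraMap A K a) {z : L} (hz : aeval z P = algebraMap K L ξ)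
    (hgen : IntermediateField.adjoin K {z} = ⊤) :
    EtRam.IsTotallyRamified A (algebraMap A L) ∧ Module.finrank K L = p := by
  obtain ⟨hfd, hfin⟩ := finrank_le hp hPm hPd hz hgen
  have hn0 : n ≠ 0 := fun h => hn (h ▸ dvd_zero p)
  have hcop : Nat.Coprime p n := hp.coprime_iff_not_dvd.mpr hn
  have hgcd : (1 : ℤ) = n * Nat.gcdA n p + p * Nat.gcdB n p := by
    rw [← Nat.gcd_eq_gcd_ab, Nat.coprime_comm.mp hcop]; rfl
  refine totallyRamified hπ hp (t := z ^ (-Nat.gcdA n p) * algebraMap A L π ^ Nat.gcdB n p) hfin fun V hV => ?_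
  have hg0 : 0 < V.valuation (algebraMap A L π) := vpi_pos (K := K) hπ
  have hg1 := vpi_lt_one hπ hV
  set g := V.valuation (algebraMap A L π) with hg
  have hvξ : V.valuation (algebraMap K L ξ) = (g ^ n)⁻¹ := by
    have h1 := congrArg (fun c => V.valuation (algebraMap K L c)) hξ
    simp only [map_mul, map_pow, ← IsScalarTower.algebraMap_apply, val_unit hV ha] at h1
    exact eq_inv_of_mul_eq_one_left h1
  have hξ1 : 1 < V.valuation (algebraMap K L ξ) := by
    rw [hvξ]; exact (one_lt_inv₀ (pow_pos hg0 n)).mpr (pow_lt_one₀ hg0.le hg1 hn0)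
  have hterm : ∀ (i : ℕ), V.valuation (algebraMap A L (P.coeff i) * z ^ i) ≤ V.valuation z ^ i := fun i => by
    rw [map_mul, map_pow]; exact mul_le_of_le_one_left' (val_le_one hV _)
  have hexp : aeval z P = z ^ p + ∑ i ∈ Finset.range p, algebraMap A L (P.coeff i) * z ^ i := by
    rw [aeval_eq_sum_range, hPd, Finset.sum_range_succ, add_comm]
    simp only [Algebra.smul_def]
    rw [show P.coeff p = 1 by rw [← hPd]; exact hPm.coeff_natDegree, map_one, one_mul]
  have hz1 : 1 < V.valuation z := not_le.mp fun hle => by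
    refine (not_le.mpr hξ1) ?_
    rw [← hz, hexp]
    exact V.valuation.map_add_le (by rw [map_pow]; exact pow_le_one' hle p)
      (V.valuation.map_sum_le fun i _ => (hterm i).trans (pow_le_one' hle i))
  have hzp : V.valuation z ^ p = (g ^ n)⁻¹ := by
    rw [← hvξ, ← hz, hexp, V.valuation.map_add_eq_of_lt_left, map_pow]
    rw [map_pow]
    refine lt_of_le_of_lt (V.valuation.map_sum_le (g := V.valuation z ^ (p - 1)) fun i hi => (hterm i).trans
      (pow_le_pow_right₀ hz1.le (by have := Finset.mem_range.mp hi; omega))) ?_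
    exact pow_lt_pow_right₀ hz1 (by have := hp.pos; omega)
  rw [map_mul, map_zpow₀, map_zpow₀, ← hg, mul_pow, ← zpow_natCast (V.valuation z ^ _), ← zpow_mul,
    mul_comm (-Nat.gcdA n p), zpow_mul, zpow_natCast (V.valuation z) p, hzp, inv_zpow', ← zpow_natCast g n,
    ← zpow_natCast (g ^ _), ← zpow_mul, ← zpow_mul, ← zpow_add₀ hg0.ne']
  convert zpow_one g using 2
  rw [hgcd]; ring

include hπ hp hPm hPd hPr in
/-- Pole of order divisible by `p` with leading coefficient not a `p`-th power. -/
theorem pole_dvd [CharP (IsLocalRing.ResidueField A) p] {n : ℕ} (hn0 : 0 < n) (hn : p ∣ n) {a : A}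
    (ha : ∀ r : A, IsLocalRing.residue A a ≠ IsLocalRing.residue A r ^ p) {ξ : K}
    (hξ : ξ * algebraMap A K π ^ n = algebraMap A K a) {z : L} (hz : aeval z P = algebraMap K L ξ)
    (hgen : IntermediateField.adjoin K {z} = ⊤) : ResInsep A L p := by
  obtain ⟨hfd, hfin⟩ := finrank_le hp hPm hPd hz hgen
  obtain ⟨m, rfl⟩ := hn
  have hm : 0 < m := Nat.pos_of_mul_pos_left hn0
  obtain ⟨D, hD⟩ := scale_mod hPm hPd hPr hm hπ
  have heq : aeval (algebraMap A L π ^ m * z) (P.scaleRoots (π ^ m)) = algebraMap A L a := by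
    rw [scale_aeval hPd, hz, IsScalarTower.algebraMap_apply A K L π, ← map_pow, ← map_mul, mul_comm, hξ,
      ← IsScalarTower.algebraMap_apply]
  refine residuallyInseparable hπ hp (t := algebraMap A L π ^ m * z) hfin ha fun V hV => ?_
  letI : Algebra A V := (RingHom.codRestrict (algebraMap A L) V.toSubring hV.1).toAlgebra
  haveI : IsScalarTower A V L := IsScalarTower.of_algebraMap_eq fun _ => rfl
  have htV : algebraMap A L π ^ m * z ∈ V := by
    have hint : IsIntegral A (algebraMap A L π ^ m * z) := ⟨P.scaleRoots (π ^ m) - C a,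
      ((monic_scaleRoots_iff _).mpr hPm).sub_of_left (lt_of_le_of_lt degree_C_le
        (natDegree_pos_iff_degree_pos.mp (by rw [natDegree_scaleRoots, hPd]; exact hp.pos))), by
      rw [← aeval_def, map_sub, heq, aeval_C, sub_self]⟩
    obtain ⟨y, hy⟩ := (IsIntegrallyClosed.isIntegral_iff (R := V) (K := L)).mp hint.tower_top
    rw [← hy]; exact y.2
  refine ⟨(V.valuation_le_one_iff _).mpr htV, ?_⟩
  have hDv : V.valuation (aeval (algebraMap A L π ^ m * z) D) ≤ 1 := by
    have h5 := V.valuation_le_one (aeval (⟨_, htV⟩ : V) D)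
    exact (aeval_algebraMap_apply L (⟨_, htV⟩ : V) D).symm ▸ h5
  rw [← heq, hD, map_add, map_mul, aeval_C, map_pow, aeval_X, sub_add_cancel_left, Valuation.map_neg, map_mul]
  exact lt_of_le_of_lt (mul_le_of_le_one_right' hDv) (vpi_lt_one hπ hV)

include hPm hPd hPr hπ in
/-- Removing a `p`-th power leading coefficient. -/
theorem remove {m : ℕ} (hm : 0 < m) {a r : A} (har : IsLocalRing.residue A a = IsLocalRing.residue A r ^ p) {ξ : K}
    (hξ : ξ * algebraMap A K π ^ (p * m) = algebraMap A K a) :
    ∃ s : A, (ξ - aeval ((algebraMap A K π ^ m)⁻¹ * algebraMap A K r) P) * algebraMap A K π ^ (p * m) =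
      algebraMap A K (π * s) := by
  obtain ⟨D, hD⟩ := scale_mod hPm hPd hPr hm hπ
  have hπK : algebraMap A K π ≠ 0 := (map_ne_zero_iff _ (IsFractionRing.injective A K)).mpr hπ.ne_zero
  have h0 : IsLocalRing.residue A (a - r ^ p) = 0 := by rw [map_sub, map_pow, har, sub_self]
  rw [IsLocalRing.residue_eq_zero_iff, hπ.maximalIdeal_eq, Ideal.mem_span_singleton] at h0
  obtain ⟨b, hb⟩ := h0
  refine ⟨b - aeval r D, ?_⟩
  have h1 := scale_aeval hPd (π := π) m ((algebraMap A K π ^ m)⁻¹ * algebraMap A K r)
  rw [mul_inv_cancel_left₀ (pow_ne_zero _ hπK), aeval_algebraMap_apply, hD, map_add, map_mul, aeval_C, map_pow,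
    aeval_X, Algebra.algebraMap_self, RingHom.id_apply] at h1
  rw [sub_mul, hξ, mul_comm _ (algebraMap A K π ^ (p * m)), ← h1, ← map_sub]
  congr 1
  linear_combination hb

/-- A group of automorphisms killed by `p`, of order at most `p`. -/
theorem dichotomy [FiniteDimensional K L] [IsGalois K L] (hp : p.Prime) (hle : Module.finrank K L ≤ p) {y : L}
    (hgen : IntermediateField.adjoin K {y} = ⊤) (hσ : ∀ σ : L ≃ₐ[K] L, (σ ^ p) y = y) :
    Module.finrank K L = 1 ∨ Module.finrank K L = p := by
  haveI := Fact.mk hp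
  have h1 : IsPGroup p (L ≃ₐ[K] L) := fun σ => by
    refine ⟨1, ?_⟩
    rw [pow_one]
    apply AlgEquiv.ext
    intro x
    have hx : x ∈ IntermediateField.adjoin K {y} := hgen ▸ IntermediateField.mem_top
    induction hx using IntermediateField.adjoin_induction with
    | mem x hx => rw [Set.mem_singleton_iff] at hx; subst hx; exact hσ σ
    | algebraMap c => exact (σ ^ p).commutes c
    | add a b _ _ ha hb => rw [map_add, ha, hb]; rfl
    | inv a _ ha => rw [map_inv₀, ha]; rfl
    | mul a b _ _ ha hb => rw [map_mul, ha, hb]; rfl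
  obtain ⟨k, hk⟩ := IsPGroup.iff_card.mp h1
  rw [IsGalois.card_aut_eq_finrank] at hk
  rcases Nat.lt_or_ge k 2 with hk2 | hk2
  · interval_cases k
    · exact Or.inl (by simpa using hk)
    · exact Or.inr (by simpa using hk)
  · exfalso
    have : p ^ 2 ≤ p ^ k := Nat.pow_le_pow_right hp.pos hk2
    nlinarith [hp.two_le]

end Groth.Agent.EtRamLib.DegP
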