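import Groth.Agent.EtRamLib.ASBaseExt
import Groth.Agent.EtRamLib.ASNormalForm
import Groth.Agent.EtRamLib.DegPPole
import Mathlib

/-! Weak solutions for Artin–Schreier extensions in characteristic `p`. -/

set_option autoImplicit false
set_option linter.all false
universe u

open IsLocalRing

namespace Groth.Agent.EtRamLib.ASWeak

/-- An Artin–Schreier generator of a Galois extension of degree `p`. -/
theorem exists_generator (p : ℕ) (hp : p.Prime) (L M : Type u) [Field L] [Field M] [Algebra L M] [CharP L p] [IsGalois L M]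
    (hdeg : Module.finrank L M = p) :
    ∃ (y : M) (ξ : L), y ^ p - y = algebraMap L M ξ ∧ IntermediateField.adjoin L ({y} : Set M) = ⊤ := by
  classical
  haveI : FiniteDimensional L M := FiniteDimensional.of_finrank_pos (hdeg ▸ hp.pos)
  haveI : CharP M p := charP_of_injective_algebraMap (algebraMap L M).injective p
  haveI : ExpChar M p := ExpChar.prime hp
  haveI := Fact.mk hp
  have hcard : Nat.card (M ≃ₐ[L] M) = p := (IsGalois.card_aut_eq_finrank L M).trans hdeg
  obtain ⟨θ, hθ⟩ := Algebra.trace_surjective L M 1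
  haveI : Nontrivial (M ≃ₐ[L] M) := Finite.one_lt_card_iff_nontrivial.mp (hcard.symm ▸ hp.one_lt)
  obtain ⟨σ, hσ⟩ := exists_ne (1 : M ≃ₐ[L] M)
  have hgen : ∀ τ : M ≃ₐ[L] M, τ ∈ Subgroup.zpowers σ := fun τ => mem_zpowers_of_prime_card hcard hσ
  have hord : orderOf σ = p := orderOf_eq_card_of_forall_mem_zpowers hgen |>.trans hcard
  have htr : ∑ i ∈ Finset.range p, (σ ^ i) θ = 1 := by
    rw [← map_one (algebraMap L M), ← hθ, trace_eq_sum_automorphisms]
    refine Finset.sum_bij (fun i _ => σ ^ i) (fun i _ => Finset.mem_univ _) (fun i hi j hj hij => ?_)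
      (fun τ _ => ?_) fun i _ => rfl
    · exact pow_injOn_Iio_orderOf (by simpa [hord] using hi) (by simpa [hord] using hj) hij
    · obtain ⟨k, hk, hk'⟩ := Finset.mem_image.mp ((mem_zpowers_iff_mem_range_orderOf (x := σ) (y := τ)).mp (hgen τ))
      exact ⟨k, hord ▸ hk, hk'⟩
  let S : ℕ → M := fun n => ∑ i ∈ Finset.range n, (i : M) * (σ ^ i) θ
  have hshift : ∀ n, σ (S n) + ∑ i ∈ Finset.range n, (σ ^ (i + 1)) θ = ∑ i ∈ Finset.range n, ((i + 1 : ℕ) : M) * (σ ^ (i + 1)) θ := by
    intro n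
    rw [map_sum, ← Finset.sum_add_distrib]
    refine Finset.sum_congr rfl fun i _ => ?_
    rw [map_mul, map_natCast, pow_succ' σ i, AlgEquiv.mul_apply]
    push_cast; ring
  have hp0 : (p : M) = 0 := CharP.cast_eq_zero M p
  have hσp : σ ^ p = 1 := by rw [← hord]; exact pow_orderOf_eq_one σ
  have hy : σ (S p) = S p - 1 := by
    have h1 := hshift p
    have h2 : ∑ i ∈ Finset.range p, (σ ^ (i + 1)) θ = 1 := by
      have h3 := Finset.sum_range_succ' (fun i => (σ ^ i) θ) p
      rw [Finset.sum_range_succ (fun i => (σ ^ i) θ), htr, hσp] at h3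
      have h4 : (1 : M) + θ = ∑ i ∈ Finset.range p, (σ ^ (i + 1)) θ + θ := by simpa using h3
      exact (add_right_cancel h4).symm
    have h5 : ∑ i ∈ Finset.range p, ((i + 1 : ℕ) : M) * (σ ^ (i + 1)) θ = S p := by
      have h3 := Finset.sum_range_succ' (fun i => (i : M) * (σ ^ i) θ) p
      rw [Finset.sum_range_succ (fun i => (i : M) * (σ ^ i) θ), hp0, zero_mul, add_zero, Nat.cast_zero, zero_mul,
        add_zero] at h3
      exact h3.symm
    rw [h2, h5] at h1
    linear_combination h1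
  let y := S p
  obtain ⟨ξ, hξ⟩ : y ^ p - y ∈ Set.range (algebraMap L M) := by
    refine (IsGalois.mem_range_algebraMap_iff_fixed _).mpr fun τ => ?_
    have hfix : σ (y ^ p - y) = y ^ p - y := by
      rw [map_sub, map_pow, hy, sub_pow_expChar, one_pow]; ring
    obtain ⟨k, -, hk⟩ := Finset.mem_image.mp ((mem_zpowers_iff_mem_range_orderOf (x := σ) (y := τ)).mp (hgen τ))
    rw [← hk]
    clear hk
    induction k with
    | zero => rfl
    | succ k ih => rw [pow_succ' σ k, AlgEquiv.mul_apply, ih, hfix]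
  refine ⟨y, ξ, hξ.symm, ?_⟩
  have hdvd : Module.finrank L (IntermediateField.adjoin L ({y} : Set M)) ∣ p :=
    ⟨Module.finrank (IntermediateField.adjoin L ({y} : Set M)) M, (hdeg ▸ (Module.finrank_mul_finrank L _ M).symm : _)⟩
  rcases hp.eq_one_or_self_of_dvd _ hdvd with h | h
  · exfalso
    obtain ⟨l, hl⟩ : y ∈ (⊥ : IntermediateField L M) := IntermediateField.finrank_adjoin_simple_eq_one_iff.mp h
    have h1 : σ y = y := by rw [← hl]; exact σ.commutes l
    rw [hy] at h1
    exact one_ne_zero (sub_eq_self.mp h1)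
  · exact IntermediateField.eq_of_le_of_finrank_le le_top (by rw [h, IntermediateField.finrank_top', hdeg])

/-- Valuation bound for the difference of inverse powers. -/
theorem inv_pow_sub_mem {E : Type u} [Field E] (V : ValuationSubring E) {P Z e : E} (h : P = Z + e) (hP0 : 0 < V.valuation P)
    (hP1 : V.valuation P < 1) (hZ : V.valuation Z = V.valuation P) {N : ℕ} (he : V.valuation e ≤ V.valuation P ^ N)
    {i : ℕ} (hi : 0 < i) (hiN : i + 1 ≤ N) : 1 / P ^ i - 1 / Z ^ i ∈ V := by
  rw [← V.valuation_le_one_iff]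
  have hP : P ≠ 0 := fun h0 => hP0.ne' (by rw [h0, map_zero])
  have hZ0 : Z ≠ 0 := fun h0 => hP0.ne' (by rw [← hZ, h0, map_zero])
  have hd : 1 / P ^ i - 1 / Z ^ i = (Z ^ i - P ^ i) / (P ^ i * Z ^ i) := by
    field_simp
  rw [hd, map_div₀, map_mul, map_pow, map_pow, hZ, div_le_one₀ (mul_pos (pow_pos hP0 i) (pow_pos hP0 i))]
  have hsum : V.valuation (∑ l ∈ Finset.range i, Z ^ l * P ^ (i - 1 - l)) ≤ V.valuation P ^ (i - 1) := by
    refine V.valuation.map_sum_le fun l hl => ?_
    rw [map_mul, map_pow, map_pow, hZ, ← pow_add]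
    exact le_of_eq (congrArg _ (by have := Finset.mem_range.mp hl; omega))
  rw [← geom_sum₂_mul, map_mul, show Z - P = -e by rw [h]; ring, Valuation.map_neg, ← pow_add]
  calc _ ≤ V.valuation P ^ (i - 1) * V.valuation P ^ N := mul_le_mul' hsum he
    _ = V.valuation P ^ (i - 1 + N) := (pow_add _ _ _).symm
    _ ≤ _ := pow_le_pow_right_of_le_one' hP1.le (by omega)

/-- `x^(p^k) - x` is in the image of `u ↦ u^p - u`. -/
theorem wp_iterate (p : ℕ) (hp : p.Prime) {E : Type u} [Field E] [CharP E p] (x : E) (k : ℕ) :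
    ∃ H : E, x ^ p ^ k = x + (H ^ p - H) := by
  haveI : ExpChar E p := ExpChar.prime hp
  induction k with
  | zero => exact ⟨0, by rw [pow_zero, pow_one, zero_pow hp.ne_zero, sub_zero, add_zero]⟩
  | succ k ih =>
    obtain ⟨H, hH⟩ := ih
    refine ⟨H + x ^ p ^ k, ?_⟩
    rw [add_pow_expChar, ← pow_mul, ← pow_succ]
    linear_combination hH

end Groth.Agent.EtRamLib.ASWeak
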