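import Groth.Agent.EtRamLib.WeakSol
import Groth.Prelude.Def_EtRam
import Mathlib

/-! Centres of valuation rings in integral closures, and transfer of geometric reducedness. -/

set_option autoImplicit false
set_option linter.all false
universe u

open IsLocalRing Polynomial TensorProduct

namespace Groth.Agent.EtRamLib.Center

theorem mem_of_isIntegral {A M : Type u} [CommRing A] [Field M] [Algebra A M] (V : ValuationSubring M)
    (h : ∀ a : A, algebraMap A M a ∈ V) {x : M} (hx : IsIntegral A x) : x ∈ V := by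
  letI : Algebra A V.toSubring := ((algebraMap A M).codRestrict V.toSubring h).toAlgebra
  haveI : IsScalarTower A V.toSubring M := IsScalarTower.of_algebraMap_eq fun _ => rfl
  exact LocalSubring.mem_of_isMax_of_isIntegral V.isMax_toLocalSubring
    (hx.tower_top (A := V.toSubring) : IsIntegral V.toLocalSubring.toSubring x)

theorem isIntegral_of_forall_mem {A M : Type u} [CommRing A] [Field M] [Algebra A M] {x : M}
    (h : ∀ V : ValuationSubring M, (∀ a : A, algebraMap A M a ∈ V) → x ∈ V) : IsIntegral A x := by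
  by_contra hx
  obtain ⟨V, hV, hxV⟩ := Subring.exists_le_valuationSubring_of_isIntegrallyClosedIn
    (R := (integralClosure A M).toSubring) hx
  exact hxV (h V fun a => hV ((integralClosure A M).algebraMap_mem a))

/-- Elements of a dominating valuation ring are fractions of integral elements with unit denominator. -/
theorem exists_fraction (A : Type u) [CommRing A] [IsDomain A] [IsDiscreteValuationRing A] {M : Type u} [Field M]
    [Algebra A M] [Algebra.IsAlgebraic A M] (hinj : Function.Injective (algebraMap A M)) (W : ValuationSubring M)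
    (hW : EtRam.Dominates A (algebraMap A M) W) {x : M} (hx : x ∈ W) :
    ∃ s t : M, IsIntegral A s ∧ IsIntegral A t ∧ W.valuation t = 1 ∧ x * t = s := by
  classical
  obtain ⟨P, hP0, hP⟩ := Algebra.IsAlgebraic.isAlgebraic (R := A) x
  -- divide by the content
  obtain ⟨g, hg⟩ := (IsPrincipalIdealRing.principal (Ideal.span (P.coeffs : Set A))).principal
  have hdvd : ∀ i, g ∣ P.coeff i := fun i => by
    by_cases h : P.coeff i = 0
    · simp [h]
    · exact Ideal.mem_span_singleton.mp ((show Ideal.span (P.coeffs : Set A) = Ideal.span {g} from hg) ▸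
        Ideal.subset_span (coeff_mem_coeffs h))
  obtain ⟨Q, hQ⟩ := (Polynomial.C_dvd_iff_dvd_coeff g P).mpr hdvd
  have hg0 : g ≠ 0 := fun h => hP0 (by rw [hQ, h, C_0, zero_mul])
  have hQx : aeval x Q = 0 := by
    rw [hQ, map_mul, aeval_C] at hP
    exact (mul_eq_zero.mp hP).resolve_left fun h => hg0 (hinj (by rw [h, map_zero]))
  have hQu : ∃ i, IsUnit (Q.coeff i) := by
    by_contra hall
    push Not at hall
    have h1 : Ideal.span (P.coeffs : Set A) ≤ Ideal.span {g} * maximalIdeal A := by
      refine Ideal.span_le.mpr fun c hc => ?_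
      obtain ⟨i, -, rfl⟩ := Polynomial.mem_coeffs_iff.mp hc
      rw [hQ, coeff_C_mul]
      exact Ideal.mul_mem_mul (Ideal.mem_span_singleton_self g) ((mem_maximalIdeal _).mpr (hall i))
    rw [show Ideal.span (P.coeffs : Set A) = Ideal.span {g} from hg] at h1
    obtain ⟨z, hz, hgz⟩ := Ideal.mem_span_singleton_mul.mp (h1 (Ideal.mem_span_singleton_self g))
    exact (mem_maximalIdeal _).mp hz (by rw [show z = 1 from mul_left_cancel₀ hg0 (hgz.trans (mul_one g).symm)]; exact isUnit_one)
  -- largest unit coefficient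
  let n := Q.natDegree
  let U := (Finset.range (n + 1)).filter fun i => IsUnit (Q.coeff i)
  have hU : U.Nonempty := by
    obtain ⟨i, hi⟩ := hQu
    exact ⟨i, Finset.mem_filter.mpr ⟨Finset.mem_range.mpr (Nat.lt_succ_of_le (le_natDegree_of_ne_zero hi.ne_zero)), hi⟩⟩
  let j := U.max' hU
  obtain ⟨hjn, hju⟩ := Finset.mem_filter.mp (U.max'_mem hU)
  let c : ℕ → M := fun i => algebraMap A M (Q.coeff i)
  let t : M := ∑ i ∈ Finset.Ico j (n + 1), c i * x ^ (i - j)
  have hjn' : j ≤ n := Nat.lt_succ_iff.mp (Finset.mem_range.mp hjn)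
  have hsplit : x ^ j * t + ∑ i ∈ Finset.range j, c i * x ^ i = 0 := by
    have h0 := hQx
    rw [aeval_eq_sum_range, ← Finset.sum_range_add_sum_Ico _ (Nat.le_succ_of_le hjn')] at h0
    rw [← h0, add_comm, Finset.mul_sum]
    congr 1
    · exact Finset.sum_congr rfl fun i _ => by rw [Algebra.smul_def]
    · refine Finset.sum_congr rfl fun i hi => ?_
      rw [Algebra.smul_def, ← Nat.add_sub_cancel' (Finset.mem_Ico.mp hi).1, pow_add, Nat.add_sub_cancel_left]
      simp only [c]; ring
  have hint : IsIntegral A t ∧ IsIntegral A (x * t) := by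
    have key : ∀ V : ValuationSubring M, (∀ a : A, algebraMap A M a ∈ V) → t ∈ V ∧ x * t ∈ V := fun V hV => by
      rcases V.mem_or_inv_mem x with h | h
      · have : t ∈ V := sum_mem fun i _ => mul_mem (hV _) (pow_mem h _)
        exact ⟨this, mul_mem h this⟩
      · rcases eq_or_ne x 0 with rfl | hx0
        · have : t ∈ V := sum_mem fun i _ => mul_mem (hV _) (pow_mem V.zero_mem _)
          exact ⟨this, by rw [zero_mul]; exact V.zero_mem⟩
        rcases Nat.eq_zero_or_pos j with hj | hj
        · have ht : t = 0 := by simpa [hj] using hsplit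
          exact ⟨by rw [ht]; exact V.zero_mem, by rw [ht, mul_zero]; exact V.zero_mem⟩
        have hxt : x * t = -∑ i ∈ Finset.range j, c i * x⁻¹ ^ (j - 1 - i) := by
          refine mul_left_cancel₀ (pow_ne_zero (j - 1) hx0) ?_
          rw [← mul_assoc, ← pow_succ, Nat.sub_add_cancel hj, mul_neg, Finset.mul_sum,
            eq_neg_iff_add_eq_zero]
          refine Eq.trans ?_ hsplit
          congr 1
          · simp only [t, Finset.mul_sum]
          rw [Finset.mul_sum]
          refine Finset.sum_congr rfl fun i hi => ?_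
          have hij : i ≤ j - 1 := Nat.le_sub_one_of_lt (Finset.mem_range.mp hi)
          conv_lhs => rw [show x ^ (j - 1) = x ^ i * x ^ (j - 1 - i) by rw [← pow_add, Nat.add_sub_cancel' hij]]
          rw [mul_comm (c i), mul_assoc, ← mul_assoc (x ^ (j - 1 - i)), ← mul_pow, mul_inv_cancel₀ hx0, one_pow, one_mul, mul_comm]
        have h2 : x * t ∈ V := hxt ▸ neg_mem (sum_mem fun i _ => mul_mem (hV _) (pow_mem h _))
        exact ⟨by rw [show t = x⁻¹ * (x * t) by field_simp]; exact mul_mem h h2, h2⟩
    exact ⟨isIntegral_of_forall_mem fun V hV => (key V hV).1, isIntegral_of_forall_mem fun V hV => (key V hV).2⟩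
  refine ⟨x * t, t, hint.2, hint.1, ?_, rfl⟩
  have hcm : ∀ i, c i ∈ W := fun i => hW.1 _
  let xW : W := ⟨x, hx⟩
  let r : W := ∑ i ∈ Finset.Ico (j + 1) (n + 1), ⟨c i, hcm i⟩ * xW ^ (i - j)
  have hr : r ∈ maximalIdeal W := sum_mem fun i hi => Ideal.mul_mem_right _ _ (by
    refine (mem_maximalIdeal _).mpr fun hu => ?_
    have h1 : ¬ IsUnit (Q.coeff i) := fun hu' => by
      have := U.le_max' i (Finset.mem_filter.mpr ⟨Finset.mem_range.mpr (Finset.mem_Ico.mp hi).2, hu'⟩)
      exact absurd (Finset.mem_Ico.mp hi).1 (by omega)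
    exact (hW.2 _ ((mem_maximalIdeal _).mpr h1)).ne ((W.valuation_eq_one_iff _).mp hu))
  have hcu : IsUnit (⟨c j, hcm j⟩ : W) := hju.map ((algebraMap A M).codRestrict W hW.1)
  have ht : (((⟨c j, hcm j⟩ : W) + r : W) : M) = t := by
    simp only [t, r, AddMemClass.coe_add, AddSubmonoidClass.coe_finsetSum, MulMemClass.coe_mul, SubmonoidClass.coe_pow]
    rw [Finset.sum_eq_sum_Ico_succ_bot (Nat.lt_succ_of_le hjn'), Nat.sub_self, pow_zero, mul_one]
  rw [← ht]
  exact (W.valuation_eq_one_iff _).mp (by
    by_contra hu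
    exact (mem_maximalIdeal _).mp ((Ideal.add_mem_iff_left _ hr).mp ((mem_maximalIdeal _).mpr hu)) hcu)

/-- Geometric reducedness only depends on the isomorphism class of the extension. -/
theorem geomReduced_transfer {k l k' l' : Type u} [Field k] [Field l] [Algebra k l] [Field k'] [Field l'] [Algebra k' l']
    (e : k ≃+* k') (f : l ≃+* l') (h : ∀ x, f (algebraMap k l x) = algebraMap k' l' (e x))
    [Algebra.IsGeometricallyReduced k l] : Algebra.IsGeometricallyReduced k' l' := by
  letI : Algebra k k' := e.toRingHom.toAlgebra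
  letI : Algebra k l' := ((algebraMap k' l').comp e.toRingHom).toAlgebra
  haveI : IsScalarTower k k' l' := IsScalarTower.of_algebraMap_eq fun _ => rfl
  haveI : Algebra.IsAlgebraic k k' := ⟨fun x => by
    obtain ⟨y, rfl⟩ := e.surjective x
    exact isAlgebraic_algebraMap (R := k) (A := k') y⟩
  haveI : Algebra.IsAlgebraic k (AlgebraicClosure k') := Algebra.IsAlgebraic.trans k k' _
  let f' : l' →ₐ[k] l :=
    { f.symm.toRingHom with
      commutes' := fun x => by
        show f.symm (algebraMap k' l' (e x)) = _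
        rw [← h, f.symm_apply_apply] }
  haveI : Algebra.IsGeometricallyReduced k l' := Algebra.IsGeometricallyReduced.of_injective f' f.symm.injective
  rw [Algebra.isGeometricallyReduced_field_iff]
  let Ω := AlgebraicClosure k'
  let q : Ω ⊗[k] l' →ₐ[k] Ω ⊗[k'] l' := Algebra.TensorProduct.lift
    ((Algebra.TensorProduct.includeLeft : Ω →ₐ[k'] Ω ⊗[k'] l').restrictScalars k)
    ((Algebra.TensorProduct.includeRight : l' →ₐ[k'] Ω ⊗[k'] l').restrictScalars k) fun _ _ => Commute.all _ _
  haveI : TensorProduct.CompatibleSMul k k' Ω l' := ⟨fun c a b => by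
    obtain ⟨y, rfl⟩ := e.surjective c
    rw [show e y = algebraMap k k' y from rfl, algebraMap_smul, algebraMap_smul, TensorProduct.smul_tmul]⟩
  let ψ : Ω ⊗[k'] l' →ₗ[k] Ω ⊗[k] l' := TensorProduct.mapOfCompatibleSMul k k' k Ω l'
  haveI : IsReduced (Ω ⊗[k] l') := inferInstance
  refine ⟨fun z hz => ?_⟩
  obtain ⟨m, hm⟩ := hz
  have hq : ∀ z, q (ψ z) = z := fun z => by
    induction z using TensorProduct.induction_on with
    | zero => simp
    | tmul a b => simp [q, ψ]
    | add a b ha hb => rw [map_add, map_add, ha, hb]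
  have hinj : Function.Injective q := Function.LeftInverse.injective (g := ψ) fun w => by
    induction w using TensorProduct.induction_on with
    | zero => simp
    | tmul a b => simp [q, ψ]
    | add a b ha hb => rw [map_add, map_add, ha, hb]
  rw [← hq z] at hm ⊢
  rw [← map_pow, ← map_zero q] at hm
  rw [IsReduced.eq_zero _ ⟨m, hinj hm⟩, map_zero]

end Groth.Agent.EtRamLib.Center
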