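import Groth.Prelude.Def_EtRam
import Mathlib.RingTheory.Valuation.LocalSubring
import Mathlib.FieldTheory.SeparableClosure
import Mathlib.FieldTheory.PurelyInseparable.Basic
import Mathlib.FieldTheory.KummerExtension
import Mathlib.RingTheory.Localization.Integral

/-!
# Degree `p` extensions of discretely valued fields: recognition of the ramification type
-/

set_option autoImplicit false
set_option linter.all false
universe u

open Polynomial

namespace Groth.Agent.EtRamLib.DegP

variable {A K L : Type u} [CommRing A] [IsDomain A] [IsDiscreteValuationRing A] [Field K] [Algebra A K]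
  [IsFractionRing A K] [Field L] [Algebra K L] [Algebra A L] [IsScalarTower A K L] {π : A} (hπ : Irreducible π)
  {p : ℕ} (hp : p.Prime)

/-- Shorthand for domination along the structure map. -/
abbrev Dom (A : Type u) [CommRing A] [IsLocalRing A] {L : Type u} [Field L] [Algebra A L] (V : ValuationSubring L) : Prop :=
  EtRam.Dominates A (algebraMap A L) V

variable (A L) in
include K in
theorem exists_dom : ∃ V : ValuationSubring L, Dom A V := by
  have hinj : Function.Injective (algebraMap A L) := by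
    rw [IsScalarTower.algebraMap_eq A K L]
    exact (algebraMap K L).injective.comp (IsFractionRing.injective A K)
  let eA : A ≃+* (algebraMap A L).range := RingEquiv.ofBijective (algebraMap A L).rangeRestrict
    ⟨fun a b h => hinj (congrArg Subtype.val h), (algebraMap A L).rangeRestrict_surjective⟩
  obtain ⟨W, hW1, hW2⟩ := Ideal.image_subset_nonunits_valuationSubring
    ((IsLocalRing.maximalIdeal A).map eA.toRingHom) (by
      intro h
      have h' := congrArg (Ideal.comap eA.toRingHom) h
      rw [Ideal.comap_map_of_bijective eA.toRingHom eA.bijective, Ideal.comap_top] at h'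
      exact (IsLocalRing.maximalIdeal.isMaximal A).ne_top h')
  exact ⟨W, fun b => hW1 ⟨b, rfl⟩, fun b hb =>
    W.mem_nonunits_iff.1 (hW2 ⟨eA b, Ideal.mem_map_of_mem _ hb, rfl⟩)⟩

section Basic

variable {V : ValuationSubring L} (hV : Dom A V)

include hV in
theorem val_le_one (a : A) : V.valuation (algebraMap A L a) ≤ 1 := (V.valuation_le_one_iff _).mpr (hV.1 a)

include hV hπ in
theorem vpi_lt_one : V.valuation (algebraMap A L π) < 1 :=
  hV.2 π ((IsLocalRing.mem_maximalIdeal π).mpr hπ.not_isUnit)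

include K in
theorem algebraMap_ne_zero {a : A} (ha : a ≠ 0) : algebraMap A L a ≠ 0 := by
  rw [IsScalarTower.algebraMap_apply A K L]
  exact (_root_.map_ne_zero _).mpr ((map_ne_zero_iff _ (IsFractionRing.injective A K)).mpr ha)

include K hπ in
theorem vpi_pos : 0 < V.valuation (algebraMap A L π) :=
  zero_lt_iff.mpr ((Valuation.ne_zero_iff _).mpr (algebraMap_ne_zero (K := K) hπ.ne_zero))

include hV in
theorem val_unit {a : A} (ha : IsUnit a) : V.valuation (algebraMap A L a) = 1 := by
  obtain ⟨a, rfl⟩ := ha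
  refine le_antisymm (val_le_one hV _) ?_
  have h2 : V.valuation (algebraMap A L (a : A)) * V.valuation (algebraMap A L ((a⁻¹ : Aˣ) : A)) = 1 := by
    rw [← map_mul, ← map_mul, Units.mul_inv, map_one, map_one]
  rw [← h2]
  exact mul_le_of_le_one_right' (val_le_one hV _)

include hV hπ in
theorem val_mem_max {a : A} (ha : ¬ IsUnit a) : V.valuation (algebraMap A L a) ≤ V.valuation (algebraMap A L π) := by
  have : a ∈ IsLocalRing.maximalIdeal A := (IsLocalRing.mem_maximalIdeal a).mpr ha
  rw [hπ.maximalIdeal_eq, Ideal.mem_span_singleton] at this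
  obtain ⟨b, rfl⟩ := this
  rw [map_mul, map_mul]
  exact mul_le_of_le_one_right' (val_le_one hV _)

include hV hπ in
theorem val_A {a : A} (ha : a ≠ 0) : ∃ m : ℕ, V.valuation (algebraMap A L a) = V.valuation (algebraMap A L π) ^ m := by
  obtain ⟨m, x, rfl⟩ := IsDiscreteValuationRing.eq_unit_mul_pow_irreducible ha hπ
  exact ⟨m, by rw [map_mul, map_mul, val_unit hV x.isUnit, one_mul, map_pow, map_pow]⟩

include hV hπ in
theorem val_K {c : K} (hc : c ≠ 0) :
    ∃ m : ℤ, V.valuation (algebraMap K L c) = V.valuation (algebraMap A L π) ^ m := by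
  obtain ⟨a, b, hb, rfl⟩ := IsFractionRing.div_surjective (A := A) c
  have ha0 : a ≠ 0 := fun h => hc (by rw [h, map_zero, zero_div])
  obtain ⟨m, hm⟩ := val_A hπ hV ha0
  obtain ⟨n, hn⟩ := val_A hπ hV (nonZeroDivisors.ne_zero hb)
  refine ⟨(m : ℤ) - n, ?_⟩
  rw [map_div₀, ← IsScalarTower.algebraMap_apply, ← IsScalarTower.algebraMap_apply, map_div₀, hm, hn,
    zpow_sub₀ (vpi_pos (K := K) hπ).ne', zpow_natCast, zpow_natCast]

include hV hπ in
theorem mem_range_of_val_le_one {c : K} (hc : V.valuation (algebraMap K L c) ≤ 1) : ∃ a : A, algebraMap A K a = c := by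
  by_cases hc0 : c = 0
  · exact ⟨0, by rw [map_zero, hc0]⟩
  obtain ⟨a, b, hb, rfl⟩ := IsFractionRing.div_surjective (A := A) c
  have ha0 : a ≠ 0 := fun h => hc0 (by rw [h, map_zero, zero_div])
  have hb0 := nonZeroDivisors.ne_zero hb
  obtain ⟨m, x, rfl⟩ := IsDiscreteValuationRing.eq_unit_mul_pow_irreducible ha0 hπ
  obtain ⟨n, y, rfl⟩ := IsDiscreteValuationRing.eq_unit_mul_pow_irreducible hb0 hπ
  rw [map_div₀, ← IsScalarTower.algebraMap_apply, ← IsScalarTower.algebraMap_apply, map_div₀, map_mul, map_mul, map_mul,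
    map_mul, val_unit hV x.isUnit, val_unit hV y.isUnit, one_mul, one_mul, map_pow, map_pow, map_pow, map_pow,
    div_le_one₀ (pow_pos (vpi_pos (K := K) hπ) n)] at hc
  have hnm : n ≤ m := (pow_le_pow_iff_right_of_lt_one₀ (vpi_pos (K := K) hπ) (vpi_lt_one hπ hV)).mp hc
  refine ⟨(x : A) * (↑y⁻¹ : A) * π ^ (m - n), ?_⟩
  rw [eq_div_iff ((map_ne_zero_iff _ (IsFractionRing.injective A K)).mpr hb0), ← map_mul]
  congr 1
  rw [← Nat.sub_add_cancel hnm, Nat.add_sub_cancel, pow_add]
  calc (x : A) * ↑y⁻¹ * π ^ (m - n) * (↑y * π ^ n) = (x : A) * π ^ (m - n) * π ^ n * (↑y⁻¹ * ↑y) := by ring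
    _ = _ := by rw [Units.inv_mul]; ring

end Basic

section Tot

variable {t : L}

theorem basis_of_li [FiniteDimensional K L] (hfin : Module.finrank K L ≤ p)
    (hli : LinearIndependent K fun i : Fin p => t ^ (i : ℕ)) :
    Module.finrank K L = p ∧ ∀ x : L, ∃ c : Fin p → K, x = ∑ l, algebraMap K L (c l) * t ^ (l : ℕ) := by
  have h1 : Module.finrank K L = p := le_antisymm hfin (by simpa using hli.fintype_card_le_finrank)
  refine ⟨h1, fun x => ?_⟩
  have hspan := hli.span_eq_top_of_card_eq_finrank' (by rw [Fintype.card_fin, h1])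
  obtain ⟨c, hc⟩ := (Submodule.mem_span_range_iff_exists_fun K).mp (hspan ▸ Submodule.mem_top (x := x))
  exact ⟨c, by rw [← hc]; simp [Algebra.smul_def]⟩

include hπ hp in
/-- An element whose `p`-th power has the value of a uniformizer. -/
theorem totallyRamified [FiniteDimensional K L] (hfin : Module.finrank K L ≤ p)
    (ht : ∀ V : ValuationSubring L, Dom A V → V.valuation t ^ p = V.valuation (algebraMap A L π)) :
    EtRam.IsTotallyRamified A (algebraMap A L) ∧ Module.finrank K L = p := by
  classical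
  let term : (Fin p → K) → Fin p → L := fun c l => algebraMap K L (c l) * t ^ (l : ℕ)
  have hmain : ∀ (V : ValuationSubring L), Dom A V →
      (V.valuation t < 1 ∧ t ≠ 0) ∧ ∀ (c : Fin p → K),
      (∀ i, c i ≠ 0 → V.valuation (∑ l, term c l) ≠ 0) ∧
      (V.valuation (∑ l, term c l) ≤ 1 ↔ ∀ l, ∃ a : A, algebraMap A K a = c l) := by
    intro V hV
    have hg0 := vpi_pos (K := K) hπ (V := V)
    have hg1 := vpi_lt_one hπ hV
    set G := V.valuation t with hG
    have hGp : G ^ p = V.valuation (algebraMap A L π) := ht V hV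
    have hG0 : 0 < G := zero_lt_iff.mpr fun h => by
      rw [h, zero_pow hp.ne_zero] at hGp
      exact hg0.ne hGp
    have hG1 : G < 1 := not_le.mp fun h => (one_le_pow₀ h (n := p)).not_gt (hGp ▸ hg1)
    have hc : ∀ (c : Fin p → K) (l : Fin p), c l ≠ 0 → ∃ m : ℤ, V.valuation (term c l) = G ^ ((p : ℤ) * m + (l : ℕ)) ∧
        (0 ≤ m → V.valuation (algebraMap K L (c l)) ≤ 1) ∧
        (V.valuation (algebraMap K L (c l)) ≤ 1 → 0 ≤ m) := by
      intro c l hl
      obtain ⟨m, hm⟩ := val_K (L := L) hπ hV hl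
      refine ⟨m, ?_, fun h => ?_, fun h => ?_⟩
      · rw [zpow_add₀ hG0.ne', zpow_mul, zpow_natCast, zpow_natCast, hGp, ← hm, map_mul, map_pow]
      · rw [hm]; exact ((zpow_right_strictAnti₀ hg0 hg1).antitone h).trans (zpow_zero _).le
      · rw [hm, ← zpow_zero (V.valuation (algebraMap A L π))] at h
        exact (zpow_right_strictAnti₀ hg0 hg1).le_iff_ge.mp h
    refine ⟨⟨hG1, fun h => hG0.ne' (by rw [hG, h, map_zero])⟩, fun c => ?_⟩
    by_cases h0 : ∀ i, c i = 0
    · refine ⟨fun i hi => absurd (h0 i) hi, iff_of_true ?_ fun l => ⟨0, by rw [map_zero, h0]⟩⟩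
      simp [term, h0]
    push Not at h0
    obtain ⟨i₀, hi₀⟩ := h0
    obtain ⟨k, hk, hmax⟩ := Finset.exists_max_image (Finset.univ.filter fun l => c l ≠ 0)
      (fun l => V.valuation (term c l)) ⟨i₀, by simp [hi₀]⟩
    have hk0 : c k ≠ 0 := (Finset.mem_filter.1 hk).2
    have hkt : term c k ≠ 0 := mul_ne_zero ((_root_.map_ne_zero _).mpr hk0) (pow_ne_zero _ fun h => hG0.ne' (by rw [hG, h, map_zero]))
    have hdist : ∀ l, c l ≠ 0 → V.valuation (term c l) = V.valuation (term c k) → l = k := by
      intro l hl h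
      obtain ⟨m, hm, -⟩ := hc c l hl
      obtain ⟨m', hm', -⟩ := hc c k hk0
      rw [hm, hm'] at h
      have := (zpow_right_strictAnti₀ hG0 hG1).injective h
      have h1 : ((l : ℕ) : ℤ) < p := by exact_mod_cast l.2
      have h2 : ((k : ℕ) : ℤ) < p := by exact_mod_cast k.2
      have h3 : ((p : ℤ) * m + (l : ℕ)) % p = (l : ℕ) := by
        rw [add_comm, Int.add_mul_emod_self_left, Int.emod_eq_of_lt (Int.natCast_nonneg _) h1]
      have h4 : ((p : ℤ) * m' + (k : ℕ)) % p = (k : ℕ) := by
        rw [add_comm, Int.add_mul_emod_self_left, Int.emod_eq_of_lt (Int.natCast_nonneg _) h2]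
      rw [this, h4] at h3
      exact Fin.ext (by exact_mod_cast h3.symm)
    have hval : V.valuation (∑ l, term c l) = V.valuation (term c k) := by
      refine V.valuation.map_sum_eq_of_lt (Finset.mem_univ k) fun l hl => ?_
      have hlk : l ≠ k := by simpa using hl
      by_cases hl0 : c l = 0
      · rw [show term c l = 0 by simp [term, hl0], map_zero]
        exact zero_lt_iff.mpr ((Valuation.ne_zero_iff _).mpr hkt)
      · exact lt_of_le_of_ne (hmax l (by simp [hl0])) fun h => hlk (hdist l hl0 h)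
    refine ⟨fun _ _ => by rw [hval]; exact (Valuation.ne_zero_iff _).mpr hkt, fun h l => ?_, fun h => ?_⟩
    · by_cases hl : c l = 0
      · exact ⟨0, by rw [map_zero, hl]⟩
      obtain ⟨m, hm, hm1, -⟩ := hc c l hl
      refine mem_range_of_val_le_one hπ hV (hm1 ?_)
      have hle : V.valuation (term c l) ≤ 1 := (hmax l (by simp [hl])).trans (hval ▸ h)
      rw [hm, ← zpow_zero G] at hle
      have h5 := (zpow_right_strictAnti₀ hG0 hG1).le_iff_ge.mp hle
      have h1 : ((l : ℕ) : ℤ) < p := by exact_mod_cast l.2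
      by_contra hneg
      have : (p : ℤ) * m ≤ (p : ℤ) * (-1) := mul_le_mul_of_nonneg_left (by omega) (by omega)
      omega
    · rw [hval, map_mul, map_pow]
      obtain ⟨a, ha⟩ := h k
      rw [← ha, ← IsScalarTower.algebraMap_apply]
      exact mul_le_one' (val_le_one hV a) (pow_le_one' hG1.le _)
  obtain ⟨V₀, hV₀⟩ := exists_dom A (K := K) L
  have hli : LinearIndependent K fun i : Fin p => t ^ (i : ℕ) := by
    rw [Fintype.linearIndependent_iff]
    intro c hc i
    by_contra hi
    refine ((hmain V₀ hV₀).2 c).1 i hi ?_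
    simp only [Algebra.smul_def] at hc
    rw [hc, map_zero]
  obtain ⟨hrank, hrep⟩ := basis_of_li hfin hli
  refine ⟨⟨⟨V₀, hV₀⟩, fun V V' hV hV' => ?_, fun V hV y => ?_⟩, hrank⟩
  · ext x
    obtain ⟨c, rfl⟩ := hrep x
    rw [← ValuationSubring.valuation_le_one_iff, ← ValuationSubring.valuation_le_one_iff]
    exact ((hmain V hV).2 c).2.trans ((hmain V' hV').2 c).2.symm
  · obtain ⟨⟨x, hx⟩, rfl⟩ := IsLocalRing.residue_surjective y
    obtain ⟨⟨hG1, -⟩, hm⟩ := hmain V hV
    obtain ⟨c, rfl⟩ := hrep x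
    have hA := (hm c).2.mp ((V.valuation_le_one_iff _).mpr hx)
    choose a ha using hA
    refine ⟨a ⟨0, hp.pos⟩, ?_⟩
    rw [← sub_eq_zero, ← map_sub, IsLocalRing.residue_eq_zero_iff, V.valuation_lt_one_iff]
    change V.valuation (algebraMap A L (a ⟨0, hp.pos⟩) - ∑ l, term c l) < 1
    rw [Valuation.map_sub_swap, ← Finset.add_sum_erase _ _ (Finset.mem_univ (⟨0, hp.pos⟩ : Fin p)),
      show term c ⟨0, hp.pos⟩ = algebraMap A L (a ⟨0, hp.pos⟩) by
        simp [term, ← ha, ← IsScalarTower.algebraMap_apply], add_sub_cancel_left]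
    refine V.valuation.map_sum_lt one_ne_zero fun l hl => ?_
    have hl0 : (l : ℕ) ≠ 0 := fun h => (Finset.mem_erase.1 hl).1 (Fin.ext h)
    simp only [term, ← ha, ← IsScalarTower.algebraMap_apply, map_mul, map_pow]
    exact lt_of_le_of_lt (mul_le_of_le_one_left' (val_le_one hV _)) (pow_lt_one₀ zero_le' hG1 hl0)

include hπ hp in
/-- An element with residue a `p`-th root of a non-`p`-th power. -/
theorem residuallyInseparable [FiniteDimensional K L] (hfin : Module.finrank K L ≤ p)
    [CharP (IsLocalRing.ResidueField A) p] {a : A}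
    (ha : ∀ r : A, IsLocalRing.residue A a ≠ IsLocalRing.residue A r ^ p)
    (ht : ∀ V : ValuationSubring L, Dom A V → V.valuation t ≤ 1 ∧ V.valuation (t ^ p - algebraMap A L a) < 1) :
    (∃ V : ValuationSubring L, Dom A V) ∧
      (∀ V V' : ValuationSubring L, Dom A V → Dom A V' → V = V') ∧
      ∀ (V : ValuationSubring L) (h : Dom A V),
        letI : Algebra A V := (RingHom.codRestrict (algebraMap A L) V h.1).toAlgebra
        ∀ [IsLocalHom (algebraMap A V)],
          EtRam.IsWeaklyUnramified A V ∧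
            IsPurelyInseparable (IsLocalRing.ResidueField A) (IsLocalRing.ResidueField V) ∧
            Module.finrank (IsLocalRing.ResidueField A) (IsLocalRing.ResidueField V) = p := by
  classical
  have hirr : Irreducible (X ^ p - C (IsLocalRing.residue A a)) := X_pow_sub_C_irreducible_of_prime hp fun b hb => by
    obtain ⟨r, rfl⟩ := IsLocalRing.residue_surjective b
    exact ha r hb.symm
  have hmonic : (X ^ p - C (IsLocalRing.residue A a)).Monic := monic_X_pow_sub_C _ hp.ne_zero
  let S : (Fin p → A) → L := fun c => ∑ l, algebraMap A L (c l) * t ^ (l : ℕ)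
  have hprim : ∀ V : ValuationSubring L, Dom A V → ∀ c : Fin p → A,
      V.valuation (S c) ≤ 1 ∧ ((∃ l, IsUnit (c l)) → V.valuation (S c) = 1) := by
    intro V hV c
    obtain ⟨ht1, ht2⟩ := ht V hV
    have hS : V.valuation (S c) ≤ 1 := V.valuation.map_sum_le fun l _ => by
      rw [map_mul, map_pow]; exact mul_le_one' (val_le_one hV _) (pow_le_one' ht1 _)
    refine ⟨hS, fun ⟨l₀, hl₀⟩ => ?_⟩
    letI : Algebra A V := (RingHom.codRestrict (algebraMap A L) V.toSubring hV.1).toAlgebra
    haveI : IsLocalHom (algebraMap A V) := ⟨fun b hb => by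
      by_contra h
      exact ((V.valuation_lt_one_iff (algebraMap A V b)).mpr
        (hV.2 b ((IsLocalRing.mem_maximalIdeal b).mpr h))) hb⟩
    let tV : V := ⟨t, (V.valuation_le_one_iff _).mp ht1⟩
    let τ := IsLocalRing.residue V tV
    let q := X ^ p - C (IsLocalRing.residue A a)
    let N : A[X] := ∑ l, C (c l) * X ^ (l : ℕ)
    have hN : ((aeval tV N : V) : L) = S c := by
      simp only [N, S, map_sum, map_mul, aeval_C, map_pow, aeval_X]
      rw [AddSubmonoidClass.coe_finset_sum]
      rfl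
    have hτ : aeval τ q = 0 := by
      have : IsLocalRing.residue V (tV ^ p - algebraMap A V a) = 0 := by
        rw [IsLocalRing.residue_eq_zero_iff, V.valuation_lt_one_iff]; exact ht2
      simpa [q, τ, map_sub, map_pow] using this
    have hmin : minpoly (IsLocalRing.ResidueField A) τ = q := (minpoly.eq_of_irreducible_of_monic hirr hτ hmonic).symm
    refine le_antisymm hS (not_lt.mp fun hlt => ?_)
    have h0 : IsLocalRing.residue V (aeval tV N) = 0 := by
      rw [IsLocalRing.residue_eq_zero_iff, V.valuation_lt_one_iff, hN]; exact hlt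
    have h1 : aeval τ (N.map (IsLocalRing.residue A)) = 0 := by
      rw [← h0]
      simp only [N, Polynomial.map_sum, map_sum, Polynomial.map_mul, map_mul, map_C, aeval_C, Polynomial.map_pow, map_pow, map_X, aeval_X, τ]
      rfl
    have hdvd := minpoly.dvd _ _ h1
    rw [hmin] at hdvd
    have hdeg : (N.map (IsLocalRing.residue A)).degree < q.degree := by
      rw [degree_X_pow_sub_C hp.pos]
      simp only [N, Polynomial.map_sum, Polynomial.map_mul, map_C, Polynomial.map_pow, map_X]
      exact degree_sum_fin_lt (fun l => IsLocalRing.residue A (c l))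
    have hzero := eq_zero_of_dvd_of_degree_lt hdvd hdeg
    have : (N.map (IsLocalRing.residue A)).coeff (l₀ : ℕ) = IsLocalRing.residue A (c l₀) := by
      simp [N, coeff_C_mul, coeff_X_pow, finsetSum_coeff, Fin.val_inj]
    rw [hzero, coeff_zero, eq_comm, IsLocalRing.residue_eq_zero_iff, IsLocalRing.mem_maximalIdeal] at this
    exact this hl₀
  -- normalisation of coordinate vectors
  have hnorm : ∀ c : Fin p → K, (∀ l, c l = 0) ∨ ∃ (m : ℤ) (c' : Fin p → A),
      (∀ l, c l = algebraMap A K π ^ m * algebraMap A K (c' l)) ∧ ∃ l, IsUnit (c' l) := by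
    intro c
    by_cases h0 : ∀ l, c l = 0
    · exact Or.inl h0
    push Not at h0
    obtain ⟨l₀, hl₀⟩ := h0
    obtain ⟨V, hV⟩ := exists_dom A (K := K) L
    obtain ⟨k, hk, hmax⟩ := Finset.exists_max_image (Finset.univ : Finset (Fin p))
      (fun l => V.valuation (algebraMap K L (c l))) ⟨l₀, Finset.mem_univ _⟩
    have hk0 : c k ≠ 0 := fun h => hl₀ (by
      have := hmax l₀ (Finset.mem_univ _)
      simp only [h, map_zero, le_zero_iff, Valuation.zero_iff, map_eq_zero] at this
      exact this)
    obtain ⟨m, hm⟩ := val_K (L := L) hπ hV hk0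
    have hπK : algebraMap A K π ≠ 0 := (map_ne_zero_iff _ (IsFractionRing.injective A K)).mpr hπ.ne_zero
    have hint : ∀ l, ∃ b : A, algebraMap A K b = (algebraMap A K π ^ m)⁻¹ * c l := fun l => by
      refine mem_range_of_val_le_one hπ hV ?_
      rw [map_mul, map_inv₀, map_zpow₀, ← IsScalarTower.algebraMap_apply, map_mul, map_inv₀, map_zpow₀, ← hm,
        inv_mul_le_one₀ (zero_lt_iff.mpr ((Valuation.ne_zero_iff _).mpr ((_root_.map_ne_zero _).mpr hk0)))]
      exact hmax l (Finset.mem_univ _)
    choose c' hc' using hint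
    refine Or.inr ⟨m, c', fun l => by rw [hc', mul_inv_cancel_left₀ (zpow_ne_zero _ hπK)], k, ?_⟩
    by_contra hu
    have h1 := val_mem_max hπ hV hu
    have h2 : V.valuation (algebraMap A L (c' k)) = 1 := by
      rw [IsScalarTower.algebraMap_apply A K L, hc', map_mul, map_inv₀, map_zpow₀, ← IsScalarTower.algebraMap_apply,
        map_mul, map_inv₀, map_zpow₀, hm, inv_mul_cancel₀ (zpow_ne_zero _ (vpi_pos (K := K) hπ).ne')]
    exact absurd (h2 ▸ h1) (not_le.mpr (vpi_lt_one hπ hV))
  have hscale : ∀ (c : Fin p → K) (m : ℤ) (c' : Fin p → A), (∀ l, c l = algebraMap A K π ^ m * algebraMap A K (c' l)) →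
      (∑ l, algebraMap K L (c l) * t ^ (l : ℕ)) = algebraMap A L π ^ m * S c' := by
    intro c m c' h
    rw [Finset.mul_sum]
    refine Finset.sum_congr rfl fun l _ => ?_
    rw [h, map_mul, map_zpow₀, ← IsScalarTower.algebraMap_apply, ← IsScalarTower.algebraMap_apply, mul_assoc]
  obtain ⟨V₀, hV₀⟩ := exists_dom A (K := K) L
  have hval : ∀ V : ValuationSubring L, Dom A V → ∀ (c : Fin p → K) (m : ℤ) (c' : Fin p → A),
      (∀ l, c l = algebraMap A K π ^ m * algebraMap A K (c' l)) → (∃ l, IsUnit (c' l)) →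
      V.valuation (∑ l, algebraMap K L (c l) * t ^ (l : ℕ)) = V.valuation (algebraMap A L π) ^ m := by
    intro V hV c m c' h hu
    rw [hscale c m c' h, map_mul, map_zpow₀, ((hprim V hV c').2 hu), mul_one]
  have hli : LinearIndependent K fun i : Fin p => t ^ (i : ℕ) := by
    rw [Fintype.linearIndependent_iff]
    intro c hc i
    by_contra hi
    rcases hnorm c with h | ⟨m, c', h, hu⟩
    · exact hi (h i)
    have := hval V₀ hV₀ c m c' h hu
    simp only [Algebra.smul_def] at hc
    rw [hc, map_zero] at this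
    exact zpow_ne_zero _ (vpi_pos (K := K) hπ).ne' this.symm
  obtain ⟨hrank, hrep⟩ := basis_of_li hfin hli
  have hmem : ∀ V : ValuationSubring L, Dom A V → ∀ x : L, x ∈ V → ∃ c' : Fin p → A, x = S c' := by
    intro V hV x hx
    obtain ⟨c, rfl⟩ := hrep x
    rcases hnorm c with h | ⟨m, c', h, hu⟩
    · exact ⟨0, by simp [h, S]⟩
    have h1 := (V.valuation_le_one_iff _).mpr hx
    rw [hval V hV c m c' h hu, ← zpow_zero (V.valuation (algebraMap A L π))] at h1
    have h2 := (zpow_right_strictAnti₀ (vpi_pos (K := K) hπ) (vpi_lt_one hπ hV)).le_iff_ge.mp h1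
    obtain ⟨n, rfl⟩ := Int.eq_ofNat_of_zero_le h2
    refine ⟨fun l => π ^ n * c' l, ?_⟩
    rw [hscale c n c' h, zpow_natCast, Finset.mul_sum]
    refine Finset.sum_congr rfl fun l _ => ?_
    rw [map_mul, map_pow, mul_assoc]
  refine ⟨⟨V₀, hV₀⟩, fun V V' hV hV' => ?_, fun V hV => ?_⟩
  · ext x
    constructor
    · intro hx
      obtain ⟨c', rfl⟩ := hmem V hV x hx
      exact (V'.valuation_le_one_iff _).mp (hprim V' hV' c').1
    · intro hx
      obtain ⟨c', rfl⟩ := hmem V' hV' x hx
      exact (V.valuation_le_one_iff _).mp (hprim V hV c').1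
  letI : Algebra A V := (RingHom.codRestrict (algebraMap A L) V.toSubring hV.1).toAlgebra
  show ∀ [IsLocalHom (algebraMap A V)], _
  intro _
  let tV : V := ⟨t, (V.valuation_le_one_iff _).mp (ht V hV).1⟩
  let τ := IsLocalRing.residue V tV
  have hτ : aeval τ (X ^ p - C (IsLocalRing.residue A a)) = 0 := by
    have : IsLocalRing.residue V (tV ^ p - algebraMap A V a) = 0 := by
      rw [IsLocalRing.residue_eq_zero_iff, V.valuation_lt_one_iff]; exact (ht V hV).2
    simpa [τ, map_sub, map_pow] using this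
  haveI : CharP (IsLocalRing.ResidueField V) p :=
    charP_of_injective_algebraMap (algebraMap (IsLocalRing.ResidueField A) (IsLocalRing.ResidueField V)).injective p
  haveI : ExpChar (IsLocalRing.ResidueField A) p := ExpChar.prime hp
  haveI : ExpChar (IsLocalRing.ResidueField V) p := ExpChar.prime hp
  have hlift : ∀ c : Fin p → A, ∃ xV : V, (xV : L) = S c ∧
      IsLocalRing.residue V xV = ∑ l, algebraMap (IsLocalRing.ResidueField A) _ (IsLocalRing.residue A (c l)) * τ ^ (l : ℕ) := by
    intro c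
    refine ⟨∑ l, algebraMap A V (c l) * tV ^ (l : ℕ), ?_, ?_⟩
    · rw [AddSubmonoidClass.coe_finset_sum]; rfl
    · rw [map_sum]
      refine Finset.sum_congr rfl fun l _ => ?_
      rw [map_mul, map_pow]
      rfl
  have hall : ∀ y : IsLocalRing.ResidueField V, ∃ c : Fin p → A,
      y = ∑ l, algebraMap (IsLocalRing.ResidueField A) _ (IsLocalRing.residue A (c l)) * τ ^ (l : ℕ) := by
    intro y
    obtain ⟨x, rfl⟩ := IsLocalRing.residue_surjective y
    obtain ⟨c, hc⟩ := hmem V hV x x.2
    obtain ⟨xV, h1, h2⟩ := hlift c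
    exact ⟨c, by rw [← h2, show x = xV from Subtype.ext (hc.trans h1.symm)]⟩
  refine ⟨?_, ?_, ?_⟩
  · refine le_antisymm (Ideal.map_le_iff_le_comap.mpr fun b hb => ?_) fun x hx => ?_
    · rw [Ideal.mem_comap, V.valuation_lt_one_iff]; exact hV.2 b hb
    · obtain ⟨c, hc⟩ := hmem V hV x x.2
      have hall' : ∀ l, c l ∈ IsLocalRing.maximalIdeal A := fun l => by
        by_contra hl
        have h1 := (hprim V hV c).2 ⟨l, by simpa [IsLocalRing.mem_maximalIdeal] using hl⟩
        rw [← hc] at h1
        exact ((V.valuation_lt_one_iff x).mp hx).ne h1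
      have : x = ∑ l, algebraMap A V (c l) * tV ^ (l : ℕ) := by
        refine Subtype.ext (hc.trans ?_)
        rw [AddSubmonoidClass.coe_finset_sum]; rfl
      rw [this]
      exact Ideal.sum_mem _ fun l _ => Ideal.mul_mem_right _ _ (Ideal.mem_map_of_mem _ (hall' l))
  · rw [isPurelyInseparable_iff_pow_mem _ p]
    intro y
    obtain ⟨c, rfl⟩ := hall y
    refine ⟨1, ∑ l, IsLocalRing.residue A (c l) ^ p * IsLocalRing.residue A a ^ (l : ℕ), ?_⟩
    rw [pow_one, sum_pow_char, map_sum]
    refine Finset.sum_congr rfl fun l _ => ?_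
    simp only [map_sub, map_pow, aeval_X, aeval_C, sub_eq_zero] at hτ
    rw [mul_pow, map_mul, map_pow, map_pow, ← hτ, ← pow_mul, ← pow_mul, mul_comm p]
  · have hint : IsIntegral (IsLocalRing.ResidueField A) τ := ⟨_, hmonic, hτ⟩
    have htop : IntermediateField.adjoin (IsLocalRing.ResidueField A) {τ} = ⊤ := by
      rw [eq_top_iff]
      intro y _
      obtain ⟨c, rfl⟩ := hall y
      exact sum_mem fun l _ => mul_mem (IntermediateField.algebraMap_mem _ _)
        (pow_mem (IntermediateField.mem_adjoin_simple_self _ τ) _)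
    rw [← IntermediateField.finrank_top', ← htop, IntermediateField.adjoin.finrank hint,
      ← minpoly.eq_of_irreducible_of_monic hirr hτ hmonic, natDegree_X_pow_sub_C]

end Tot

section Unr

include hπ in
/-- A generator integral with separable reduction. -/
theorem unramified [FiniteDimensional K L] (f : A[X]) (hf : f.Monic)
    (hsep : (f.map (IsLocalRing.residue A)).Separable) {z : L} (hz : aeval z f = 0)
    (hgen : IntermediateField.adjoin K {z} = ⊤) : EtRam.IsUnramifiedExt A (algebraMap A L) := by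
  classical
  intro V hV
  letI : Algebra A V := (RingHom.codRestrict (algebraMap A L) V.toSubring hV.1).toAlgebra
  show ∀ [IsLocalHom (algebraMap A V)], _
  intro _
  haveI : IsScalarTower A V L := IsScalarTower.of_algebraMap_eq fun _ => rfl
  have hzV : z ∈ V := by
    obtain ⟨y, hy⟩ := (IsIntegrallyClosed.isIntegral_iff (R := V) (K := L)).mp
      (show IsIntegral V z from (show IsIntegral A z from ⟨f, hf, hz⟩).tower_top)
    rw [← hy]; exact y.2
  let zV : V := ⟨z, hzV⟩
  let ζ := IsLocalRing.residue V zV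
  let r := IsLocalRing.residue A
  have hev : ∀ N : A[X], ((aeval zV N : V) : L) = aeval z N := fun N => (aeval_algebraMap_apply L zV N).symm
  have hres : ∀ N : A[X], IsLocalRing.residue V (aeval zV N) = aeval ζ (N.map r) := by
    intro N
    rw [aeval_def, aeval_def, hom_eval₂, eval₂_map]
    rfl
  have hfz : aeval ζ (f.map r) = 0 := by
    rw [← hres, show aeval zV f = 0 from Subtype.ext ((hev f).trans hz), map_zero]
  have hintζ : IsIntegral (IsLocalRing.ResidueField A) ζ := ⟨f.map r, hf.map r, hfz⟩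
  set gb := minpoly (IsLocalRing.ResidueField A) ζ with hgb
  obtain ⟨hb, hhb⟩ := minpoly.dvd _ _ hfz
  have hh0 : aeval ζ hb ≠ 0 := fun h0 => by
    obtain ⟨q, hq⟩ := minpoly.dvd _ _ h0
    have hsq := hsep.squarefree gb ⟨q, by rw [hhb, hq, ← hgb]; ring⟩
    exact (minpoly.irreducible hintζ).not_isUnit hsq
  obtain ⟨h, hh⟩ := Polynomial.map_surjective r IsLocalRing.residue_surjective hb
  obtain ⟨g, hg⟩ := Polynomial.map_surjective r IsLocalRing.residue_surjective gb
  have hvh : V.valuation (aeval z h) = 1 := by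
    refine le_antisymm (by rw [← hev]; exact V.valuation_le_one _) (not_lt.mp fun hlt => hh0 ?_)
    rw [← hh, ← hres, IsLocalRing.residue_eq_zero_iff, V.valuation_lt_one_iff, hev]
    exact hlt
  have hhz : aeval z h ≠ 0 := fun h0 => by rw [h0, map_zero] at hvh; exact zero_ne_one hvh
  set G := V.valuation (algebraMap A L π) with hG
  have hG0 : 0 < G := vpi_pos (K := K) hπ
  have hG1 : G < 1 := vpi_lt_one hπ hV
  have hle : ∀ N : A[X], V.valuation (aeval z N) ≤ 1 := fun N => by
    have h5 := V.valuation_le_one (aeval zV N)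
    rwa [hev] at h5
  have hdiv : ∀ D : A[X], D.map r = 0 → ∃ D', D = C π * D' := fun D hD => by
    refine C_dvd_iff_dvd_coeff π D |>.mpr fun i => ?_
    have h1 : r (D.coeff i) = 0 := by rw [← coeff_map, hD, coeff_zero]
    rwa [IsLocalRing.residue_eq_zero_iff, hπ.maximalIdeal_eq, Ideal.mem_span_singleton] at h1
  have hstep : ∀ N : A[X], V.valuation (aeval z N) < 1 →
      ∃ N₁ : A[X], aeval z h * aeval z N = algebraMap A L π * aeval z N₁ := by
    intro N hN
    have h0 : aeval ζ (N.map r) = 0 := by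
      rw [← hres, IsLocalRing.residue_eq_zero_iff, V.valuation_lt_one_iff, hev]; exact hN
    obtain ⟨qb, hqb⟩ := minpoly.dvd _ _ h0
    obtain ⟨q, hq⟩ := Polynomial.map_surjective r IsLocalRing.residue_surjective qb
    obtain ⟨N₁, hN₁⟩ := hdiv (h * N - f * q) (by
      rw [Polynomial.map_sub, Polynomial.map_mul, Polynomial.map_mul, hqb, hhb, hh, hq, ← hgb]; ring)
    refine ⟨N₁, ?_⟩
    have h2 := congrArg (aeval z) hN₁
    rwa [map_sub, map_mul, map_mul, map_mul, hz, zero_mul, sub_zero, aeval_C] at h2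
  have hiter : ∀ (k : ℕ) (N : A[X]), G ^ k ≤ V.valuation (aeval z N) →
      ∃ (i : ℕ) (N' : A[X]), aeval z h ^ i * aeval z N = algebraMap A L π ^ i * aeval z N' ∧
        V.valuation (aeval z N') = 1 := by
    intro k
    induction k with
    | zero => exact fun N hN => ⟨0, N, by simp, le_antisymm (hle N) (by simpa using hN)⟩
    | succ k ih =>
      intro N hN
      rcases (hle N).lt_or_eq with hlt | heq
      · obtain ⟨N₁, hN₁⟩ := hstep N hlt
        have hv : G ^ k ≤ V.valuation (aeval z N₁) := by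
          have h3 := congrArg V.valuation hN₁
          rw [map_mul, map_mul, hvh, one_mul, ← hG] at h3
          rw [h3, pow_succ'] at hN
          exact le_of_mul_le_mul_left hN hG0
        obtain ⟨i, N', h1, h2⟩ := ih N₁ hv
        refine ⟨i + 1, N', ?_, h2⟩
        rw [pow_succ, mul_assoc, hN₁, ← mul_assoc, mul_comm _ (algebraMap A L π), mul_assoc, h1, pow_succ', mul_assoc]
      · exact ⟨0, N, by simp, heq⟩
  have hrep : ∀ x : L, ∃ (N : A[X]) (a : A), a ≠ 0 ∧ algebraMap A L a * x = aeval z N := by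
    intro x
    have hx : x ∈ (IntermediateField.adjoin K {z}).toSubalgebra := by rw [hgen]; trivial
    rw [IntermediateField.adjoin_simple_toSubalgebra_of_isAlgebraic (Algebra.IsAlgebraic.isAlgebraic z),
      Algebra.adjoin_singleton_eq_range_aeval] at hx
    obtain ⟨P, rfl⟩ := hx
    obtain ⟨⟨b, hb⟩, hbP⟩ := IsLocalization.integerNormalization_map_to_map (nonZeroDivisors A) P
    refine ⟨IsLocalization.integerNormalization (nonZeroDivisors A) P, b, nonZeroDivisors.ne_zero hb, ?_⟩
    rw [← aeval_map_algebraMap K z (IsLocalization.integerNormalization _ P), hbP, Algebra.smul_def, map_mul,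
      Polynomial.algebraMap_apply, aeval_C, ← IsScalarTower.algebraMap_apply]
    rfl
  have hform : ∀ x : L, x ≠ 0 → ∃ (m : ℤ) (u : A) (N : A[X]) (i : ℕ), IsUnit u ∧ V.valuation (aeval z N) = 1 ∧
      x = algebraMap A L π ^ m * (algebraMap A L u * aeval z N / aeval z h ^ i) := by
    intro x hx
    obtain ⟨N, a, ha, hN⟩ := hrep x
    obtain ⟨M, b, hb, hM⟩ := hrep x⁻¹
    obtain ⟨k, hk⟩ := val_A hπ hV (mul_ne_zero ha hb)
    have hNM : aeval z N * aeval z M = algebraMap A L (a * b) := by
      rw [← hN, ← hM, map_mul]; field_simp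
    have hkle : G ^ k ≤ V.valuation (aeval z N) := by
      rw [hG, ← hk, ← hNM, map_mul]; exact mul_le_of_le_one_right' (hle M)
    obtain ⟨i, N', h1, h2⟩ := hiter k N hkle
    obtain ⟨s, w, hw⟩ := IsDiscreteValuationRing.eq_unit_mul_pow_irreducible ha hπ
    refine ⟨(i : ℤ) - s, ↑w⁻¹, N', i, Units.isUnit _, h2, ?_⟩
    have hπL : algebraMap A L π ≠ 0 := algebraMap_ne_zero (K := K) hπ.ne_zero
    have hw1 : algebraMap A L (↑w⁻¹ : A) * algebraMap A L (w : A) = 1 := by rw [← map_mul, Units.inv_mul, map_one]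
    rw [hw, map_mul, map_pow] at hN
    rw [zpow_sub₀ hπL, zpow_natCast, zpow_natCast, div_mul_div_comm, eq_div_iff (mul_ne_zero (pow_ne_zero _ hπL) (pow_ne_zero _ hhz))]
    linear_combination -(x * aeval z h ^ i * algebraMap A L π ^ s) * hw1 + algebraMap A L (↑w⁻¹ : A) * aeval z h ^ i * hN +
      algebraMap A L (↑w⁻¹ : A) * h1
  have hvu : ∀ (u : A) (N : A[X]) (i : ℕ), IsUnit u → V.valuation (aeval z N) = 1 →
      V.valuation (algebraMap A L u * aeval z N / aeval z h ^ i) = 1 := fun u N i hu hN => by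
    rw [map_div₀, map_mul, map_pow, val_unit hV hu, hN, hvh, one_pow, mul_one, div_one]
  refine ⟨le_antisymm (Ideal.map_le_iff_le_comap.mpr fun b hb => ?_) fun x hx => ?_, ?_⟩
  · rw [Ideal.mem_comap, V.valuation_lt_one_iff]; exact hV.2 b hb
  · by_cases hx0 : (x : L) = 0
    · rw [show x = 0 from Subtype.ext hx0]; exact zero_mem _
    obtain ⟨m, u, N, i, hu, hN, hxe⟩ := hform _ hx0
    have hlt := (V.valuation_lt_one_iff x).mp hx
    rw [hxe, map_mul, map_zpow₀, hvu u N i hu hN, mul_one, ← hG, ← zpow_zero G] at hlt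
    have hm : (0 : ℤ) < m := (zpow_right_strictAnti₀ hG0 hG1).lt_iff_gt.mp hlt
    obtain ⟨n, rfl⟩ : ∃ n : ℕ, m = (n : ℤ) + 1 := ⟨(m - 1).toNat, by omega⟩
    have hy : algebraMap A L π ^ n * (algebraMap A L u * aeval z N / aeval z h ^ i) ∈ V := by
      rw [← V.valuation_le_one_iff, map_mul, map_pow, hvu u N i hu hN, mul_one]
      exact pow_le_one' hG1.le _
    have : x = algebraMap A V π * ⟨_, hy⟩ := Subtype.ext (by
      rw [hxe, zpow_add_one₀ (algebraMap_ne_zero (K := K) hπ.ne_zero), zpow_natCast]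
      change _ = algebraMap A L π * _
      ring)
    rw [this]
    exact Ideal.mul_mem_right _ _ (Ideal.mem_map_of_mem _ ((IsLocalRing.mem_maximalIdeal π).mpr hπ.not_isUnit))
  · refine ⟨fun y => ?_⟩
    by_cases hy0 : y = 0
    · subst hy0
      exact mem_separableClosure_iff.mp (zero_mem (separableClosure _ _))
    obtain ⟨x, rfl⟩ := IsLocalRing.residue_surjective y
    have hx1 : V.valuation (x : L) = 1 := by
      refine le_antisymm (V.valuation_le_one x) (not_lt.mp fun hlt => hy0 ?_)
      rw [IsLocalRing.residue_eq_zero_iff]; exact (V.valuation_lt_one_iff x).mpr hlt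
    obtain ⟨m, u, N, i, hu, hN, hxe⟩ := hform (x : L) (fun h0 => by rw [h0, map_zero] at hx1; exact zero_ne_one hx1)
    rw [hxe, map_mul, map_zpow₀, hvu u N i hu hN, mul_one, ← hG, ← zpow_zero G] at hx1
    obtain rfl := (zpow_right_strictAnti₀ hG0 hG1).injective hx1
    rw [zpow_zero, one_mul, eq_div_iff (pow_ne_zero _ hhz), ← hev, ← hev] at hxe
    have hxe' : x * aeval zV h ^ i = algebraMap A V u * aeval zV N := Subtype.ext hxe
    have h4 := congrArg (IsLocalRing.residue V) hxe'
    rw [map_mul, map_mul, map_pow, hres, hres, hh] at h4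
    have hsepζ : IsSeparable (IsLocalRing.ResidueField A) ζ := Separable.of_dvd hsep ⟨hb, hhb⟩
    have hmemζ : ∀ q : (IsLocalRing.ResidueField A)[X], aeval ζ q ∈ separableClosure (IsLocalRing.ResidueField A) (IsLocalRing.ResidueField V) := by
      intro q
      refine Algebra.adjoin_le (S := (separableClosure _ _).toSubalgebra)
        (Set.singleton_subset_iff.mpr (mem_separableClosure_iff.mpr hsepζ)) ?_
      rw [Algebra.adjoin_singleton_eq_range_aeval]
      exact ⟨q, rfl⟩
    refine mem_separableClosure_iff.mp ?_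
    rw [show IsLocalRing.residue V x = IsLocalRing.residue V (algebraMap A V u) * aeval ζ (N.map r) / aeval ζ hb ^ i from
      (eq_div_iff (pow_ne_zero _ hh0)).mpr h4]
    exact div_mem (mul_mem ((separableClosure _ _).algebraMap_mem (r u)) (hmemζ _)) (pow_mem (hmemζ _) _)

end Unr

end Groth.Agent.EtRamLib.DegP
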