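import Groth.Agent.VarietyLib.DimOne
import Mathlib

/-! Noetherianity of integral closures in reduced composita (Krull–Akizuki). -/

set_option autoImplicit false
set_option linter.all false
universe u

namespace Groth.Agent.EtRamLib.IntClosureNoeth

open TensorProduct

/-- Krull–Akizuki for a field with an integral Noetherian model. -/
theorem of_field (B R₀ M : Type u) [CommRing B] [IsDomain B] [IsDiscreteValuationRing B] [CommRing R₀]
    [IsNoetherianRing R₀] [Field M] [Algebra B M] (hinj : Function.Injective (algebraMap B M))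
    (f : R₀ →+* M) (hint : ∀ r, IsIntegral B (f r)) (hB : ∀ b : B, algebraMap B M b ∈ f.range)
    (hfrac : ∀ z : M, ∃ b : B, b ≠ 0 ∧ algebraMap B M b * z ∈ f.range) :
    IsNoetherianRing (integralClosure B M) := by
  let S : Subring M := f.range
  haveI : IsFractionRing S M := IsFractionRing.of_field S M fun z => by
    obtain ⟨b, hb, hz⟩ := hfrac z
    refine ⟨⟨_, hz⟩, ⟨_, hB b⟩, ?_⟩
    have hb' : algebraMap B M b ≠ 0 := fun h => hb (hinj (by rw [h, map_zero]))
    show z = algebraMap B M b * z / algebraMap B M b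
    rw [mul_div_cancel_left₀ _ hb']
  haveI : IsNoetherianRing S := isNoetherianRing_range f
  letI : Algebra B S := ((algebraMap B M).codRestrict S hB).toAlgebra
  have hBS : Function.Injective (algebraMap B S) := fun x y h => hinj (congrArg Subtype.val h)
  haveI : IsScalarTower B S M := IsScalarTower.of_algebraMap_eq fun _ => rfl
  haveI : Algebra.IsIntegral B S := ⟨fun s => by
    obtain ⟨r, hr⟩ := s.2
    refine (isIntegral_algHom_iff (IsScalarTower.toAlgHom B S M) Subtype.val_injective).mp ?_
    show IsIntegral B (s : M)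
    rw [← hr]; exact hint r⟩
  have hdim : ringKrullDim S = 1 := by
    refine le_antisymm (Ring.krullDimLE_iff.mp (Ring.krullDimLE_one_iff.mpr fun P hP => ?_)) ?_
    · haveI : (P.comap (algebraMap B S)).IsPrime := Ideal.IsPrime.comap _
      by_cases h : P.comap (algebraMap B S) = ⊥
      · exact Or.inl (by
          rw [IsDomain.minimalPrimes_eq_singleton_bot, Set.mem_singleton_iff]
          exact Ideal.eq_bot_of_comap_eq_bot h)
      · exact Or.inr (Ideal.isMaximal_of_isIntegral_of_isMaximal_comap (R := B) P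
          (Ideal.IsPrime.isMaximal inferInstance h))
    · obtain ⟨q, hq0, hq⟩ := Ring.not_isField_iff_exists_prime.mp fun hF =>
        IsDiscreteValuationRing.not_isField B (isField_of_isIntegral_of_isField hBS hF)
      exact Order.one_le_krullDim_iff.mpr ⟨⟨⊥, Ideal.isPrime_bot⟩, ⟨q, hq⟩, (bot_lt_iff_ne_bot.mpr hq0 : (⊥ : Ideal S) < q)⟩
  refine VarietyLib.DimOne.isNoetherianRing_of_le S hdim (integralClosure B M).toSubring fun x hx => ?_
  obtain ⟨r, rfl⟩ := hx
  exact hint r

/-- Reduced finite-fraction version. -/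
theorem of_reduced (B L R₀ L' : Type u) [CommRing B] [IsDomain B] [IsDiscreteValuationRing B] [Field L]
    [Algebra B L] [IsFractionRing B L] [CommRing L'] [IsReduced L'] [Algebra L L'] [Algebra B L']
    [IsScalarTower B L L'] [CommRing R₀] [IsNoetherianRing R₀] [Algebra B R₀] (f : R₀ →ₐ[B] L')
    (hint : ∀ r, IsIntegral B (f r)) (hfrac : ∀ z : L', ∃ b : B, b ≠ 0 ∧ algebraMap B L' b * z ∈ f.range) :
    IsNoetherianRing (integralClosure B L') := by
  classical
  have hu : ∀ b : B, b ≠ 0 → IsUnit (algebraMap B L' b) := fun b hb => by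
    rw [IsScalarTower.algebraMap_apply B L L']
    exact ((IsFractionRing.to_map_ne_zero_of_mem_nonZeroDivisors (mem_nonZeroDivisors_of_ne_zero hb) : algebraMap B L b ≠ 0).isUnit).map _
  haveI : IsNoetherianRing L' := by
    let Mn : Submonoid R₀ := Submonoid.map (algebraMap B R₀) (nonZeroDivisors B)
    have hM : ∀ y : Mn, IsUnit (f.toRingHom y) := by
      rintro ⟨_, b, hb, rfl⟩
      show IsUnit (f (algebraMap B R₀ b))
      rw [f.commutes]; exact hu b (nonZeroDivisors.ne_zero hb)
    haveI : IsNoetherianRing (Localization Mn) := IsLocalization.isNoetherianRing Mn _ inferInstance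
    refine isNoetherianRing_of_surjective _ _ (IsLocalization.lift (S := Localization Mn) hM) fun z => ?_
    obtain ⟨b, hb, r, hr⟩ := hfrac z
    refine ⟨IsLocalization.mk' (Localization Mn) r (⟨algebraMap B R₀ b, Submonoid.mem_map.mpr ⟨b, mem_nonZeroDivisors_of_ne_zero hb, rfl⟩⟩ : Mn), ?_⟩
    rw [IsLocalization.lift_mk'_spec]
    show f r = f (algebraMap B R₀ b) * z
    rw [f.commutes]; exact hr
  haveI : Algebra.IsIntegral L L' := ⟨fun z => by
    obtain ⟨b, hb, r, hr⟩ := hfrac z
    have h1 : IsIntegral L (f r) := (hint r).tower_top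
    have hbL : algebraMap B L b ≠ 0 := IsFractionRing.to_map_ne_zero_of_mem_nonZeroDivisors (mem_nonZeroDivisors_of_ne_zero hb)
    have hz : z = (algebraMap B L b)⁻¹ • f r := by
      rw [show f r = algebraMap B L' b * z from hr, IsScalarTower.algebraMap_apply B L L', ← Algebra.smul_def, inv_smul_smul₀ hbL]
    rw [hz]
    exact h1.smul _⟩
  haveI : IsArtinianRing L' := by
    rw [isArtinianRing_iff_isNoetherianRing_krullDimLE_zero]
    refine ⟨inferInstance, Ring.krullDimLE_zero_iff.mpr fun P hP => ?_⟩
    haveI := hP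
    refine Ideal.isMaximal_of_isIntegral_of_isMaximal_comap (R := L) P ?_
    haveI : (P.comap (algebraMap L L')).IsPrime := Ideal.IsPrime.comap _
    rw [show P.comap (algebraMap L L') = ⊥ from (Ideal.eq_bot_or_top _).resolve_right (Ideal.IsPrime.ne_top ‹_›)]
    exact Ideal.bot_isMaximal
  let e := IsArtinianRing.equivPi L'
  haveI : Finite (MaximalSpectrum L') := inferInstance
  letI : ∀ I : MaximalSpectrum L', Field (L' ⧸ I.asIdeal) := fun I => Ideal.Quotient.field _
  haveI : ∀ I : MaximalSpectrum L', IsNoetherianRing (integralClosure B (L' ⧸ I.asIdeal)) := fun I => by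
    let π := Ideal.Quotient.mkₐ B I.asIdeal
    refine of_field B R₀ (L' ⧸ I.asIdeal) ?_ (π.comp f).toRingHom (fun r => (hint r).map π)
      (fun b => ⟨algebraMap B R₀ b, by show π (f (algebraMap B R₀ b)) = _; rw [f.commutes, π.commutes]⟩) fun z => ?_
    · intro x y h
      by_contra hne
      have h1 : algebraMap B L' (x - y) ∈ I.asIdeal := by
        rw [map_sub]; exact Ideal.Quotient.eq.mp h
      exact I.isMaximal.ne_top (Ideal.eq_top_of_isUnit_mem _ h1 (hu _ (sub_ne_zero.mpr hne)))
    · obtain ⟨z', rfl⟩ := Ideal.Quotient.mk_surjective z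
      obtain ⟨b, hb, r, hr⟩ := hfrac z'
      exact ⟨b, hb, r, by show π (f r) = _; rw [show f r = _ from hr]; rfl⟩
  let g : integralClosure B L' →+* ∀ I : MaximalSpectrum L', integralClosure B (L' ⧸ I.asIdeal) :=
    Pi.ringHom fun I => ((Ideal.Quotient.mk I.asIdeal).comp (integralClosure B L').val.toRingHom).codRestrict
      (integralClosure B (L' ⧸ I.asIdeal)) fun x => x.2.map (Ideal.Quotient.mkₐ B I.asIdeal)
  have hg : Function.Bijective g := by
    refine ⟨fun x y h => Subtype.ext (e.injective (funext fun I => congrArg Subtype.val (congrFun h I))), fun t => ?_⟩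
    obtain ⟨y, hy⟩ := e.surjective fun I => (t I : L' ⧸ I.asIdeal)
    have hyint : IsIntegral B y := by
      refine (isIntegral_algHom_iff ((e.restrictScalars B).toAlgHom) e.injective).mp ?_
      show IsIntegral B (e y)
      rw [hy]
      letI := Fintype.ofFinite (MaximalSpectrum L')
      choose P hPm hP0 using fun I => (t I).2
      refine ⟨∏ I, P I, Polynomial.monic_prod_of_monic _ _ fun I _ => hPm I, ?_⟩
      rw [← Polynomial.aeval_def]
      funext I
      rw [show Polynomial.aeval (fun J => (t J : L' ⧸ J.asIdeal)) (∏ J, P J) I =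
        Polynomial.aeval (t I : L' ⧸ I.asIdeal) (∏ J, P J) from
          (Polynomial.aeval_algHom_apply (Pi.evalAlgHom B _ I) _ _).symm, map_prod]
      exact Finset.prod_eq_zero (Finset.mem_univ I) (hP0 I)
    exact ⟨⟨y, hyint⟩, funext fun I => Subtype.ext (congrFun hy I)⟩
  exact isNoetherianRing_of_ringEquiv _ (RingEquiv.ofBijective g hg).symm

end Groth.Agent.EtRamLib.IntClosureNoeth
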