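import Groth.Agent.EtRamLib.DegPPole
import Mathlib.RingTheory.Polynomial.Cyclotomic.Roots
import Mathlib.Data.Nat.Choose.Dvd

/-!
# The polynomial `((1 + w X)^p - 1) / w^p`
-/

set_option autoImplicit false
set_option linter.all false
universe u

open Polynomial

namespace Groth.Agent.EtRamLib.DegP

variable {A : Type u} [CommRing A] [IsDomain A] [IsLocalRing A] [CharZero A] {p : ℕ} (hp : p.Prime)
  [CharP (IsLocalRing.ResidueField A) p] {ζ : A} (hζ : IsPrimitiveRoot ζ p) {P : A[X]}
  (hP : C ((1 - ζ) ^ p) * P = (1 + C (1 - ζ) * X) ^ p - 1)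

include hp hζ in
theorem one_sub_mem : 1 - ζ ∈ IsLocalRing.maximalIdeal A ∧ 1 - ζ ≠ 0 := by
  haveI := Fact.mk hp
  refine ⟨?_, sub_ne_zero.mpr fun h => hζ.ne_one hp.one_lt h.symm⟩
  rw [← IsLocalRing.residue_eq_zero_iff]
  refine eq_zero_of_pow_eq_zero (n := p) ?_
  rw [map_sub, sub_pow_char, map_one, one_pow, ← map_pow, hζ.pow_eq_one, map_one, sub_self]

include hp hζ hP in
theorem kummerPoly : P.Monic ∧ P.natDegree = p ∧ P.map (IsLocalRing.residue A) = X ^ p - X := by
  haveI := Fact.mk hp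
  obtain ⟨hwm, hw0⟩ := one_sub_mem hp hζ
  set w := 1 - ζ with hw
  have hexp : (1 + C w * X : A[X]) ^ p = ((1 + X) ^ p).comp (C w * X) := by
    rw [pow_comp, add_comp, one_comp, X_comp]
  have hcoef : ∀ i, w ^ p * P.coeff i = if i = 0 then 0 else (p.choose i : A) * w ^ i := fun i => by
    have h := congrArg (fun q : A[X] => q.coeff i) hP
    simp only [coeff_C_mul, coeff_sub, hexp, comp_C_mul_X_coeff, coeff_one_add_X_pow, coeff_one] at h
    rw [h]
    split <;> simp_all
  have hwp : w ^ p ≠ 0 := pow_ne_zero _ hw0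
  have hgt : ∀ i, p < i → P.coeff i = 0 := fun i hi => mul_left_cancel₀ hwp (by
    rw [hcoef, if_neg (by omega), Nat.choose_eq_zero_of_lt hi, Nat.cast_zero, zero_mul, mul_zero])
  have htop : P.coeff p = 1 := mul_left_cancel₀ hwp (by
    rw [hcoef, if_neg hp.ne_zero, Nat.choose_self, Nat.cast_one, one_mul, mul_one])
  have hdeg : P.natDegree = p := le_antisymm (natDegree_le_iff_coeff_eq_zero.mpr fun i hi => hgt i hi)
    (le_natDegree_of_ne_zero (by rw [htop]; exact one_ne_zero))
  have hmon : P.Monic := by rw [Monic, leadingCoeff, hdeg, htop]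
  refine ⟨hmon, hdeg, ?_⟩
  have h1 : w ^ (p - 1) * P.coeff 1 = (p : A) := mul_left_cancel₀ hw0 (by
    have h := hcoef 1
    rw [if_neg one_ne_zero, Nat.choose_one_right, pow_one] at h
    rw [← mul_assoc, ← pow_succ', Nat.sub_add_cancel hp.pos, h, mul_comm])
  have hmid : ∀ i, i ≠ 1 → i ≠ p → IsLocalRing.residue A (P.coeff i) = 0 := by
    intro i hi1 hip
    rcases Nat.lt_or_gt_of_ne hip with hlt | hgt'
    swap
    · rw [hgt i hgt', map_zero]
    rcases Nat.eq_zero_or_pos i with rfl | hi0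
    · rw [mul_left_cancel₀ hwp (show w ^ p * P.coeff 0 = w ^ p * 0 by rw [hcoef, if_pos rfl, mul_zero]), map_zero]
    obtain ⟨q, hq⟩ := hp.dvd_choose_self hi0.ne' hlt
    have h2 : P.coeff i = w * ((q : A) * P.coeff 1 * w ^ (i - 2)) := mul_left_cancel₀ hwp (by
      rw [hcoef, if_neg hi0.ne', hq, Nat.cast_mul, ← h1]
      obtain ⟨j, rfl⟩ : ∃ j, i = j + 2 := ⟨i - 2, by omega⟩
      obtain ⟨k, rfl⟩ : ∃ k, p = k + 1 := ⟨p - 1, by have := hp.pos; omega⟩
      simp only [Nat.add_sub_cancel]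
      ring)
    rw [h2, map_mul, IsLocalRing.residue_eq_zero_iff _ |>.mpr hwm, zero_mul]
  have hshape : P.map (IsLocalRing.residue A) = X ^ p + C (IsLocalRing.residue A (P.coeff 1)) * X := by
    ext i
    rw [coeff_map, coeff_add, coeff_X_pow, coeff_C_mul_X]
    by_cases hi1 : i = 1
    · subst hi1; rw [if_neg hp.one_lt.ne, if_pos rfl, zero_add]
    by_cases hip : i = p
    · subst hip; rw [if_pos rfl, if_neg hi1, add_zero, htop, map_one]
    rw [hmid i hi1 hip, if_neg hip, if_neg hi1, add_zero]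
  have hneg : P.eval (-1) = 0 := mul_left_cancel₀ hwp (by
    have h := congrArg (Polynomial.eval (-1 : A)) hP
    simp only [eval_mul, eval_C, eval_sub, eval_pow, eval_add, eval_one, eval_X, mul_neg, mul_one] at h
    rw [h, mul_zero, show (1 : A) + -w = ζ by rw [hw]; ring, hζ.pow_eq_one, sub_self])
  have h3 := congrArg (Polynomial.eval (IsLocalRing.residue A (-1))) hshape
  rw [eval_map, eval₂_at_apply] at h3
  simp only [hneg, map_zero, map_neg, map_one, eval_add, eval_pow, eval_X, eval_mul, eval_C, mul_neg, mul_one, neg_one_pow_char] at h3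
  have h4 : IsLocalRing.residue A (P.coeff 1) = -1 := by linear_combination h3
  rw [hshape, h4, C_neg, C_1]
  ring

end Groth.Agent.EtRamLib.DegP
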