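import Groth.Agent.EtRamLib.Center
import Groth.Agent.CAlgH.NagataBase
import Groth.Prelude.Def_EtRam
import Mathlib

/-! Perturbation of multiplications on integral lattices over a DVR, and centres of valuation rings. -/

set_option autoImplicit false
set_option linter.all false
universe u

open IsLocalRing TensorProduct

namespace Groth.Agent.EtRamLib.Lattice

variable {B : Type u} [CommRing B]

section Cen

variable {R M : Type u} [CommRing R] [Field M] [Algebra B R] [Algebra B M]

/-- The centre map to the residue field, on integral elements. -/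
noncomputable def cen (ρ : R →ₐ[B] M) (W : ValuationSubring M) (hW : ∀ b, algebraMap B M b ∈ W) :
    integralClosure B R →+* ResidueField W :=
  (residue W).comp ((ρ.toRingHom.comp (integralClosure B R).val.toRingHom).codRestrict W
    fun r => Center.mem_of_isIntegral W hW (r.2.map ρ))

theorem mem_ρ (ρ : R →ₐ[B] M) (W : ValuationSubring M) (hW : ∀ b, algebraMap B M b ∈ W) (r : integralClosure B R) :
    ρ r ∈ W := Center.mem_of_isIntegral W hW (r.2.map ρ)

theorem cen_apply (ρ : R →ₐ[B] M) (W : ValuationSubring M) (hW : ∀ b, algebraMap B M b ∈ W) (r : integralClosure B R) :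
    cen ρ W hW r = residue W ⟨ρ r, mem_ρ ρ W hW r⟩ := rfl

theorem res_zero_iff (W : ValuationSubring M) (w : W) : residue W w = 0 ↔ W.valuation w < 1 := by
  rw [IsLocalRing.residue_eq_zero_iff]
  exact W.valuation_lt_one_iff w

theorem cen_algebraMap_eq_zero [IsLocalRing B] (ρ : R →ₐ[B] M) (W : ValuationSubring M)
    (hW : EtRam.Dominates B (algebraMap B M) W) {b : B} (hb : b ∈ maximalIdeal B) :
    cen ρ W hW.1 (algebraMap B _ b) = 0 := by
  rw [cen_apply, res_zero_iff]
  show W.valuation (ρ (algebraMap B R b)) < 1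
  rw [ρ.commutes]
  exact hW.2 b hb

/-- The kernel of a centre map at a dominating valuation ring is maximal. -/
theorem isMaximal_ker [IsLocalRing B] (ρ : R →ₐ[B] M) (W : ValuationSubring M)
    (hW : EtRam.Dominates B (algebraMap B M) W) : (RingHom.ker (cen ρ W hW.1)).IsMaximal := by
  haveI : (RingHom.ker (cen ρ W hW.1)).IsPrime := RingHom.ker_isPrime _
  refine Ideal.isMaximal_of_isIntegral_of_isMaximal_comap (R := B) _ ?_
  have h : (RingHom.ker (cen ρ W hW.1)).comap (algebraMap B (integralClosure B R)) = maximalIdeal B := by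
    refine le_antisymm (le_maximalIdeal (Ideal.IsPrime.ne_top (Ideal.IsPrime.comap _))) fun b hb => ?_
    exact cen_algebraMap_eq_zero ρ W hW hb
  rw [h]; infer_instance

end Cen

section Source

variable [IsDomain B] [IsDiscreteValuationRing B] (L : Type u) [Field L] [Algebra B L] [IsFractionRing B L]
variable {R : Type u} [CommRing R] [IsReduced R] [Algebra L R] [Module.Finite L R] [Algebra B R] [IsScalarTower B L R]
include L

/-- Idempotent cutting out a field factor. -/
theorem exists_idem {M : Type u} [Field M] (ρ : R →+* M) :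
    ∃ e : R, e * e = e ∧ ρ e = 1 ∧ ∀ r, ρ r = 0 → e * r = 0 := by
  classical
  haveI : IsNoetherianRing R := isNoetherian_of_tower L inferInstance
  obtain ⟨S, hS⟩ := (RingHom.ker ρ).fg_of_isNoetherianRing
  choose c hh hc hann using fun r : R => WeakSol.exists_annihilator (F := L) r
  let s : R := ∏ r ∈ S, (algebraMap L R (c r) + r * hh r)
  have hs1 : ρ s ≠ 0 := by
    rw [map_prod]
    refine Finset.prod_ne_zero_iff.mpr fun r hr => ?_
    have h0 : ρ r = 0 := RingHom.mem_ker.mp (hS ▸ Ideal.subset_span hr)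
    rw [map_add, map_mul, h0, zero_mul, add_zero]
    exact (((hc r).isUnit).map (ρ.comp (algebraMap L R))).ne_zero
  have hs2 : ∀ r, ρ r = 0 → s * r = 0 := by
    intro r hr
    have h1 : r ∈ Ideal.span (S : Set R) := hS ▸ hr
    induction h1 using Submodule.span_induction with
    | mem x hx => rw [show s = (algebraMap L R (c x) + x * hh x) * ∏ y ∈ S.erase x, (algebraMap L R (c y) + y * hh y) from
        (Finset.mul_prod_erase S _ hx).symm, mul_comm _ x, ← mul_assoc, hann, zero_mul]
    | zero => rw [mul_zero]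
    | add x y hx hy hx' hy' => rw [mul_add, hx' (RingHom.mem_ker.mp (hS ▸ hx)), hy' (RingHom.mem_ker.mp (hS ▸ hy)), add_zero]
    | smul a x hx hx' => rw [smul_eq_mul, mul_left_comm, hx' (RingHom.mem_ker.mp (hS ▸ hx)), mul_zero]
  have hann' := hann s
  let e : R := -(algebraMap L R (c s)⁻¹) * (s * hh s)
  have hse : e * s = s := by
    have h1 : algebraMap L R (c s)⁻¹ * algebraMap L R (c s) = 1 := by rw [← map_mul, inv_mul_cancel₀ (hc s), map_one]
    simp only [e]
    linear_combination (-(algebraMap L R (c s)⁻¹)) * hann' + s * h1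
  refine ⟨e, ?_, ?_, fun r hr => ?_⟩
  · show e * (-(algebraMap L R (c s)⁻¹) * (s * hh s)) = e
    simp only [e] at hse ⊢
    linear_combination (-(algebraMap L R (c s)⁻¹) * hh s) * hse
  · have := congrArg ρ hse
    rw [map_mul] at this
    exact mul_eq_right₀ hs1 |>.mp this
  · simp only [e]
    linear_combination (-(algebraMap L R (c s)⁻¹) * hh s) * (hs2 r hr)

/-- Integral elements of a field quotient lift to integral elements. -/
theorem exists_lift {M : Type u} [Field M] [Algebra B M] (ρ : R →ₐ[B] M) (hρ : Function.Surjective ρ) {m : M}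
    (hm : IsIntegral B m) : ∃ o : integralClosure B R, ρ o = m := by
  obtain ⟨r, rfl⟩ := hρ m
  obtain ⟨e, he, he1, hek⟩ := exists_idem L ρ.toRingHom
  obtain ⟨P, hPm, hP⟩ := hm
  refine ⟨⟨e * r, Polynomial.X * P, Polynomial.monic_X.mul hPm, ?_⟩, ?_⟩
  · rw [← Polynomial.aeval_def, map_mul, Polynomial.aeval_X]
    have h1 : e * Polynomial.aeval (e * r) P = 0 := by
      refine hek _ ?_
      show ρ _ = 0
      rw [← Polynomial.aeval_algHom_apply, map_mul, show ρ e = 1 from he1, one_mul]
      exact hP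
    linear_combination r * h1
  · show ρ (e * r) = ρ r
    rw [map_mul, show ρ e = 1 from he1, one_mul]

theorem isAlgebraic_target {M : Type u} [Field M] [Algebra B M] (ρ : R →ₐ[B] M) (hρ : Function.Surjective ρ) :
    Algebra.IsAlgebraic B M ∧ Function.Injective (algebraMap B M) := by
  haveI : Algebra.IsAlgebraic B R := (IsFractionRing.comap_isAlgebraic_iff (A := B) (K := L)).mpr
    (Algebra.IsIntegral.isAlgebraic)
  refine ⟨⟨fun m => ?_⟩, fun x y h => ?_⟩
  · obtain ⟨r, rfl⟩ := hρ m
    exact (Algebra.IsAlgebraic.isAlgebraic r).algHom ρ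
  · by_contra hne
    rw [← sub_eq_zero, ← map_sub, ← ρ.commutes, IsScalarTower.algebraMap_apply B L R] at h
    exact ((IsFractionRing.to_map_ne_zero_of_mem_nonZeroDivisors (K := L)
      (mem_nonZeroDivisors_of_ne_zero (sub_ne_zero.mpr hne))).isUnit.map (ρ.toRingHom.comp (algebraMap L R))).ne_zero h

variable {M : Type u} [Field M] [Algebra B M] (ρ : R →ₐ[B] M) (hρ : Function.Surjective ρ)
  (W : ValuationSubring M) (hW : EtRam.Dominates B (algebraMap B M) W)

include hρ hW

theorem exists_frac {w : M} (hw : w ∈ W) :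
    ∃ s t : integralClosure B R, W.valuation (ρ t) = 1 ∧ w * ρ t = ρ s := by
  obtain ⟨halg, hinj⟩ := isAlgebraic_target L ρ hρ
  obtain ⟨s, t, hs, ht, ht1, hwt⟩ := Center.exists_fraction B hinj W hW hw
  obtain ⟨s', rfl⟩ := exists_lift L ρ hρ hs
  obtain ⟨t', rfl⟩ := exists_lift L ρ hρ ht
  exact ⟨s', t', ht1, hwt⟩

theorem cen_surjective : Function.Surjective (cen ρ W hW.1) := by
  intro x
  obtain ⟨w, rfl⟩ := residue_surjective x
  obtain ⟨s, t, ht, hwt⟩ := exists_frac L ρ hρ W hW w.2
  have hne : cen ρ W hW.1 t ≠ 0 := fun h0 => (show W.valuation (ρ t) < 1 from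
    (res_zero_iff W ⟨_, mem_ρ ρ W hW.1 t⟩).mp h0).ne ht
  haveI := isMaximal_ker ρ W hW
  obtain ⟨t', i, hi, hti⟩ := (isMaximal_ker ρ W hW).exists_inv (show t ∉ RingHom.ker (cen ρ W hW.1) from hne)
  have ht' : t' * t - 1 ∈ RingHom.ker (cen ρ W hW.1) := by
    rw [show t' * t - 1 = -i by linear_combination hti]; exact neg_mem hi
  refine ⟨s * t', ?_⟩
  have h1 : cen ρ W hW.1 s = residue W w * cen ρ W hW.1 t := by
    rw [cen_apply, cen_apply, ← map_mul]
    exact congrArg _ (Subtype.ext hwt.symm)
  rw [map_mul, h1, mul_assoc]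
  have h2 : cen ρ W hW.1 (t' * t - 1) = 0 := ht'
  rw [map_sub, map_mul, map_one, sub_eq_zero, mul_comm] at h2
  rw [h2, mul_one]

theorem exists_gen (hfin : Module.Finite B (integralClosure B R)) :
    ∃ g : W, maximalIdeal W = Ideal.span {g} := by
  haveI : IsNoetherianRing (integralClosure B R) := IsNoetherianRing.of_finite B _
  let ψ : integralClosure B R →+* W := (ρ.toRingHom.comp (integralClosure B R).val.toRingHom).codRestrict W
    fun r => mem_ρ ρ W hW.1 r
  have h : maximalIdeal W = (RingHom.ker (cen ρ W hW.1)).map ψ := by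
    refine le_antisymm (fun w hw => ?_) (Ideal.map_le_iff_le_comap.mpr fun r hr => ?_)
    · obtain ⟨s, t, ht, hwt⟩ := exists_frac L ρ hρ W hW w.2
      have hu : IsUnit (ψ t) := (W.valuation_eq_one_iff _).mpr ht
      have hs : ψ s = w * ψ t := Subtype.ext hwt.symm
      have hsk : s ∈ RingHom.ker (cen ρ W hW.1) := by
        show residue W (ψ s) = 0
        rw [hs, map_mul, (IsLocalRing.residue_eq_zero_iff w).mpr hw, zero_mul]
      obtain ⟨v, hv⟩ := hu.exists_right_inv
      rw [show w = ψ s * v by rw [hs, mul_assoc, hv, mul_one]]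
      exact Ideal.mul_mem_right _ _ (Ideal.mem_map_of_mem ψ hsk)
    · exact (IsLocalRing.residue_eq_zero_iff _).mp hr
  obtain ⟨g, hg⟩ := (IsBezout.isPrincipal_of_FG (maximalIdeal W)
    (h ▸ Ideal.FG.map (IsNoetherian.noetherian _) ψ)).principal
  exact ⟨g, hg⟩

/-- A uniformizer generates the centre modulo its square. -/
theorem ker_le_span (u : integralClosure B R) (hu : ∀ w : W, w ∈ maximalIdeal W → ∃ v : W, (w : M) = ρ u * v) :
    RingHom.ker (cen ρ W hW.1) ≤ Ideal.span {u} ⊔ RingHom.ker (cen ρ W hW.1) * RingHom.ker (cen ρ W hW.1) := by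
  intro x hx
  obtain ⟨v, hv⟩ := hu ⟨ρ x, mem_ρ ρ W hW.1 x⟩ ((IsLocalRing.residue_eq_zero_iff _).mp hx)
  obtain ⟨s, t, ht, hvt⟩ := exists_frac L ρ hρ W hW v.2
  obtain ⟨e, he, he1, hek⟩ := exists_idem L ρ.toRingHom
  have heint : IsIntegral B e := ⟨Polynomial.X ^ 2 - Polynomial.X, Polynomial.monic_X_pow_sub (by simp), by
    simp [sq, he]⟩
  let e' : integralClosure B R := ⟨e, heint⟩
  have h1 : e' * t * x = e' * s * u := Subtype.ext (by
    show e * (t : R) * x = e * s * u
    have h0 : ρ ((t : R) * x - s * u) = 0 := by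
      simp only [map_sub, map_mul]
      rw [show ρ (x : R) = ρ u * v from hv, ← hvt]
      ring
    linear_combination hek _ h0)
  have hne : cen ρ W hW.1 (e' * t) ≠ 0 := fun h0 => (show W.valuation (ρ (e * t)) < 1 from
    (res_zero_iff W ⟨_, mem_ρ ρ W hW.1 (e' * t)⟩).mp h0).ne (by
      rw [map_mul, show ρ e = 1 from he1, one_mul]; exact ht)
  haveI := isMaximal_ker ρ W hW
  obtain ⟨y, i, hi, hyi⟩ := (isMaximal_ker ρ W hW).exists_inv (show e' * t ∉ RingHom.ker (cen ρ W hW.1) from hne)
  have hy : y * (e' * t) - 1 ∈ RingHom.ker (cen ρ W hW.1) := by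
    rw [show y * (e' * t) - 1 = -i by linear_combination hyi]; exact neg_mem hi
  rw [show x = y * (e' * s) * u + (-(y * (e' * t) - 1)) * x by linear_combination y * h1]
  exact Submodule.add_mem_sup (Ideal.mul_mem_left _ _ (Ideal.mem_span_singleton_self u))
    (Ideal.mul_mem_mul (neg_mem hy) hx)

end Source

end Groth.Agent.EtRamLib.Lattice
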