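import Groth.Agent.EtRamLib.Lattice
import Mathlib

/-! Transfer of centres along perturbations of the multiplication of an integral lattice. -/

set_option autoImplicit false
set_option linter.all false
universe u

open IsLocalRing TensorProduct

namespace Groth.Agent.EtRamLib.Lattice

variable {B : Type u} [CommRing B] [IsDomain B] [IsDiscreteValuationRing B]

section Pair

variable (L : Type u) [Field L] [Algebra B L] [IsFractionRing B L]
variable {R : Type u} [CommRing R] [IsReduced R] [Algebra L R] [Module.Finite L R] [Algebra B R] [IsScalarTower B L R]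
include L

/-- Every prime over the closed point is the centre of a valuation ring on a field factor. -/
theorem exists_pair (P : Ideal (integralClosure B R)) [P.IsPrime] (hP : ∀ b ∈ maximalIdeal B, algebraMap B _ b ∈ P) :
    ∃ (Q : Ideal R) (_ : Q.IsMaximal),
      letI : Field (R ⧸ Q) := Ideal.Quotient.field Q
      ∃ (W : ValuationSubring (R ⧸ Q)) (hW : EtRam.Dominates B (algebraMap B (R ⧸ Q)) W),
      RingHom.ker (cen (Ideal.Quotient.mkₐ B Q) W hW.1) = P := by
  classical
  haveI : IsArtinianRing R := IsArtinianRing.of_finite L R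
  obtain ⟨Q, hQP⟩ : ∃ Q : MaximalSpectrum R, ∀ o : integralClosure B R, (o : R) ∈ Q.asIdeal → o ∈ P := by
    by_contra hcon
    push Not at hcon
    choose o ho hoP using hcon
    letI := Fintype.ofFinite (MaximalSpectrum R)
    have h0 : (∏ Q, o Q) = 0 := by
      refine Subtype.ext ((IsArtinianRing.equivPi R).injective (funext fun Q => ?_))
      rw [ZeroMemClass.coe_zero, map_zero]
      show Ideal.Quotient.mk Q.asIdeal _ = 0
      rw [Ideal.Quotient.eq_zero_iff_mem, SubmonoidClass.coe_finsetProd]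
      exact Ideal.prod_mem Q.asIdeal (Finset.mem_univ Q) (ho Q) |> fun h => h
    obtain ⟨Q, -, hQ⟩ := (Ideal.IsPrime.prod_mem_iff (p := P)).mp (show ∏ Q, o Q ∈ P by rw [h0]; exact zero_mem _)
    exact hoP Q hQ
  letI : Field (R ⧸ Q.asIdeal) := Ideal.Quotient.field _
  let M := R ⧸ Q.asIdeal
  let f : integralClosure B R →+* M := (Ideal.Quotient.mk Q.asIdeal).comp (integralClosure B R).val.toRingHom
  have hker : RingHom.ker f ≤ P := fun o ho => hQP o (Ideal.Quotient.eq_zero_iff_mem.mp ho)
  let T := f.range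
  let fT := f.rangeRestrict
  haveI hPT : (P.map fT).IsPrime :=
    Ideal.map_isPrime_of_surjective f.rangeRestrict_surjective (by rw [RingHom.ker_rangeRestrict]; exact hker)
  obtain ⟨W, hW0⟩ := (LocalSubring.ofPrime T (P.map fT)).exists_le_valuationSubring
  let S := LocalSubring.ofPrime T (P.map fT)
  have hTW : ∀ o, f o ∈ W := fun o => hW0.1 (LocalSubring.le_ofPrime T (P.map fT) (fT o).2)
  have hiff : ∀ o : integralClosure B R, W.valuation (f o) < 1 ↔ o ∈ P := by
    intro o
    let o' : S.toSubring := ⟨f o, LocalSubring.le_ofPrime T (P.map fT) (fT o).2⟩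
    have h1 : W.valuation (f o) < 1 ↔ ¬ IsUnit o' := by
      refine (W.valuation_lt_one_iff ⟨f o, hTW o⟩).symm.trans ?_
      rw [mem_maximalIdeal, mem_nonunits_iff]
      exact not_congr ⟨fun h => hW0.2.1 o' h, fun h => h.map (Subring.inclusion hW0.1)⟩
    rw [h1, ← mem_nonunits_iff, ← mem_maximalIdeal]
    refine (IsLocalization.AtPrime.to_map_mem_maximal_iff (R := T) S.toSubring (P.map fT) (fT o)).trans ?_
    rw [← Ideal.mem_comap, Ideal.comap_map_of_surjective _ f.rangeRestrict_surjective, ← RingHom.ker_eq_comap_bot,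
      RingHom.ker_rangeRestrict, sup_eq_left.mpr hker]
  have hWd : EtRam.Dominates B (algebraMap B M) W :=
    ⟨fun b => hTW (algebraMap B _ b), fun b hb => (hiff (algebraMap B _ b)).mpr (hP b hb)⟩
  refine ⟨Q.asIdeal, inferInstance, W, hWd, Ideal.ext fun o => ?_⟩
  rw [RingHom.mem_ker, cen_apply, res_zero_iff]
  exact hiff o

end Pair

section Target

variable {R₂ R₃ : Type u} [CommRing R₂] [CommRing R₃] [Algebra B R₂] [Algebra B R₃]

/-- A perturbation of the lattice `integralClosure B R₂`. -/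
structure Pert (π : B) (R₂ R₃ : Type u) [CommRing R₂] [CommRing R₃] [Algebra B R₂] [Algebra B R₃] where
  Φ : R₂ ≃ₗ[B] R₃
  fin : Module.Finite B (integralClosure B R₂)
  one : Φ 1 = 1
  mul : ∀ x y : integralClosure B R₂, ∃ w : integralClosure B R₂,
    Φ x * Φ y = Φ (x * y : R₂) + π ^ 2 • Φ w
  den : ∀ r : R₂, ∃ n : ℕ, IsIntegral B (π ^ n • r)

variable {π : B} (D : Pert π R₂ R₃)

/-- The perturbed lattice. -/
noncomputable def Pert.ord : Subalgebra B R₃ :=
  ((integralClosure B R₂).toSubmodule.map D.Φ.toLinearMap).toSubalgebra ⟨1, Subalgebra.one_mem _, D.one⟩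
    (by
      rintro _ _ ⟨x, hx, rfl⟩ ⟨y, hy, rfl⟩
      obtain ⟨w, hw⟩ := D.mul ⟨x, hx⟩ ⟨y, hy⟩
      exact ⟨x * y + π ^ 2 • (w : R₂), (show x * y + π ^ 2 • (w : R₂) ∈ integralClosure B R₂ from add_mem (mul_mem (show x ∈ integralClosure B R₂ from hx) hy) (Subalgebra.smul_mem _ w.2 _)), by
        show D.Φ _ = D.Φ x * D.Φ y
        rw [map_add, map_smul, hw]⟩)

/-- The lattice map. -/
noncomputable def Pert.to (x : integralClosure B R₂) : D.ord := ⟨D.Φ x, x, x.2, rfl⟩

theorem Pert.to_surjective : Function.Surjective D.to := by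
  rintro ⟨_, x, hx, rfl⟩
  exact ⟨⟨x, hx⟩, rfl⟩

theorem Pert.finite_ord : Module.Finite B D.ord := by
  haveI := D.fin
  exact Module.Finite.of_surjective
    ({ toFun := D.to, map_add' := fun x y => Subtype.ext (map_add D.Φ _ _),
       map_smul' := fun b x => Subtype.ext (map_smul D.Φ b _) } : integralClosure B R₂ →ₗ[B] D.ord) D.to_surjective

variable {M : Type u} [Field M] [Algebra B M] (ρ : R₃ →ₐ[B] M) (W : ValuationSubring M)
  (hW : EtRam.Dominates B (algebraMap B M) W) (hπ : π ∈ maximalIdeal B)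

include hW in
theorem Pert.mem_W (o : D.ord) : ρ o ∈ W := by
  haveI := D.finite_ord
  exact Center.mem_of_isIntegral W hW.1 (((Algebra.IsIntegral.isIntegral (R := B) o).map D.ord.val).map ρ)

/-- The evaluation of the lattice in the valuation ring. -/
noncomputable def Pert.toW : D.ord →+* W :=
  (ρ.toRingHom.comp D.ord.val.toRingHom).codRestrict W (D.mem_W ρ W hW)

include hπ in
theorem residue_pi : residue W (⟨algebraMap B M π, hW.1 π⟩ : W) = 0 :=
  (res_zero_iff W _).mpr (hW.2 π hπ)

include hπ in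
theorem Pert.res_mul (x y : integralClosure B R₂) :
    residue W (D.toW ρ W hW (D.to (x * y))) = residue W (D.toW ρ W hW (D.to x)) * residue W (D.toW ρ W hW (D.to y)) := by
  obtain ⟨w, hw⟩ := D.mul x y
  have h : D.toW ρ W hW (D.to x) * D.toW ρ W hW (D.to y) = D.toW ρ W hW (D.to (x * y)) +
      (⟨algebraMap B M π, hW.1 π⟩ : W) * (⟨algebraMap B M π, hW.1 π⟩ * D.toW ρ W hW (D.to w)) := Subtype.ext (by
    show ρ (D.Φ x) * ρ (D.Φ y) = ρ (D.Φ (x * y : R₂)) + algebraMap B M π * (algebraMap B M π * ρ (D.Φ w))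
    rw [← map_mul, hw, map_add, map_smul, Algebra.smul_def, map_pow, sq, mul_assoc])
  rw [← map_mul, h, map_add, map_mul (residue W) (⟨algebraMap B M π, hW.1 π⟩ : W), residue_pi W hW hπ, zero_mul, add_zero]

/-- The centre map seen on the unperturbed lattice. -/
noncomputable def Pert.cen : integralClosure B R₂ →+* ResidueField W where
  toFun x := residue W (D.toW ρ W hW (D.to x))
  map_one' := by rw [show D.to 1 = 1 from Subtype.ext D.one, map_one, map_one]
  map_mul' x y := D.res_mul ρ W hW hπ x y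
  map_zero' := by rw [show D.to 0 = 0 from Subtype.ext (map_zero D.Φ), map_zero, map_zero]
  map_add' x y := by rw [show D.to (x + y) = D.to x + D.to y from Subtype.ext (map_add D.Φ _ _), map_add, map_add]

theorem Pert.cen_algebraMap_eq_zero {b : B} (hb : b ∈ maximalIdeal B) :
    D.cen ρ W hW hπ (algebraMap B _ b) = 0 := by
  show residue W (D.toW ρ W hW (D.to (algebraMap B _ b))) = 0
  refine (res_zero_iff W _).mpr ?_
  show W.valuation (ρ (D.Φ (algebraMap B R₂ b))) < 1
  rw [Algebra.algebraMap_eq_smul_one, map_smul, D.one, map_smul, map_one, ← Algebra.algebraMap_eq_smul_one]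
  exact hW.2 b hb

variable (hπm : maximalIdeal B = Ideal.span {π}) (hρ : Function.Surjective ρ)

include hπm hρ in
/-- A generator of the centre modulo its square generates the maximal ideal, and the lattice exhausts the residue field. -/
theorem Pert.main (hπ0 : algebraMap B M π ≠ 0) (u : integralClosure B R₂) (hu0 : D.cen ρ W hW hπ u = 0)
    (hu : RingHom.ker (D.cen ρ W hW hπ) ≤ Ideal.span {u} ⊔ RingHom.ker (D.cen ρ W hW hπ) * RingHom.ker (D.cen ρ W hW hπ)) :
    (∀ w : W, w ∈ maximalIdeal W → ∃ v : W, w = D.toW ρ W hW (D.to u) * v) ∧ Function.Surjective (D.cen ρ W hW hπ) := by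
  classical
  haveI := D.finite_ord
  haveI : IsNoetherianRing D.ord := IsNoetherianRing.of_finite B D.ord
  let ψ := D.toW ρ W hW
  let P := RingHom.ker ((residue W).comp ψ)
  haveI : P.IsPrime := RingHom.ker_isPrime _
  haveI hPmax : P.IsMaximal := by
    refine Ideal.isMaximal_of_isIntegral_of_isMaximal_comap (R := B) P ?_
    have h : P.comap (algebraMap B D.ord) = maximalIdeal B := by
      refine le_antisymm (le_maximalIdeal (Ideal.IsPrime.ne_top (Ideal.IsPrime.comap _))) fun b hb => ?_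
      show residue W (ψ (algebraMap B D.ord b)) = 0
      refine (res_zero_iff W _).mpr ?_
      show W.valuation (ρ (algebraMap B R₃ b)) < 1
      rw [ρ.commutes]; exact hW.2 b hb
    rw [h]; infer_instance
  let π₃ : D.ord := algebraMap B D.ord π
  have hπ₃ : π₃ ∈ P := by
    show residue W (ψ π₃) = 0
    refine (res_zero_iff W _).mpr ?_
    show W.valuation (ρ (algebraMap B R₃ π)) < 1
    rw [ρ.commutes]; exact hW.2 π hπ
  have hto_add : ∀ x y, D.to (x + y) = D.to x + D.to y := fun x y => Subtype.ext (map_add D.Φ _ _)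
  have hto_mul : ∀ x y, ∃ w, D.to x * D.to y = D.to (x * y) + π₃ * π₃ * D.to w := fun x y => by
    obtain ⟨w, hw⟩ := D.mul x y
    refine ⟨w, Subtype.ext ?_⟩
    show D.Φ x * D.Φ y = D.Φ (x * y : R₂) + algebraMap B R₃ π * algebraMap B R₃ π * D.Φ w
    rw [hw, Algebra.smul_def, map_pow, sq]
  let u₃ := D.to u
  have hP : P ≤ Ideal.span {u₃} ⊔ P * P := by
    intro o ho
    obtain ⟨x, rfl⟩ := D.to_surjective o
    have hx : x ∈ Ideal.span {u} ⊔ RingHom.ker (D.cen ρ W hW hπ) * RingHom.ker (D.cen ρ W hW hπ) := hu ho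
    obtain ⟨a, ha, b, hb, rfl⟩ := Submodule.mem_sup.mp hx
    rw [hto_add]
    refine add_mem ?_ (Submodule.mem_sup_right ?_)
    · obtain ⟨r, rfl⟩ := Ideal.mem_span_singleton'.mp ha
      obtain ⟨w, hw⟩ := hto_mul r u
      rw [show D.to (r * u) = D.to r * u₃ + (-(π₃ * π₃ * D.to w)) by rw [hw]; ring]
      exact Submodule.add_mem_sup (Ideal.mul_mem_left _ _ (Ideal.mem_span_singleton_self _))
        (neg_mem (Ideal.mul_mem_right _ _ (Ideal.mul_mem_mul hπ₃ hπ₃)))
    · refine Submodule.mul_induction_on (C := fun b => D.to b ∈ P * P) hb (fun y hy z hz => ?_) fun y z hy hz => ?_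
      · obtain ⟨w, hw⟩ := hto_mul y z
        rw [show D.to (y * z) = D.to y * D.to z + (-(π₃ * π₃ * D.to w)) by rw [hw]; ring]
        exact add_mem (Ideal.mul_mem_mul hy hz) (neg_mem (Ideal.mul_mem_right _ _ (Ideal.mul_mem_mul hπ₃ hπ₃)))
      · rw [hto_add]; exact add_mem hy hz
  let L₀ := Localization.AtPrime P
  haveI : IsNoetherianRing L₀ := IsLocalization.isNoetherianRing P.primeCompl L₀ inferInstance
  let θ : L₀ →+* W := IsLocalization.lift (M := P.primeCompl) (g := ψ) fun t => by
    by_contra h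
    exact t.2 ((IsLocalRing.residue_eq_zero_iff _).mpr ((mem_maximalIdeal _).mpr h))
  have hθ : ∀ o, θ (algebraMap D.ord L₀ o) = ψ o := fun o => IsLocalization.lift_eq _ o
  let g := algebraMap D.ord L₀ u₃
  have hgm : g ∈ maximalIdeal L₀ := (IsLocalization.AtPrime.to_map_mem_maximal_iff L₀ P u₃).mpr hu0
  have hmax : maximalIdeal L₀ = Ideal.span {g} := by
    refine le_antisymm ?_ ((Ideal.span_singleton_le_iff_mem _).mpr hgm)
    have h1 : maximalIdeal L₀ ≤ Ideal.span {g} ⊔ maximalIdeal L₀ * maximalIdeal L₀ := by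
      conv_lhs => rw [← Localization.AtPrime.map_eq_maximalIdeal]
      refine (Ideal.map_mono hP).trans ?_
      rw [Ideal.map_sup, Ideal.map_span, Set.image_singleton, Ideal.map_mul, Localization.AtPrime.map_eq_maximalIdeal]
    exact Submodule.le_of_le_smul_of_le_jacobson_bot (IsNoetherian.noetherian _) (maximalIdeal_le_jacobson ⊥) h1
  have hθloc : ∀ c : L₀, c ∈ maximalIdeal L₀ → θ c ∈ maximalIdeal W := by
    intro c hc
    rw [hmax, Ideal.mem_span_singleton'] at hc
    obtain ⟨r, rfl⟩ := hc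
    rw [map_mul]
    refine Ideal.mul_mem_left _ _ ?_
    rw [hθ]
    exact (IsLocalRing.residue_eq_zero_iff _).mp hu0
  have hθgM : ∀ c : L₀, θ c ≠ 0 → ∃ (i : ℕ) (v : L₀), IsUnit v ∧ c = g ^ i * v := by
    intro c hc
    have hnot : ∃ n, c ∉ maximalIdeal L₀ ^ n := by
      by_contra hall
      push Not at hall
      refine hc ?_
      have : c ∈ (⊥ : Ideal L₀) := by
        rw [← Ideal.iInf_pow_eq_bot_of_isLocalRing (I := maximalIdeal L₀) (IsLocalRing.maximalIdeal.isMaximal L₀).ne_top]
        exact Submodule.mem_iInf _ |>.mpr hall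
      rw [(Submodule.mem_bot _).mp this, map_zero]
    let n := Nat.find hnot
    have hn : c ∉ maximalIdeal L₀ ^ n := Nat.find_spec hnot
    have hn0 : n ≠ 0 := fun h => hn (by rw [h, pow_zero, Ideal.one_eq_top]; trivial)
    have hlt : c ∈ maximalIdeal L₀ ^ (n - 1) := not_not.mp (Nat.find_min hnot (Nat.sub_lt (Nat.pos_of_ne_zero hn0) one_pos))
    rw [hmax, Ideal.span_singleton_pow, Ideal.mem_span_singleton'] at hlt
    obtain ⟨v, hv0⟩ := hlt
    refine ⟨n - 1, v, ?_, hv0.symm.trans (mul_comm _ _)⟩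
    by_contra hv
    refine hn ?_
    rw [← Nat.sub_add_cancel (Nat.pos_of_ne_zero hn0), pow_succ']
    rw [← hv0]
    exact Ideal.mul_mem_mul ((mem_maximalIdeal _).mpr hv) (Ideal.pow_mem_pow hgm (n - 1))
  have hsurj : Function.Surjective θ := by
    intro w
    by_cases hw0 : w = 0
    · exact ⟨0, by rw [map_zero, hw0]⟩
    obtain ⟨r, hr⟩ := hρ (w : M)
    obtain ⟨n, hn⟩ := D.den (D.Φ.symm r)
    let o : D.ord := D.to ⟨π ^ n • D.Φ.symm r, hn⟩
    have ho : ψ o = ψ π₃ ^ n * w := Subtype.ext (by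
      show ρ (D.Φ (π ^ n • D.Φ.symm r)) = ρ (algebraMap B R₃ π) ^ n * (w : M)
      rw [map_smul, LinearEquiv.apply_symm_apply, Algebra.smul_def, map_mul, hr, ρ.commutes, map_pow, ρ.commutes])
    have hπW : ψ π₃ ≠ 0 := fun h => hπ0 (by
      have := congrArg Subtype.val h
      rw [show ((ψ π₃ : W) : M) = ρ (algebraMap B R₃ π) from rfl, ρ.commutes] at this
      exact this)
    obtain ⟨i, v, hv, hov⟩ := hθgM (algebraMap D.ord L₀ o) (by
      rw [hθ, ho]; exact mul_ne_zero (pow_ne_zero _ hπW) hw0)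
    obtain ⟨k, v', hv', hπv⟩ := hθgM (algebraMap D.ord L₀ π₃) (by rw [hθ]; exact hπW)
    have key : θ g ^ i * θ v = θ g ^ (k * n) * (θ v' ^ n * w) := by
      rw [← map_pow, ← map_mul, ← hov, hθ, ho, ← hθ π₃, hπv, map_mul, map_pow, mul_pow, ← pow_mul, mul_assoc]
    have hg0 : θ g ≠ 0 := fun h => by
      have h1 : θ (g ^ i * v) ≠ 0 := by
        rw [← hov, hθ, ho]; exact mul_ne_zero (pow_ne_zero _ hπW) hw0
      by_cases hi : i = 0
      · have h2 := key
        rw [h, hi, pow_zero, one_mul] at h2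
        by_cases hkn : k * n = 0
        · have h3 : θ (algebraMap D.ord L₀ π₃) = θ g ^ k * θ v' := by rw [hπv, map_mul, map_pow]
          rw [h] at h3
          rcases Nat.eq_zero_or_pos k with hk | hk
          · have h4 : algebraMap D.ord L₀ π₃ ∈ maximalIdeal L₀ :=
              (IsLocalization.AtPrime.to_map_mem_maximal_iff L₀ P π₃).mpr hπ₃
            rw [hπv, hk, pow_zero, one_mul] at h4
            exact (mem_maximalIdeal _).mp h4 hv'
          · rw [zero_pow hk.ne', zero_mul, hθ] at h3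
            exact hπW h3
        · rw [zero_pow hkn, zero_mul] at h2
          exact (hv.map θ).ne_zero h2
      · exact h1 (by rw [map_mul, map_pow, h, zero_pow hi, zero_mul])
    rcases le_or_gt (k * n) i with hle | hlt
    · refine ⟨g ^ (i - k * n) * v * (↑(hv'.unit⁻¹) : L₀) ^ n, ?_⟩
      rw [← Nat.add_sub_cancel' hle, pow_add, mul_assoc] at key
      have h2 := mul_left_cancel₀ (pow_ne_zero _ hg0) key
      have h3 : θ v' * θ (↑(hv'.unit⁻¹) : L₀) = 1 := by rw [← map_mul, hv'.mul_val_inv, map_one]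
      rw [map_mul, map_mul, map_pow, map_pow, h2, mul_comm (θ v' ^ n) w, mul_assoc, ← mul_pow, h3, one_pow, mul_one]
    · exfalso
      rw [← Nat.add_sub_cancel' hlt.le, pow_add, mul_assoc] at key
      have h2 := mul_left_cancel₀ (pow_ne_zero _ hg0) key
      have h3 : θ v ∈ maximalIdeal W := by
        rw [h2]
        refine Ideal.mul_mem_right _ _ (Ideal.pow_mem_of_mem _ (hθloc g hgm) _ (Nat.sub_pos_of_lt hlt))
      exact (mem_maximalIdeal _).mp h3 (hv.map θ)
  refine ⟨fun w hw => ?_, fun x => ?_⟩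
  · obtain ⟨c, rfl⟩ := hsurj w
    have hc : c ∈ maximalIdeal L₀ := (mem_maximalIdeal _).mpr fun hu => (mem_maximalIdeal _).mp hw (hu.map θ)
    rw [hmax, Ideal.mem_span_singleton'] at hc
    obtain ⟨a, rfl⟩ := hc
    exact ⟨θ a, by rw [map_mul, hθ, mul_comm]⟩
  · obtain ⟨w, rfl⟩ := residue_surjective x
    obtain ⟨c, rfl⟩ := hsurj w
    obtain ⟨o, t, rfl⟩ := IsLocalization.exists_mk'_eq P.primeCompl c
    obtain ⟨t', i, hi, hti⟩ := hPmax.exists_inv t.2
    obtain ⟨x', hx'⟩ := D.to_surjective (o * t')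
    refine ⟨x', ?_⟩
    show residue W (ψ (D.to x')) = _
    have h1 : residue W (θ (IsLocalization.mk' L₀ o t)) * residue W (ψ t) = residue W (ψ o) := by
      rw [← map_mul, ← hθ, ← map_mul, IsLocalization.mk'_spec, hθ]
    have h2 : residue W (ψ t') * residue W (ψ t) = 1 := by
      rw [← map_mul, ← map_mul, show t' * (t : D.ord) = 1 - i by linear_combination hti, map_sub, map_sub, map_one,
        map_one, show residue W (ψ i) = 0 from hi, sub_zero]
    rw [hx', map_mul, map_mul, ← h1, mul_assoc, mul_comm (residue W (ψ t)), h2, mul_one]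

end Target

end Groth.Agent.EtRamLib.Lattice
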