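import Groth.Agent.EtRamLib.Perturb
import Mathlib

/-! Bounds on lattices and finiteness of integral closures in reduced finite algebras over the fraction field. -/

set_option autoImplicit false
set_option linter.all false
universe u

open IsLocalRing TensorProduct

namespace Groth.Agent.EtRamLib.Lattice

variable {B : Type u} [CommRing B] [IsDomain B] [IsDiscreteValuationRing B]
variable (L : Type u) [Field L] [Algebra B L] [IsFractionRing B L]
variable {R : Type u} [CommRing R] [Algebra L R] [Module.Finite L R] [Algebra B R] [IsScalarTower B L R]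

theorem unit_smul_mem {p : Submodule B R} {b : B} (hb : IsUnit b) {x : R} (h : b • x ∈ p) : x ∈ p := by
  obtain ⟨v, hv⟩ := hb.exists_left_inv
  have := p.smul_mem v h
  rwa [smul_smul, hv, one_smul] at this

include L in
theorem exists_den {π : B} (hπ : Irreducible π) (r : R) : ∃ n : ℕ, IsIntegral B (π ^ n • r) := by
  haveI : Algebra.IsAlgebraic B R := (IsFractionRing.comap_isAlgebraic_iff (A := B) (K := L)).mpr Algebra.IsIntegral.isAlgebraic
  obtain ⟨b, hb, hint⟩ := (Algebra.IsAlgebraic.isAlgebraic (R := B) r).exists_integral_multiple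
  obtain ⟨n, hn⟩ := IsDiscreteValuationRing.associated_pow_irreducible hb hπ
  obtain ⟨v, hv⟩ := hn
  refine ⟨n, ?_⟩
  have h := hint.smul (v : B)
  rw [smul_smul, mul_comm, hv] at h
  exact h

include L in
theorem exists_bound {π : B} (hπ : Irreducible π) (hfin : Module.Finite B (integralClosure B R))
    (δ : R →ₗ[B] R →ₗ[B] R) :
    ∃ s : ℕ, ∀ n, s ≤ n → ∀ x y : integralClosure B R, IsIntegral B (π ^ n • δ x y) := by
  classical
  obtain ⟨S, hS⟩ := Module.Finite.fg_top (R := B) (M := integralClosure B R)
  choose N hN using fun r : R => exists_den (B := B) L hπ r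
  let s := (S ×ˢ S).sup fun p => N (δ p.1 p.2)
  refine ⟨s, fun n hn x y => ?_⟩
  have hx : x ∈ Submodule.span B (S : Set (integralClosure B R)) := by rw [hS]; trivial
  have hy : y ∈ Submodule.span B (S : Set (integralClosure B R)) := by rw [hS]; trivial
  induction hx using Submodule.span_induction with
  | mem a ha =>
    induction hy using Submodule.span_induction with
    | mem b hb =>
      have hle : N (δ a b) ≤ n := le_trans (Finset.le_sup (f := fun p : integralClosure B R × integralClosure B R => N (δ (p.1 : R) (p.2 : R))) (b := (a, b)) (Finset.mk_mem_product ha hb)) hn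
      rw [← Nat.sub_add_cancel hle, pow_add, ← smul_smul]
      exact (hN _).smul _
    | zero => rw [ZeroMemClass.coe_zero, map_zero, smul_zero]; exact isIntegral_zero
    | add b c _ _ hb hc => rw [AddMemClass.coe_add, map_add, smul_add]; exact hb.add hc
    | smul t b _ hb => rw [SetLike.val_smul, map_smul, smul_comm]; exact hb.smul t
  | zero => rw [ZeroMemClass.coe_zero, map_zero, LinearMap.zero_apply, smul_zero]; exact isIntegral_zero
  | add a c _ _ ha hc => rw [AddMemClass.coe_add, map_add, LinearMap.add_apply, smul_add]; exact ha.add hc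
  | smul t a _ ha => rw [SetLike.val_smul, map_smul, LinearMap.smul_apply, smul_comm]; exact ha.smul t

include L in
theorem finite_of_isNagata [IsReduced R] (hN : CAlg.IsNagata B) : Module.Finite B (integralClosure B R) := by
  classical
  haveI : IsArtinianRing R := IsArtinianRing.of_finite L R
  letI := Fintype.ofFinite (MaximalSpectrum R)
  haveI := hN.1
  haveI : (⊥ : Ideal B).IsPrime := Ideal.isPrime_bot
  have h2 : CAlg.IsN2 B := CAlgH.isN2_of_ringEquiv (RingEquiv.quotientBot B) (hN.2 ⊥)
  letI : ∀ Q : MaximalSpectrum R, Field (R ⧸ Q.asIdeal) := fun Q => Ideal.Quotient.field _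
  have hfin : ∀ Q : MaximalSpectrum R, Module.Finite B (integralClosure B (R ⧸ Q.asIdeal)) := fun Q => by
    letI : Algebra (FractionRing B) (R ⧸ Q.asIdeal) :=
      ((algebraMap L (R ⧸ Q.asIdeal)).comp (FractionRing.algEquiv B L).toAlgHom.toRingHom).toAlgebra
    haveI : IsScalarTower B (FractionRing B) (R ⧸ Q.asIdeal) := IsScalarTower.of_algebraMap_eq fun b => by
      show _ = algebraMap L (R ⧸ Q.asIdeal) (FractionRing.algEquiv B L (algebraMap B (FractionRing B) b))
      rw [AlgEquiv.commutes, ← IsScalarTower.algebraMap_apply]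
    haveI : Module.Finite L (R ⧸ Q.asIdeal) :=
      Module.Finite.of_surjective (Ideal.Quotient.mkₐ L Q.asIdeal).toLinearMap Ideal.Quotient.mk_surjective
    letI : Algebra (FractionRing B) L := (FractionRing.algEquiv B L).toAlgHom.toRingHom.toAlgebra
    haveI : IsScalarTower (FractionRing B) L (R ⧸ Q.asIdeal) := IsScalarTower.of_algebraMap_eq fun _ => rfl
    haveI : Module.Finite (FractionRing B) L :=
      Module.Finite.of_surjective (Algebra.linearMap (FractionRing B) L) (FractionRing.algEquiv B L).surjective
    exact h2 _ (Module.Finite.trans L _)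
  let ι : integralClosure B R →ₗ[B] ∀ Q : MaximalSpectrum R, integralClosure B (R ⧸ Q.asIdeal) :=
    LinearMap.pi fun Q =>
      { toFun := fun x => ⟨Ideal.Quotient.mkₐ B Q.asIdeal x, x.2.map _⟩
        map_add' := fun x y => Subtype.ext (map_add (Ideal.Quotient.mkₐ B Q.asIdeal) (x : R) y)
        map_smul' := fun b x => Subtype.ext (map_smul (Ideal.Quotient.mkₐ B Q.asIdeal) b (x : R)) }
  haveI := hfin
  refine Module.Finite.of_injective ι fun x y h => Subtype.ext ((IsArtinianRing.equivPi R).injective (funext fun Q => ?_))
  exact congrArg Subtype.val (congrFun h Q)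

end Groth.Agent.EtRamLib.Lattice
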