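import Groth.Agent.EtRamLib.Trichotomy
import Mathlib

/-! The case of a `p`-th root of the uniformizer, and totally ramified perturbations of such roots. -/

set_option autoImplicit false
set_option linter.all false
universe u

open IsLocalRing

namespace Groth.Agent.EtRamLib.Trichotomy

theorem adjoin_pth_root_eq_top (p : ℕ) (hp : p.Prime) {B C L M : Type u} [CommRing B] [IsDomain B] [IsDiscreteValuationRing B]
    [CommRing C] [IsDomain C] [IsDiscreteValuationRing C] [Algebra B C] [IsLocalHom (algebraMap B C)]
    [Field L] [Field M] [Algebra B L] [IsFractionRing B L] [Algebra C M] [IsFractionRing C M] [Algebra L M] [Algebra B M]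
    [IsScalarTower B L M] [IsScalarTower B C M] [FiniteDimensional L M] (hdeg : Module.finrank L M = p)
    (hpow : ∀ y : M, y ^ p ∈ Set.range (algebraMap L M)) [Algebra.IsIntegral B C] (hB : CAlg.IsNagata B)
    {π : B} (hπ : Irreducible π) (c : C) (hc : c ^ p = algebraMap B C π) :
    Algebra.adjoin B ({c} : Set C) = ⊤ := by
  haveI := Lattice.finite_of_isNagata (R := M) L hB
  let ι : C →ₗ[B] integralClosure B M :=
    { toFun := fun x => ⟨algebraMap C M x, (Algebra.IsIntegral.isIntegral (R := B) x).map (IsScalarTower.toAlgHom B C M)⟩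
      map_add' := fun x y => Subtype.ext (map_add _ _ _)
      map_smul' := fun b x => Subtype.ext (by
        show algebraMap C M (b • x) = b • algebraMap C M x
        rw [Algebra.smul_def, map_mul, ← IsScalarTower.algebraMap_apply B C M, ← Algebra.smul_def]) }
  haveI : Module.Finite B C :=
    Module.Finite.of_injective ι fun x y h => IsFractionRing.injective C M (congrArg Subtype.val h)
  let V : ValuationSubring M :=
    ⟨(algebraMap C M).range, fun x => by
      rcases ValuationRing.isInteger_or_isInteger C x with h | h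
      · exact Or.inl h
      · exact Or.inr h⟩
  let eC : C →+* V := (algebraMap C M).codRestrict V fun x => ⟨x, rfl⟩
  have heC : Function.Bijective eC :=
    ⟨fun x y h => IsFractionRing.injective C M (congrArg Subtype.val h), fun ⟨_, x, hx⟩ => ⟨x, Subtype.ext hx⟩⟩
  have hunit : ∀ x, IsUnit (eC x) → IsUnit x := fun x hu => (isUnit_map_iff (RingEquiv.ofBijective eC heC) x).mp hu
  have hcomp : ∀ b, eC (algebraMap B C b) = ⟨algebraMap B M b, algebraMap B C b, (IsScalarTower.algebraMap_apply B C M b).symm⟩ :=
    fun b => Subtype.ext (IsScalarTower.algebraMap_apply B C M b).symm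
  have hVd : EtRam.Dominates B (algebraMap B M) V := by
    refine ⟨fun b => ⟨algebraMap B C b, (IsScalarTower.algebraMap_apply B C M b).symm⟩, fun b hb => ?_⟩
    rw [IsScalarTower.algebraMap_apply B C M]
    exact (V.valuation_lt_one_iff (eC (algebraMap B C b))).mp fun hu =>
      (mem_maximalIdeal _).mp hb ((hunit _ hu).of_map (algebraMap B C))
  have hcM : (algebraMap C M c) ^ p = algebraMap B M π := by
    rw [← map_pow, hc, ← IsScalarTower.algebraMap_apply B C M]
  obtain ⟨⟨-, -, hres⟩, -⟩ := DegP.totallyRamified (K := L) (L := M) hπ hp (t := algebraMap C M c) hdeg.le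
    fun V' _ => by rw [← map_pow, hcM]
  have hcm : c ∈ maximalIdeal C := by
    refine Ideal.IsPrime.mem_of_pow_mem inferInstance p (hc ▸ ?_)
    exact (mem_maximalIdeal _).mpr fun h => hπ.not_isUnit (h.of_map (algebraMap B C))
  have hmax : ∀ x ∈ maximalIdeal C, c ∣ x := fun x hx => by
    have hxlt : V.valuation (eC x : M) < 1 :=
      (V.valuation_lt_one_iff (eC x)).mp fun hu => (mem_maximalIdeal _).mp hx (hunit _ hu)
    obtain ⟨v, hv, hxv⟩ := weak_of_pow_mem p hp hpow V
      (by rw [← IsScalarTower.algebraMap_eq B L M]; exact hVd) hπ (algebraMap C M c)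
      (by rw [hcM, ← IsScalarTower.algebraMap_apply B L M]) (eC x) ((V.valuation_lt_one_iff _).mpr hxlt)
    obtain ⟨y, hy⟩ := hv
    refine ⟨y, IsFractionRing.injective C M ?_⟩
    rw [map_mul, hy]; exact hxv
  have hsurj : ∀ x : C, ∃ b : B, c ∣ x - algebraMap B C b := fun x => by
    obtain ⟨b, hb⟩ := hres V hVd (residue V (eC x))
    refine ⟨b, hmax _ ?_⟩
    have h1 : residue V (eC (algebraMap B C b)) = residue V (eC x) := by rw [hcomp]; exact hb
    have h2 : residue V (eC (x - algebraMap B C b)) = 0 := by rw [map_sub, map_sub, h1, sub_self]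
    exact (mem_maximalIdeal _).mpr fun hu => (mem_maximalIdeal _).mp ((IsLocalRing.residue_eq_zero_iff _).mp h2) (hu.map eC)
  let S := Algebra.adjoin B ({c} : Set C)
  have hcS : c ∈ S := Algebra.subset_adjoin (Set.mem_singleton c)
  have hk : ∀ k, ∀ x : C, ∃ s ∈ S, ∃ y, x = s + c ^ k * y := by
    intro k
    induction k with
    | zero => exact fun x => ⟨0, zero_mem _, x, by rw [zero_add, pow_zero, one_mul]⟩
    | succ k ih =>
      intro x
      obtain ⟨s, hs, y, rfl⟩ := ih x
      obtain ⟨b, z, hz⟩ := hsurj y
      refine ⟨s + c ^ k * algebraMap B C b, S.add_mem hs (S.mul_mem (S.pow_mem hcS k) (S.algebraMap_mem b)), z, ?_⟩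
      rw [pow_succ]
      linear_combination (c ^ k) * hz
  refine eq_top_iff.mpr fun x _ => ?_
  have hle : (⊤ : Submodule B C) ≤ S.toSubmodule := by
    refine Submodule.le_of_le_smul_of_le_jacobson_bot (I := maximalIdeal B) Module.Finite.fg_top
      (maximalIdeal_le_jacobson ⊥) fun z _ => ?_
    obtain ⟨s, hs, y, rfl⟩ := hk p z
    refine Submodule.add_mem_sup hs ?_
    rw [hc, ← Algebra.smul_def]
    exact Submodule.smul_mem_smul ((mem_maximalIdeal _).mpr hπ.not_isUnit) trivial
  exact hle trivial

end Groth.Agent.EtRamLib.Trichotomy
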