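import Groth.Agent.EtRamLib.Step
import Mathlib

/-! Replacing a purely inseparable step of degree `p` by a separable one. -/

set_option autoImplicit false
set_option linter.all false
universe u

open IsLocalRing TensorProduct Polynomial

namespace Groth.Agent.EtRamLib.PurInsepStep

theorem mul_of_basis {F V W : Type u} [Field F] [CommRing V] [Algebra F V] [CommRing W] [Algebra F W] {ι : Type*}
    (b : Module.Basis ι F V) (φ : V →ₗ[F] W) (δ : V →ₗ[F] V →ₗ[F] V) (e : F)
    (h : ∀ i j, φ (b i) * φ (b j) = φ (b i * b j) + e • φ (δ (b i) (b j))) (x y : V) :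
    φ x * φ y = φ (x * y) + e • φ (δ x y) := by
  have key : (LinearMap.mul F W).compl₁₂ φ φ = (LinearMap.mul F V).compr₂ φ + e • δ.compr₂ φ :=
    LinearMap.ext_basis b b fun i j => by simpa using h i j
  simpa using congr($key x y)

theorem pureInsep_step (p : ℕ) (hp : p.Prime) {A B K L : Type u} [CommRing A] [IsDomain A] [IsDiscreteValuationRing A]
    [CommRing B] [IsDomain B] [IsDiscreteValuationRing B]
    [Algebra A B] [IsLocalHom (algebraMap A B)]
    [Field K] [Field L] [Algebra A K] [IsFractionRing A K] [Algebra B L] [IsFractionRing B L]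
    [Algebra K L] [Algebra A L] [IsScalarTower A K L] [IsScalarTower A B L] [CharP K p]
    [Algebra.IsGeometricallyReduced K L] (hB : CAlg.IsNagata B)
    (K₁ K₂ : Type u) [Field K₁] [Field K₂] [Algebra K K₁] [Algebra K K₂] [Algebra K₁ K₂] [IsScalarTower K K₁ K₂]
    [FiniteDimensional K K₁] [FiniteDimensional K₁ K₂] (hsol : EtRam.IsSolution B K L K₂)
    [IsPurelyInseparable K₁ K₂] (hdeg : Module.finrank K₁ K₂ = p) :
    ∃ (K₃ : Type u) (_ : Field K₃) (_ : Algebra K K₃) (_ : Algebra K₁ K₃) (_ : IsScalarTower K K₁ K₃),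
      FiniteDimensional K₁ K₃ ∧ Algebra.IsSeparable K₁ K₃ ∧ EtRam.IsSolution B K L K₃ := by
  classical
  haveI : CharP K₁ p := charP_of_injective_algebraMap (algebraMap K K₁).injective p
  haveI : ExpChar K₁ p := ExpChar.prime hp
  haveI : FiniteDimensional K K₂ := Module.Finite.trans K₁ K₂
  obtain ⟨α, hα⟩ : ∃ α : K₂, α ∉ Set.range (algebraMap K₁ K₂) := by
    by_contra hall
    push Not at hall
    have h1 := LinearMap.finrank_le_finrank_of_surjective (f := Algebra.linearMap K₁ K₂) hall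
    rw [Module.finrank_self, hdeg] at h1
    exact absurd h1 (not_le.mpr hp.one_lt)
  have hint : IsIntegral K₁ α := IsIntegral.of_finite K₁ α
  obtain ⟨n, a, hna⟩ := IsPurelyInseparable.minpoly_eq_X_pow_sub_C K₁ p α
  have hdegα : (minpoly K₁ α).natDegree = p := by
    have h1 := minpoly.degree_dvd hint
    rw [hdeg] at h1
    exact (hp.eq_one_or_self_of_dvd _ h1).resolve_left fun h => hα (minpoly.natDegree_eq_one_iff.mp h)
  have hn : p ^ n = p := by
    have h1 := hdegα
    rw [hna, natDegree_sub_C, natDegree_pow, natDegree_X, mul_one] at h1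
    exact h1
  have hαp : α ^ p = algebraMap K₁ K₂ a := by
    have := minpoly.aeval K₁ α
    rw [hna, hn, map_sub, aeval_X_pow, aeval_C, sub_eq_zero] at this
    exact this
  have hli : LinearIndependent K₁ fun i : Fin p => α ^ (i : ℕ) :=
    (linearIndependent_pow α).comp (finCongr hdegα.symm) (finCongr hdegα.symm).injective
  haveI : Nonempty (Fin p) := ⟨⟨0, hp.pos⟩⟩
  let bα : Module.Basis (Fin p) K₁ K₂ := basisOfLinearIndependentOfCardEqFinrank hli (by rw [Fintype.card_fin, hdeg])
  have hbα : ∀ i : Fin p, bα i = α ^ (i : ℕ) := fun i => by simp [bα]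
  let δ₁ : K₂ →ₗ[K₁] K₂ →ₗ[K₁] K₂ := bα.constr K₁ fun i => bα.constr K₁ fun j =>
    if p ≤ (i : ℕ) + j then -α ^ ((i : ℕ) + j - p + 1) else 0
  have hδ₁ : ∀ i j : Fin p, δ₁ (bα i) (bα j) = if p ≤ (i : ℕ) + j then -α ^ ((i : ℕ) + j - p + 1) else 0 := fun i j => by
    simp only [δ₁, Module.Basis.constr_basis]
  let δ : K₂ →ₗ[K] K₂ →ₗ[K] K₂ :=
    LinearMap.mk₂ K (fun x y => δ₁ x y) (fun x x' y => by simp) (fun c x y => by
      rw [← algebraMap_smul K₁ c x, map_smul, LinearMap.smul_apply, algebraMap_smul])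
      (fun x y y' => by simp) (fun c x y => by rw [← algebraMap_smul K₁ c y, map_smul, algebraMap_smul])
  haveI : IsReduced (L ⊗[K] K₂) :=
    isReduced_of_injective (Algebra.TensorProduct.comm K L K₂).toRingEquiv.toRingHom
      (Algebra.TensorProduct.comm K L K₂).injective
  obtain ⟨t, ht⟩ := IsDiscreteValuationRing.exists_irreducible A
  obtain ⟨N, hN⟩ := Step.perturbed_isSolution (A := A) hB K₂ hsol δ t ((mem_maximalIdeal _).mpr ht.not_isUnit)
  let e : K₁ := algebraMap K K₁ (algebraMap A K (t ^ N))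
  have he : e ≠ 0 := fun h => pow_ne_zero N ht.ne_zero
    (IsFractionRing.injective A K (((algebraMap K K₁).injective (h.trans (map_zero _).symm)).trans (map_zero _).symm))
  let f : K₁[X] := X ^ p + (C e * X - C a)
  have hdlt : (C e * X - C a : K₁[X]).degree < (p : WithBot ℕ) := by
    refine lt_of_le_of_lt (degree_sub_le _ _) (max_lt ?_ (lt_of_le_of_lt degree_C_le (by exact_mod_cast hp.pos)))
    rw [degree_C_mul_X he]
    exact_mod_cast hp.one_lt
  have hfm : f.Monic := monic_X_pow_add hdlt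
  have hfd : f.natDegree = p :=
    natDegree_eq_of_degree_eq_some (by rw [degree_add_eq_left_of_degree_lt (by rwa [degree_X_pow]), degree_X_pow])
  let Kf := AdjoinRoot f
  let bz : Module.Basis (Fin p) K₁ Kf := (AdjoinRoot.powerBasis' hfm).basis.reindex (finCongr (by simp [hfd]))
  have hbz : ∀ i : Fin p, bz i = AdjoinRoot.root f ^ (i : ℕ) := fun i => by simp [bz, PowerBasis.coe_basis]
  let φ₁ : K₂ ≃ₗ[K₁] Kf := bα.equiv bz (Equiv.refl _)
  have hφpow : ∀ k, k < p → φ₁ (α ^ k) = AdjoinRoot.root f ^ k := fun k hk => by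
    rw [show α ^ k = bα ⟨k, hk⟩ from (hbα ⟨k, hk⟩).symm, Module.Basis.equiv_apply, hbz]; rfl
  have hzp : AdjoinRoot.root f ^ p = algebraMap K₁ Kf a - algebraMap K₁ Kf e * AdjoinRoot.root f := by
    have : aeval (AdjoinRoot.root f) f = 0 := by rw [AdjoinRoot.aeval_eq, AdjoinRoot.mk_self]
    simp only [f, map_add, map_sub, map_mul, map_pow, aeval_X, aeval_C] at this
    linear_combination this
  have hmulb : ∀ i j, φ₁ (bα i) * φ₁ (bα j) = φ₁ (bα i * bα j) + e • φ₁ (δ₁ (bα i) (bα j)) := fun i j => by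
    rw [hδ₁, hbα, hbα, hφpow _ i.2, hφpow _ j.2, ← pow_add, ← pow_add]
    by_cases h : p ≤ (i : ℕ) + j
    · have hk : (i : ℕ) + j - p + 1 < p := by omega
      rw [if_pos h, map_neg, hφpow _ hk]
      conv_lhs => rw [← Nat.add_sub_cancel' h, pow_add, hzp]
      conv_rhs => rw [← Nat.add_sub_cancel' h, pow_add, hαp, ← Algebra.smul_def, map_smul, hφpow _ (by omega),
        Nat.add_sub_cancel_left]
      rw [Algebra.smul_def, Algebra.smul_def, pow_succ]
      ring
    · rw [if_neg h, map_zero, smul_zero, add_zero, hφpow _ (by omega)]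
  have hφ1 : φ₁ 1 = 1 := by rw [← pow_zero α, hφpow 0 hp.pos, pow_zero]
  have hfsep : f.Separable := by
    rw [separable_def]
    have : derivative f = C e := by
      simp only [f, map_add, map_sub, derivative_X_pow, derivative_C_mul, derivative_X, derivative_C, CharP.cast_eq_zero,
        map_zero, zero_mul, zero_add, sub_zero, mul_one]
    rw [this]
    exact ⟨0, C e⁻¹, by rw [zero_mul, zero_add, ← C_mul, inv_mul_cancel₀ he, C_1]⟩
  obtain ⟨g, hg, hgf⟩ := exists_irreducible_of_natDegree_ne_zero (f := f) (by rw [hfd]; exact hp.ne_zero) |> fun h => h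
  haveI := Fact.mk hg
  let K₃ := AdjoinRoot g
  have hroot : aeval (AdjoinRoot.root g) f = 0 := by
    obtain ⟨c, hc⟩ := hgf
    rw [hc, map_mul, AdjoinRoot.aeval_eq, AdjoinRoot.mk_self, zero_mul]
  let σ₁ : Kf →ₐ[K₁] K₃ := AdjoinRoot.liftAlgHom f (Algebra.ofId K₁ K₃) (AdjoinRoot.root g) hroot
  have hσ : Function.Surjective σ₁ := fun x => by
    obtain ⟨q, rfl⟩ := AdjoinRoot.mk_surjective x
    exact ⟨aeval (AdjoinRoot.root f) q, by
      rw [← aeval_algHom_apply, show σ₁ (AdjoinRoot.root f) = AdjoinRoot.root g from AdjoinRoot.liftAlgHom_root _ _ _ _, AdjoinRoot.aeval_eq]⟩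
  haveI : FiniteDimensional K₁ K₃ := (AdjoinRoot.powerBasis hg.ne_zero).finite
  refine ⟨K₃, inferInstance, inferInstance, inferInstance, inferInstance, inferInstance, ?_, ?_⟩
  · have hs : IsSeparable K₁ (AdjoinRoot.root g) :=
      (hfsep.of_dvd (minpoly.dvd K₁ _ hroot))
    haveI := (IntermediateField.isSeparable_adjoin_simple_iff_isSeparable K₁ K₃).mpr hs
    rw [IntermediateField.adjoin_root_eq_top g] at this
    exact AlgEquiv.Algebra.isSeparable IntermediateField.topEquiv
  · refine hN Kf (φ₁.restrictScalars K) hφ1 (fun x y => ?_) K₃ (σ₁.restrictScalars K) hσ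
    show φ₁ x * φ₁ y = φ₁ (x * y) + algebraMap A K (t ^ N) • φ₁ (δ₁ x y)
    rw [← algebraMap_smul K₁ (algebraMap A K (t ^ N)) (φ₁ (δ₁ x y))]
    exact mul_of_basis bα φ₁.toLinearMap δ₁ e hmulb x y

end Groth.Agent.EtRamLib.PurInsepStep
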