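import Groth.Agent.EtRamLib.DegP
import Groth.Agent.HenselLib.EtaleReduced
import Mathlib.RingTheory.Nilpotent.GeometricallyReduced
import Mathlib.LinearAlgebra.TensorProduct.RightExactness
import Mathlib.RingTheory.TensorProduct.Quotient
import Mathlib.RingTheory.Etale.StandardEtale
import Mathlib.RingTheory.Etale.Field
import Mathlib.FieldTheory.Minpoly.Finite

/-!
# Recognising weakly unramified local extensions from a ring generated by both sides
-/

set_option autoImplicit false
set_option linter.all false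
universe u

open TensorProduct Polynomial

namespace Groth.Agent.EtRamLib.WeakSol

/-- In a reduced algebra integral over a field, `r` is annihilated outside every prime containing it. -/
theorem exists_annihilator {F R : Type u} [Field F] [CommRing R] [IsReduced R] [Algebra F R]
    [Algebra.IsIntegral F R] (r : R) : ∃ (c : F) (h : R), c ≠ 0 ∧ r * (algebraMap F R c + r * h) = 0 := by
  obtain ⟨P, hPm, hP⟩ := Algebra.IsIntegral.isIntegral (R := F) r
  obtain ⟨g, hg, hg0⟩ := exists_eq_pow_rootMultiplicity_mul_and_not_dvd P hPm.ne_zero 0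
  rw [C_0, sub_zero] at hg hg0
  rw [X_dvd_iff] at hg0
  refine ⟨g.coeff 0, aeval r g.divX, hg0, ?_⟩
  have h1 : aeval r g = algebraMap F R (g.coeff 0) + r * aeval r g.divX := by
    conv_lhs => rw [← X_mul_divX_add g]
    rw [map_add, map_mul, aeval_X, aeval_C, add_comm]
  rw [← h1]
  refine IsNilpotent.eq_zero ⟨P.rootMultiplicity 0 + 1, ?_⟩
  have h2 : r ^ P.rootMultiplicity 0 * aeval r g = 0 := by
    have := congrArg (aeval r) hg
    rw [map_mul, map_pow, aeval_X] at this
    rw [← this]; exact hP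
  calc (r * aeval r g) ^ (P.rootMultiplicity 0 + 1)
      = (r ^ P.rootMultiplicity 0 * aeval r g) * (r * (aeval r g) ^ P.rootMultiplicity 0) := by ring
    _ = 0 := by rw [h2, zero_mul]

/-- Field factors of geometrically reduced zero-dimensional algebras are geometrically reduced. -/
theorem geomReduced_factor {kV kW R : Type u} [Field kV] [Field kW] [CommRing R] [Algebra kV kW] [Algebra kV R]
    [IsReduced (AlgebraicClosure kV ⊗[kV] R)]
    (φ : R →ₐ[kV] kW) (hφ : Function.Surjective φ) (hloc : ∀ r, φ r = 0 → ∃ s, φ s ≠ 0 ∧ r * s = 0) :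
    Algebra.IsGeometricallyReduced kV kW := by
  rw [Algebra.isGeometricallyReduced_field_iff]
  let Ω := AlgebraicClosure kV
  let F : Ω ⊗[kV] R →ₐ[kV] Ω ⊗[kV] kW := Algebra.TensorProduct.map (AlgHom.id kV Ω) φ
  have hker : ∀ y, y ∈ RingHom.ker F → ∃ s, φ s ≠ 0 ∧ y * (1 ⊗ₜ s) = 0 := by
    intro y hy
    rw [Algebra.TensorProduct.lTensor_ker φ hφ, Ideal.map] at hy
    induction hy using Submodule.span_induction with
    | mem x hx =>
      obtain ⟨r, hr, rfl⟩ := hx
      obtain ⟨s, hs, hrs⟩ := hloc r hr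
      refine ⟨s, hs, ?_⟩
      change (1 ⊗ₜ r) * (1 ⊗ₜ s) = 0
      rw [Algebra.TensorProduct.tmul_mul_tmul, hrs, TensorProduct.tmul_zero]
    | zero => exact ⟨1, by rw [map_one]; exact one_ne_zero, zero_mul _⟩
    | add a b _ _ ha hb =>
      obtain ⟨s, hs, has⟩ := ha
      obtain ⟨t, ht, hbt⟩ := hb
      refine ⟨s * t, by rw [map_mul]; exact mul_ne_zero hs ht, ?_⟩
      rw [show (1 : Ω) ⊗ₜ[kV] (s * t) = (1 ⊗ₜ s) * (1 ⊗ₜ t) by rw [Algebra.TensorProduct.tmul_mul_tmul, mul_one]]
      linear_combination (1 ⊗ₜ[kV] t) * has + (1 ⊗ₜ[kV] s) * hbt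
    | smul c a _ ha =>
      obtain ⟨s, hs, has⟩ := ha
      exact ⟨s, hs, by rw [smul_eq_mul, mul_assoc, has, mul_zero]⟩
  refine ⟨fun x hx => ?_⟩
  obtain ⟨t, rfl⟩ := LinearMap.lTensor_surjective Ω (g := φ.toLinearMap) hφ x
  obtain ⟨n, hn⟩ := hx
  obtain ⟨s, hs, hts⟩ := hker (t ^ n) (by rw [RingHom.mem_ker, map_pow]; exact hn)
  have h0 : t * (1 ⊗ₜ s) = 0 := IsNilpotent.eq_zero ⟨n + 1, by
    calc (t * (1 ⊗ₜ[kV] s)) ^ (n + 1) = t ^ n * (1 ⊗ₜ[kV] s) * (t * (1 ⊗ₜ[kV] s) ^ n) := by ring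
      _ = 0 := by rw [hts, zero_mul]⟩
  have h1 : F t * F (1 ⊗ₜ s) = 0 := by rw [← map_mul, h0, map_zero]
  have hu : IsUnit (F (1 ⊗ₜ s)) := by
    refine IsUnit.of_mul_eq_one (1 ⊗ₜ (φ s)⁻¹) ?_
    change ((1 : Ω) ⊗ₜ[kV] φ s) * (1 ⊗ₜ (φ s)⁻¹) = 1
    rw [Algebra.TensorProduct.tmul_mul_tmul, mul_one, mul_inv_cancel₀ hs, Algebra.TensorProduct.one_def]
  exact hu.mul_left_eq_zero.mp h1

/-- Over a perfect field every reduced algebra is geometrically reduced. -/
theorem geomReduced_of_perfect (k A : Type u) [Field k] [PerfectField k] [CommRing A] [Algebra k A] [IsReduced A] :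
    Algebra.IsGeometricallyReduced k A := by
  rw [Algebra.isGeometricallyReduced_field_iff]
  haveI : IsReduced (A ⊗[k] AlgebraicClosure k) := IsReduced.tensorProduct_of_flat_of_forall_fg fun E hE => by
    haveI : Algebra.IsAlgebraic k E := Algebra.IsAlgebraic.of_injective E.val Subtype.val_injective
    haveI : Algebra.FiniteType k E := (Subalgebra.fg_iff_finiteType E).mp hE
    haveI : IsDomain E := inferInstance
    haveI : Algebra.IsIntegral k E := Algebra.IsAlgebraic.isIntegral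
    letI : Field E := (isField_of_isIntegral_of_isField' (R := k) (S := E) (Field.toIsField k)).toField
    haveI : Algebra.IsSeparable k E := Algebra.IsAlgebraic.isSeparable_of_perfectField
    haveI : Algebra.FormallyEtale k E := Algebra.FormallyEtale.of_isSeparable k E
    haveI : Algebra.FinitePresentation k E := Algebra.FinitePresentation.of_finiteType.mp inferInstance
    haveI : Algebra.Etale k E := ⟨inferInstance, inferInstance⟩
    exact HenselLib.isReduced_of_etale A (A ⊗[k] E)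
  exact isReduced_of_injective (Algebra.TensorProduct.comm k (AlgebraicClosure k) A)
    (Algebra.TensorProduct.comm k (AlgebraicClosure k) A).injective

/-- `T[Z]/(Z^e - c)` is etale for units `e`, `c`. -/
theorem etale_adjoinRoot {T : Type u} [CommRing T] (e : ℕ) (he : e ≠ 0) (c : Tˣ) (hn : IsUnit (e : T)) :
    Algebra.Etale T (AdjoinRoot (X ^ e - C (c : T))) := by
  obtain ⟨a, b, hab⟩ := separable_X_pow_sub_C_unit c hn
  let P : StandardEtalePair T :=
    ⟨X ^ e - C (c : T), monic_X_pow_sub_C _ he, 1, b, a, 1, by rw [one_pow, ← hab]; ring⟩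
  haveI : IsLocalization.Away (AdjoinRoot.mk P.f P.g) (AdjoinRoot P.f) :=
    IsLocalization.away_of_isUnit_of_bijective _ (by rw [show P.g = 1 from rfl, map_one]; exact isUnit_one) Function.bijective_id
  exact Algebra.Etale.of_equiv (P.equivAwayAdjoinRoot.trans
    ((IsLocalization.algEquiv (Submonoid.powers (AdjoinRoot.mk P.f P.g)) (AdjoinRoot P.f)
      (Localization.Away (AdjoinRoot.mk P.f P.g))).symm.restrictScalars T))

section Values

variable {A K K₁ M : Type u} [CommRing A] [IsDomain A] [IsDiscreteValuationRing A] [Field K] [Algebra A K]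
  [IsFractionRing A K] [Field K₁] [Algebra K K₁] [FiniteDimensional K K₁] [Field M] [Algebra K M] [Algebra A M]
  [IsScalarTower A K M] [Algebra K₁ M] [IsScalarTower K K₁ M] {π : A} (hπ : Irreducible π)
  {W : ValuationSubring M} (hW : DegP.Dom A W)

include hπ hW in
/-- Values of a finite extension of a discretely valued field. -/
theorem values {c : K₁} (hc : c ≠ 0) :
    ∃ (l : ℕ) (m : ℤ), 0 < l ∧ l ≤ Module.finrank K K₁ ∧
      W.valuation (algebraMap K₁ M c) ^ l = W.valuation (algebraMap A M π) ^ m := by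
  classical
  let v := W.valuation
  let f := algebraMap K₁ M
  set G := v (algebraMap A M π) with hG
  have hG0 : 0 < G := DegP.vpi_pos (K := K) hπ
  let P := minpoly K c
  have hint : IsIntegral K c := Algebra.IsIntegral.isIntegral c
  let term : ℕ → M := fun i => algebraMap K M (P.coeff i) * f c ^ i
  have hterm : ∀ i, f (P.coeff i • c ^ i) = term i := fun i => by
    rw [Algebra.smul_def, map_mul, map_pow, ← IsScalarTower.algebraMap_apply K K₁ M]
  have hfc : f c ≠ 0 := (_root_.map_ne_zero _).mpr hc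
  have hval : ∀ i, P.coeff i ≠ 0 → ∃ m : ℤ, v (term i) = G ^ m * v (f c) ^ i := by
    intro i hi
    obtain ⟨m, hm⟩ := DegP.val_K (L := M) hπ hW hi
    exact ⟨m, by rw [map_mul, map_pow, hm]⟩
  obtain ⟨k, hk, hmax⟩ := Finset.exists_max_image ((Finset.range (P.natDegree + 1)).filter fun i => P.coeff i ≠ 0)
    (fun i => v (term i)) ⟨P.natDegree, by simp [(minpoly.monic hint).coeff_natDegree, P]⟩
  obtain ⟨hkr, hk0⟩ := Finset.mem_filter.mp hk
  have htk : term k ≠ 0 := mul_ne_zero ((_root_.map_ne_zero _).mpr hk0) (pow_ne_zero _ hfc)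
  obtain ⟨i, hir, hik, hieq⟩ : ∃ i ∈ Finset.range (P.natDegree + 1), i ≠ k ∧ (P.coeff i ≠ 0 ∧ v (term i) = v (term k)) := by
    by_contra hno
    push Not at hno
    have hsum : v (∑ i ∈ Finset.range (P.natDegree + 1), term i) = v (term k) := by
      refine v.map_sum_eq_of_lt hkr fun i hi => ?_
      obtain ⟨hi, hne⟩ := Finset.mem_sdiff.mp hi
      have hne : i ≠ k := by simpa using hne
      by_cases h0 : P.coeff i = 0
      · simp only [term, h0, map_zero, zero_mul]
        exact zero_lt_iff.mpr ((Valuation.ne_zero_iff _).mpr htk)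
      · exact lt_of_le_of_ne (hmax i (Finset.mem_filter.mpr ⟨hi, h0⟩)) (hno i hi hne h0)
    have hz : ∑ i ∈ Finset.range (P.natDegree + 1), term i = 0 := by
      simp only [← hterm, ← map_sum, ← Polynomial.aeval_eq_sum_range]
      rw [minpoly.aeval, map_zero]
    rw [hz, map_zero] at hsum
    exact (Valuation.ne_zero_iff _).mpr htk hsum.symm
  obtain ⟨m₁, hm₁⟩ := hval i hieq.1
  obtain ⟨m₂, hm₂⟩ := hval k hk0
  have hdeg : P.natDegree ≤ Module.finrank K K₁ := minpoly.natDegree_le c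
  have hg0 : 0 < v (f c) := zero_lt_iff.mpr ((Valuation.ne_zero_iff _).mpr hfc)
  have key : ∀ (a b : ℕ) (m n : ℤ), a < b → G ^ m * v (f c) ^ a = G ^ n * v (f c) ^ b →
      v (f c) ^ (b - a) = G ^ (m - n) := by
    intro a b m n hab heq
    rw [zpow_sub₀ hG0.ne', eq_div_iff (zpow_ne_zero _ hG0.ne')]
    refine mul_right_cancel₀ (pow_ne_zero a hg0.ne') ?_
    rw [heq, mul_right_comm, ← pow_add, Nat.sub_add_cancel hab.le, mul_comm]
  have h := hieq.2
  rw [hm₁, hm₂] at h
  have := Finset.mem_range.mp hkr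
  have := Finset.mem_range.mp hir
  rcases Nat.lt_or_gt_of_ne hik with h' | h'
  · exact ⟨k - i, m₁ - m₂, by omega, by omega, key i k m₁ m₂ h' h⟩
  · exact ⟨i - k, m₂ - m₁, by omega, by omega, key k i m₂ m₁ h' h.symm⟩

include hπ hW in
theorem values_bound {c : K₁} (hc : c ≠ 0) (hc1 : W.valuation (algebraMap K₁ M c) < 1) :
    W.valuation (algebraMap K₁ M c) ^ Module.finrank K K₁ ≤ W.valuation (algebraMap A M π) ∧
      ∃ N : ℕ, W.valuation (algebraMap A M π) ^ N ≤ W.valuation (algebraMap K₁ M c) := by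
  obtain ⟨l, m, hl, hld, heq⟩ := values (K := K) hπ hW hc
  set G := W.valuation (algebraMap A M π)
  have hG0 : 0 < G := DegP.vpi_pos (K := K) hπ
  have hG1 : G < 1 := DegP.vpi_lt_one hπ hW
  have hlt : G ^ m < G ^ (0 : ℤ) := by
    rw [← heq, zpow_zero]; exact pow_lt_one₀ zero_le' hc1 hl.ne'
  have hpos : 0 < m := (zpow_right_strictAnti₀ hG0 hG1).lt_iff_gt.mp hlt
  refine ⟨?_, m.toNat, ?_⟩
  · calc W.valuation (algebraMap K₁ M c) ^ Module.finrank K K₁ ≤ W.valuation (algebraMap K₁ M c) ^ l :=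
        pow_le_pow_right_of_le_one' hc1.le hld
      _ = G ^ m := heq
      _ ≤ G ^ (1 : ℤ) := (zpow_right_strictAnti₀ hG0 hG1).antitone (by omega)
      _ = G := zpow_one G
  · rw [← zpow_natCast, Int.toNat_of_nonneg hpos.le, ← heq]
    exact (pow_le_pow_right_of_le_one' hc1.le (show 1 ≤ l by omega)).trans (pow_one _).le

end Values

section Main

variable {K₁ M : Type u} [Field K₁] [Field M] (f : K₁ →+* M) (W : ValuationSubring M) {S R : Type u} [CommRing S]
  [CommRing R]

/-- Weak unramifiedness and the residue field from a generating ring. -/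
theorem main (ψ : S →+* W) (ι : W.comap f →+* S) (hι : ∀ c, ((ψ (ι c) : W) : M) = f c)
    (ρ : S →+* R) (hρs : Function.Surjective ρ) (φ : R →+* IsLocalRing.ResidueField W)
    (hφρ : ∀ y, φ (ρ y) = IsLocalRing.residue W (ψ y))
    (hker : ∀ y, ρ y = 0 → ∃ (c : W.comap f) (y' : S), c ∈ IsLocalRing.maximalIdeal (W.comap f) ∧
      ((ψ y : W) : M) = f c * (ψ y' : W))
    (hloc : ∀ r, φ r = 0 → ∃ s, φ s ≠ 0 ∧ r * s = 0)
    (hinv : ∀ r, φ r ≠ 0 → ∃ r', φ r * φ r' = 1)
    (π : M) (hπ0 : 0 < W.valuation π) (hπ1 : W.valuation π < 1) (d : ℕ) (hd : 0 < d)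
    (hK₁ : ∀ c : K₁, c ≠ 0 → W.valuation (f c) < 1 →
      W.valuation (f c) ^ d ≤ W.valuation π ∧ ∃ N : ℕ, W.valuation π ^ N ≤ W.valuation (f c))
    (hgen : ∀ x : M, ∃ (k : K₁) (y : S), x = f k * (ψ y : W)) :
    @EtRam.IsWeaklyUnramified (W.comap f) W _ _ _ _ (EtRam.inclOfComap W f).toAlgebra ∧ Function.Surjective φ := by
  classical
  let v := W.valuation
  let V := W.comap f
  letI : Algebra V W := (EtRam.inclOfComap W f).toAlgebra
  haveI : IsLocalHom (algebraMap V W) := EtRam.isLocalHom_inclOfComap W f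
  set G := v π with hG
  have hcoe : ∀ y, v ((ψ y : W) : M) ≤ 1 := fun y => W.valuation_le_one _
  have hres1 : ∀ y, v ((ψ y : W) : M) = 1 ↔ φ (ρ y) ≠ 0 := fun y => by
    rw [hφρ, IsLocalRing.residue_ne_zero_iff_isUnit]
    exact (W.valuation_eq_one_iff (ψ y)).symm
  have hVlt : ∀ c : V, c ∈ IsLocalRing.maximalIdeal V → v (f c) < 1 := fun c hc =>
    (W.valuation_lt_one_iff (algebraMap V W c)).mp ((IsLocalRing.mem_maximalIdeal _).mpr
      fun hu => (IsLocalRing.mem_maximalIdeal c).mp hc (isUnit_of_map_unit (algebraMap V W) c hu))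
  have hiter : ∀ (N : ℕ) (y : S), G ^ N ≤ v ((ψ y : W) : M) ^ d →
      ∃ (c : V) (s n : S), v ((ψ s : W) : M) = 1 ∧ v ((ψ n : W) : M) = 1 ∧
        ((ψ y : W) : M) * (ψ s : W) = f c * (ψ n : W) := by
    intro N
    induction N with
    | zero =>
      intro y hy
      have h1 : v ((ψ y : W) : M) = 1 := by
        refine le_antisymm (hcoe y) (not_lt.mp fun hlt => ?_)
        rw [pow_zero] at hy
        exact (pow_lt_one₀ zero_le' hlt hd.ne').not_ge hy
      exact ⟨1, 1, y, by simp, h1, by simp⟩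
    | succ N ih =>
      intro y hy
      rcases (hcoe y).lt_or_eq with hlt | heq
      swap
      · exact ⟨1, 1, y, by simp, heq, by simp⟩
      obtain ⟨sb, hsb, hys⟩ := hloc (ρ y) (by by_contra h; exact hlt.ne ((hres1 y).mpr h))
      obtain ⟨s, rfl⟩ := hρs sb
      obtain ⟨c, y', hc, hy'⟩ := hker (y * s) (by rw [map_mul, hys])
      have hs1 := (hres1 s).mpr hsb
      rw [map_mul, MulMemClass.coe_mul] at hy'
      have hv : v ((ψ y : W) : M) = v (f c) * v ((ψ y' : W) : M) := by
        have := congrArg v hy'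
        rwa [map_mul, map_mul, hs1, mul_one] at this
      have hc0 : (c : K₁) ≠ 0 := fun h => by
        rw [h, map_zero, map_zero, zero_mul] at hv
        rw [hv, zero_pow hd.ne', le_zero_iff] at hy
        exact pow_ne_zero _ hπ0.ne' hy
      have hle : G ^ N ≤ v ((ψ y' : W) : M) ^ d := by
        rw [hv, mul_pow, pow_succ'] at hy
        exact le_of_mul_le_mul_left (hy.trans (mul_le_mul_left (hK₁ c hc0 (hVlt c hc)).1 _)) hπ0
      obtain ⟨c', s', n, hs', hn, heq'⟩ := ih y' hle
      refine ⟨c * c', s * s', n, by rw [map_mul]; push_cast; rw [map_mul, hs1, hs', mul_one], hn, ?_⟩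
      rw [map_mul]
      push_cast
      rw [map_mul]
      linear_combination ((ψ s' : W) : M) * hy' + f (c : K₁) * heq'
  have hform : ∀ x : M, x ≠ 0 → ∃ (k : K₁) (s n : S), v ((ψ s : W) : M) = 1 ∧ v ((ψ n : W) : M) = 1 ∧
      x * (ψ s : W) = f k * (ψ n : W) := by
    intro x hx
    obtain ⟨k, y, hxy⟩ := hgen x
    obtain ⟨k', y', hxy'⟩ := hgen x⁻¹
    have h1 : v (f (k * k')) * (v ((ψ y : W) : M) * v ((ψ y' : W) : M)) = 1 := by
      rw [← map_mul, ← map_mul, ← map_one v, ← mul_inv_cancel₀ hx, hxy', hxy, map_mul f]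
      congr 1; ring
    have hkk : k * k' ≠ 0 := fun h => by rw [h, map_zero, map_zero, zero_mul] at h1; exact zero_ne_one h1
    obtain ⟨N, hN⟩ : ∃ N : ℕ, G ^ N ≤ v ((ψ y : W) : M) := by
      have hlow : (v (f (k * k')))⁻¹ ≤ v ((ψ y : W) : M) := by
        rw [← eq_inv_of_mul_eq_one_right h1]
        exact mul_le_of_le_one_right' (hcoe y')
      rcases lt_or_ge (v (f (k * k')⁻¹)) 1 with hlt | hge
      · obtain ⟨N, hN⟩ := (hK₁ _ (inv_ne_zero hkk) hlt).2
        exact ⟨N, hN.trans (by rw [map_inv₀, map_inv₀]; exact hlow)⟩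
      · exact ⟨0, by rw [pow_zero]; refine hge.trans ?_; rw [map_inv₀, map_inv₀]; exact hlow⟩
    obtain ⟨c, s, n, hs, hn, heq⟩ := hiter (N * d) y (by rw [pow_mul]; exact pow_le_pow_left' hN d)
    refine ⟨k * c, s, n, hs, hn, ?_⟩
    rw [hxy, map_mul]
    linear_combination f k * heq
  have hkV : ∀ (k : K₁) (x : M) (s n : S), v ((ψ s : W) : M) = 1 → v ((ψ n : W) : M) = 1 →
      x * (ψ s : W) = f k * (ψ n : W) → v (f k) = v x := fun k x s n hs hn h => by
    have := congrArg v h
    rw [map_mul, map_mul, hs, hn, mul_one, mul_one] at this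
    exact this.symm
  refine ⟨le_antisymm (Ideal.map_le_iff_le_comap.mpr fun c hc => ?_) fun x hx => ?_, fun z => ?_⟩
  · exact Ideal.mem_comap.mpr ((W.valuation_lt_one_iff _).mpr (hVlt c hc))
  · by_cases hx0 : (x : M) = 0
    · rw [show x = 0 from Subtype.ext hx0]; exact zero_mem _
    obtain ⟨k, s, n, hs, hn, heq⟩ := hform _ hx0
    have hlt : v (f k) < 1 := by rw [hkV k _ s n hs hn heq]; exact (W.valuation_lt_one_iff x).mp hx
    have hk : k ∈ V := (W.valuation_le_one_iff _).mp hlt.le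
    have hsu : IsUnit (ψ s) := (W.valuation_eq_one_iff _).mpr hs
    have hkm : (⟨k, hk⟩ : V) ∈ IsLocalRing.maximalIdeal V := (IsLocalRing.mem_maximalIdeal _).mpr fun hu =>
      hlt.ne ((W.valuation_eq_one_iff (algebraMap V W ⟨k, hk⟩)).mp (hu.map _))
    have : x = algebraMap V W ⟨k, hk⟩ * (ψ n * ↑hsu.unit⁻¹) := by
      rw [← mul_assoc, eq_comm, mul_comm, ← IsUnit.mul_right_inj hsu, ← mul_assoc, IsUnit.mul_val_inv, one_mul]
      exact Subtype.ext (by
        push_cast
        change f k * ((ψ n : W) : M) = ((ψ s : W) : M) * (x : M)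
        linear_combination -heq)
    rw [this]
    exact Ideal.mul_mem_right _ _ (Ideal.mem_map_of_mem _ hkm)
  · obtain ⟨x, rfl⟩ := IsLocalRing.residue_surjective (R := W) z
    by_cases hx : v (x : M) < 1
    · refine ⟨0, ?_⟩
      rw [map_zero, eq_comm, IsLocalRing.residue_eq_zero_iff]
      exact (W.valuation_lt_one_iff x).mpr hx
    have hx1 : v (x : M) = 1 := le_antisymm (W.valuation_le_one x) (not_lt.mp hx)
    obtain ⟨k, s, n, hs, hn, heq⟩ := hform (x : M) (fun h => by rw [h, map_zero] at hx1; exact zero_ne_one hx1)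
    have hk : k ∈ V := (W.valuation_le_one_iff _).mp (by rw [hkV k _ s n hs hn heq, hx1])
    obtain ⟨r', hr'⟩ := hinv (ρ s) ((hres1 s).mp hs)
    refine ⟨ρ (ι ⟨k, hk⟩ * n) * r', ?_⟩
    have heqW : x * ψ s = ψ (ι ⟨k, hk⟩ * n) := Subtype.ext (by
      rw [map_mul]; push_cast; rw [hι]; exact heq)
    rw [map_mul, hφρ, ← heqW, map_mul, ← hφρ s, mul_assoc, hr', mul_one]

/-- Every element is a value from `K₁` times a generator, given generation by `L` and `K₁`. -/
theorem exists_gen {L : Type u} [Field L] [Algebra L M] (hadj : Algebra.adjoin L (Set.range f) = ⊤)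
    (ψ : S →+* W) (ι : W.comap f →+* S) (hι : ∀ c, ((ψ (ι c) : W) : M) = f c)
    (hL : ∀ l : L, ∃ (k : K₁) (y : S), algebraMap L M l = f k * (ψ y : W)) (x : M) :
    ∃ (k : K₁) (y : S), x = f k * (ψ y : W) := by
  have hx : x ∈ Algebra.adjoin L (Set.range f) := by rw [hadj]; trivial
  induction hx using Algebra.adjoin_induction with
  | mem x hx => obtain ⟨k, rfl⟩ := hx; exact ⟨k, 1, by simp⟩
  | algebraMap l => exact hL l
  | add a b _ _ ha hb =>
    obtain ⟨k, y, rfl⟩ := ha
    obtain ⟨k', y', rfl⟩ := hb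
    rcases eq_or_ne k 0 with rfl | hk
    · exact ⟨k', y', by simp⟩
    rcases eq_or_ne k' 0 with rfl | hk'
    · exact ⟨k, y, by simp⟩
    have hfk : f k ≠ 0 := (_root_.map_ne_zero f).mpr hk
    have hfk' : f k' ≠ 0 := (_root_.map_ne_zero f).mpr hk'
    rcases (W.comap f).mem_or_inv_mem (k' / k) with h | h
    · refine ⟨k, y + ι ⟨_, h⟩ * y', ?_⟩
      rw [map_add, map_mul]
      push_cast
      rw [hι, map_div₀]
      field_simp
      first | ring | skip
    · rw [inv_div] at h
      refine ⟨k', ι ⟨_, h⟩ * y + y', ?_⟩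
      rw [map_add, map_mul]
      push_cast
      rw [hι, map_div₀]
      field_simp
      first | ring | skip
  | mul a b _ _ ha hb =>
    obtain ⟨k, y, rfl⟩ := ha
    obtain ⟨k', y', rfl⟩ := hb
    exact ⟨k * k', y * y', by rw [map_mul, map_mul]; push_cast; ring⟩

end Main

end Groth.Agent.EtRamLib.WeakSol
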