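import Groth.Agent.CohDer1.TameTower
import Groth.Agent.HenselLib.MiscB
import Groth.Agent.EtRamLib.DegP
import Groth.Agent.S1982
import Groth.Agent.ValCritLib.Refined
import Mathlib.RingTheory.Nilpotent.GeometricallyReduced
import Mathlib.RingTheory.Unramified.Field
import Mathlib.FieldTheory.Normal.Closure
import Mathlib.FieldTheory.IsAlgClosed.AlgebraicClosure

/-!
# Composita of tamely ramified extensions
-/

set_option autoImplicit false
set_option linter.all false
universe u

open TensorProduct Polynomial IsLocalRing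

namespace Groth.Agent.EtRamLib.TameComp

theorem aeval_sq_zero {R S : Type u} [CommRing R] [CommRing S] [Algebra R S] [IsReduced S] (y : S)
    (p q r : R[X]) (h : q ^ 2 = p * r) (hp : aeval y p = 0) : aeval y q = 0 :=
  IsNilpotent.eq_zero ⟨2, by rw [← map_pow, h, map_mul, hp, zero_mul]⟩

/-- A separable algebraic field extension is geometrically reduced. -/
theorem geomReduced_of_separable (k L : Type u) [Field k] [Field L] [Algebra k L] [FiniteDimensional k L]
    [Algebra.IsSeparable k L] : Algebra.IsGeometricallyReduced k L := by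
  rw [Algebra.isGeometricallyReduced_field_iff]
  haveI : Algebra.FormallyUnramified k L := Algebra.FormallyUnramified.of_isSeparable k L
  exact Algebra.FormallyUnramified.isReduced_of_field (AlgebraicClosure k) (AlgebraicClosure k ⊗[k] L)

set_option backward.isDefEq.respectTransparency false in
/-- A finite geometrically reduced field extension is separable. -/
theorem separable_of_geomReduced (k L : Type u) [Field k] [Field L] [Algebra k L] [FiniteDimensional k L]
    [Algebra.IsGeometricallyReduced k L] : Algebra.IsSeparable k L := by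
  refine ⟨fun x => ?_⟩
  by_contra hns
  let m := minpoly k x
  have hint : IsIntegral k x := Algebra.IsIntegral.isIntegral x
  have hirr : Irreducible m := minpoly.irreducible hint
  have hder : derivative m = 0 := by
    by_contra h
    exact hns ((separable_iff_derivative_ne_zero hirr).mpr h)
  let Ωk := AlgebraicClosure k
  obtain ⟨α, hα⟩ := IsAlgClosed.exists_aeval_eq_zero Ωk m (minpoly.degree_pos hint).ne'
  let mΩk : Ωk[X] := m.map (algebraMap k Ωk)
  have hmΩk : mΩk ≠ 0 := (Polynomial.map_ne_zero_iff (algebraMap k Ωk).injective).mpr (minpoly.ne_zero hint)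
  have hroot : mΩk.IsRoot α := by rw [IsRoot, eval_map, ← aeval_def, hα]
  have hmult : 1 < mΩk.rootMultiplicity α := by
    rw [one_lt_rootMultiplicity_iff_isRoot hmΩk]
    exact ⟨hroot, by rw [derivative_map, hder, Polynomial.map_zero]; exact eval_zero⟩
  obtain ⟨r, hr⟩ : (Polynomial.X - Polynomial.C α) ^ 2 ∣ mΩk :=
    (pow_dvd_pow _ hmult).trans (pow_rootMultiplicity_dvd mΩk α)
  let q : Ωk[X] := (Polynomial.X - Polynomial.C α) * r
  let F := IntermediateField.adjoin k {x}
  haveI : Algebra.IsGeometricallyReduced k F := Algebra.IsGeometricallyReduced.of_injective F.val Subtype.val_injective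
  haveI : IsReduced (Ωk ⊗[k] F) := inferInstance
  let pb := IntermediateField.adjoin.powerBasis hint
  let b := pb.basis.baseChange Ωk
  let y : Ωk ⊗[k] F := 1 ⊗ₜ pb.gen
  have hy : ∀ i, b i = y ^ (i : ℕ) := fun i => by
    simp [b, y, Algebra.TensorProduct.tmul_pow, PowerBasis.coe_basis]
  have hyroot : aeval y mΩk = 0 := by
    rw [aeval_map_algebraMap, show y = (Algebra.TensorProduct.includeRight : F →ₐ[k] Ωk ⊗[k] F) pb.gen from rfl,
      aeval_algHom_apply]
    have hgen : aeval pb.gen m = 0 := by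
      apply Subtype.val_injective
      rw [← Subalgebra.coe_val]
      change F.val (aeval pb.gen m) = _
      rw [← aeval_algHom_apply]
      show aeval (pb.gen : L) m = ((0 : F) : L)
      rw [IntermediateField.adjoin.powerBasis_gen, IntermediateField.AdjoinSimple.coe_gen]
      exact minpoly.aeval k x
    rw [hgen, map_zero]
  have hq0 : aeval y q = 0 := aeval_sq_zero y mΩk q r (by simp only [q, hr]; ring) hyroot
  have hqdeg : q.natDegree < pb.dim := by
    have hm : mΩk.natDegree = pb.dim := by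
      rw [natDegree_map, IntermediateField.adjoin.powerBasis_dim]
    have hr0 : r ≠ 0 := fun h => hmΩk (by rw [hr, h, mul_zero])
    have h1 : mΩk.natDegree = 2 + r.natDegree := by
      rw [hr, natDegree_mul (pow_ne_zero _ (X_sub_C_ne_zero α)) hr0, natDegree_pow, natDegree_X_sub_C]
    have h2 : q.natDegree = 1 + r.natDegree := by
      rw [natDegree_mul (X_sub_C_ne_zero α) hr0, natDegree_X_sub_C]
    omega
  have hqne : q ≠ 0 := mul_ne_zero (X_sub_C_ne_zero α) fun h => hmΩk (by rw [hr, h, mul_zero])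
  refine hqne (Polynomial.ext fun i => ?_)
  rw [coeff_zero]
  by_cases hi : i < pb.dim
  · have hsum : ∑ j : Fin pb.dim, q.coeff j • b j = 0 := by
      rw [← hq0, aeval_eq_sum_range' hqdeg, ← Fin.sum_univ_eq_sum_range (fun j => q.coeff j • y ^ j) pb.dim]
      exact Finset.sum_congr rfl fun j _ => by rw [hy]
    exact Fintype.linearIndependent_iff.mp b.linearIndependent _ hsum ⟨i, hi⟩
  · exact coeff_eq_zero_of_natDegree_lt (by omega)

section Ram

variable {A : Type u} [CommRing A] [IsDomain A] [IsDiscreteValuationRing A]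

/-- Separable residue field extension and given ramification index at `V`. -/
def Ram {F : Type u} [Field F] (g : A →+* F) (V : ValuationSubring F) (h : EtRam.Dominates A g V) (n : ℕ) : Prop :=
  letI : Algebra A V := (RingHom.codRestrict g V h.1).toAlgebra
  ∀ (_ : IsLocalHom (algebraMap A V)),
    Algebra.IsSeparable (ResidueField A) (ResidueField V) ∧
      Ideal.ramificationIdx' (maximalIdeal A) (maximalIdeal V) = n

/-- The index is prime to the residue characteristic. -/
def PrimeTo (A : Type u) [CommRing A] [IsLocalRing A] (n : ℕ) : Prop :=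
  n ≠ 0 ∧ ∀ p : ℕ, p.Prime → CharP (ResidueField A) p → ¬ p ∣ n

theorem ram_congr {F : Type u} [Field F] {g : A →+* F} {V V' : ValuationSubring F} (hV : V = V')
    {h : EtRam.Dominates A g V} {h' : EtRam.Dominates A g V'} {n : ℕ} (hr : Ram g V h n) : Ram g V' h' n := by
  subst hV; exact @hr

theorem isLocalHom_of_dom {F : Type u} [Field F] (g : A →+* F) (V : ValuationSubring F)
    (h : EtRam.Dominates A g V) : IsLocalHom (RingHom.codRestrict g V h.1) := by
  refine ⟨fun a ha => ?_⟩
  by_contra hu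
  exact (h.2 a ((mem_maximalIdeal a).mpr hu)).ne ((V.valuation_eq_one_iff _).mp ha)

variable {K : Type u} [Field K] [Algebra A K] [IsFractionRing A K]

/-- The structure map. -/
noncomputable abbrev str (A K F : Type u) [CommRing A] [Field K] [Algebra A K] [Field F] [Algebra K F] : A →+* F :=
  (algebraMap K F).comp (algebraMap A K)

theorem dom_comap {L M : Type u} [Field L] [Field M] [Algebra K L] [Algebra K M] [Algebra L M] [IsScalarTower K L M]
    (W : ValuationSubring M) (hW : EtRam.Dominates A (str A K M) W) :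
    EtRam.Dominates A (str A K L) (W.comap (algebraMap L M)) := by
  have h3 : ∀ a, algebraMap L M (algebraMap K L (algebraMap A K a)) = algebraMap K M (algebraMap A K a) :=
    fun a => (IsScalarTower.algebraMap_apply K L M _).symm
  have hmem : ∀ a, str A K L a ∈ W.comap (algebraMap L M) := fun a => by
    show algebraMap L M _ ∈ W
    rw [show str A K L a = algebraMap K L (algebraMap A K a) from rfl, h3]; exact hW.1 a
  refine ⟨hmem, fun a ha => ?_⟩
  refine ((W.comap (algebraMap L M)).valuation_lt_one_iff ⟨_, hmem a⟩).mp fun hu => ?_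
  have h2 : IsUnit (EtRam.inclOfComap W (algebraMap L M) ⟨_, hmem a⟩) := hu.map _
  have h4 := (W.valuation_eq_one_iff _).mp h2
  rw [EtRam.inclOfComap_apply_coe] at h4
  exact (hW.2 a ha).ne (h3 a ▸ h4)

theorem exists_factor {F : Type u} [Field F] [Algebra K F] [FiniteDimensional K F] [Algebra.IsSeparable K F]
    (V : ValuationSubring F) (h : EtRam.Dominates A (str A K F) V) {π : A} (hπ : Irreducible π) :
    ∃ (ϖ : V) (u : Vˣ) (n : ℕ), Irreducible ϖ ∧
      RingHom.codRestrict (str A K F) V h.1 π = u * ϖ ^ n ∧ n ≠ 0 ∧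
      (letI : Algebra A V := (RingHom.codRestrict (str A K F) V h.1).toAlgebra
       Ideal.ramificationIdx' (maximalIdeal A) (maximalIdeal V) = n) := by
  letI : Algebra A V := (RingHom.codRestrict (str A K F) V h.1).toAlgebra
  haveI := CohDer1.TameTower.isDVR_of_dominates A K F V h
  haveI : IsLocalHom (algebraMap A V) := isLocalHom_of_dom _ _ h
  obtain ⟨ϖ, hϖ⟩ := IsDiscreteValuationRing.exists_irreducible V
  have h0 : algebraMap A V π ≠ 0 := fun h0 => hπ.ne_zero (by
    have h1 : algebraMap K F (algebraMap A K π) = 0 := congrArg Subtype.val h0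
    exact (map_eq_zero_iff _ (IsFractionRing.injective A K)).mp ((_root_.map_eq_zero _).mp h1))
  obtain ⟨n, u, hu⟩ := IsDiscreteValuationRing.eq_unit_mul_pow_irreducible h0 hϖ
  refine ⟨ϖ, u, n, hϖ, hu, fun hn => ?_, CohDer1.TameTower.ramificationIdx'_eq π hπ.maximalIdeal_eq ϖ hϖ u n hu⟩
  rw [hn, pow_zero, mul_one] at hu
  exact hπ.not_isUnit (isUnit_of_map_unit (algebraMap A V) π (hu ▸ u.isUnit))

theorem ram_tame {F : Type u} [Field F] [Algebra K F] [FiniteDimensional K F] [Algebra.IsSeparable K F]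
    (hF : EtRam.IsTamelyRamified A (str A K F)) (V : ValuationSubring F) (h : EtRam.Dominates A (str A K F) V) :
    ∃ n, PrimeTo A n ∧ Ram (str A K F) V h n := by
  obtain ⟨π, hπ⟩ := IsDiscreteValuationRing.exists_irreducible A
  obtain ⟨ϖ, u, n, hϖ, hu, hn, hidx⟩ := exists_factor V h hπ
  letI : Algebra A V := (RingHom.codRestrict (str A K F) V h.1).toAlgebra
  haveI : IsLocalHom (algebraMap A V) := isLocalHom_of_dom _ _ h
  obtain ⟨hs, hp⟩ := @hF V h _
  refine ⟨n, ⟨hn, fun p hpp hc hd => hp p hpp hc (hidx.symm ▸ hd)⟩, ?_⟩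
  intro _
  exact ⟨hs, hidx⟩

theorem ram_unramified {F : Type u} [Field F] [Algebra K F] [FiniteDimensional K F] [Algebra.IsSeparable K F]
    (hF : EtRam.IsUnramifiedExt A (str A K F)) (V : ValuationSubring F) (h : EtRam.Dominates A (str A K F) V) :
    Ram (str A K F) V h 1 := by
  obtain ⟨π, hπ⟩ := IsDiscreteValuationRing.exists_irreducible A
  letI : Algebra A V := (RingHom.codRestrict (str A K F) V h.1).toAlgebra
  haveI : IsLocalHom (algebraMap A V) := isLocalHom_of_dom _ _ h
  haveI := CohDer1.TameTower.isDVR_of_dominates A K F V h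
  obtain ⟨hw, hs⟩ := @hF V h _
  intro _
  refine ⟨hs, CohDer1.TameTower.ramificationIdx'_eq π hπ.maximalIdeal_eq (algebraMap A V π) ?_ 1 1 (by simp)⟩
  rw [IsDiscreteValuationRing.irreducible_iff_uniformizer, ← hw, hπ.maximalIdeal_eq, Ideal.map_span, Set.image_singleton]

theorem unramified_of_ram {F : Type u} [Field F] [Algebra K F] [FiniteDimensional K F] [Algebra.IsSeparable K F]
    (hF : ∀ V h, Ram (str A K F) V h 1) : EtRam.IsUnramifiedExt A (str A K F) := by
  obtain ⟨π, hπ⟩ := IsDiscreteValuationRing.exists_irreducible A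
  intro V h
  letI : Algebra A V := (RingHom.codRestrict (str A K F) V h.1).toAlgebra
  intro _
  haveI := CohDer1.TameTower.isDVR_of_dominates A K F V h
  obtain ⟨hs, hi⟩ := hF V h inferInstance
  obtain ⟨ϖ, u, n, hϖ, hu, hn, hidx⟩ := exists_factor V h hπ
  obtain rfl : n = 1 := hidx.symm.trans hi
  refine ⟨?_, hs⟩
  show (maximalIdeal A).map (algebraMap A V) = maximalIdeal V
  rw [hπ.maximalIdeal_eq, Ideal.map_span, Set.image_singleton, show algebraMap A V π = u * ϖ ^ 1 from hu, pow_one,
    Ideal.span_singleton_mul_left_unit u.isUnit, hϖ.maximalIdeal_eq]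

theorem tame_of_ram {F : Type u} [Field F] [Algebra K F] [FiniteDimensional K F] [Algebra.IsSeparable K F]
    (hF : ∀ V h, ∃ n, PrimeTo A n ∧ Ram (str A K F) V h n) : EtRam.IsTamelyRamified A (str A K F) := by
  intro V h
  letI : Algebra A V := (RingHom.codRestrict (str A K F) V h.1).toAlgebra
  intro _
  obtain ⟨n, ⟨-, hn⟩, hr⟩ := hF V h
  obtain ⟨hs, hi⟩ := hr inferInstance
  exact ⟨hs, fun p hp hc hd => hn p hp hc (hi ▸ hd)⟩

/-- Abhyankar: a compositum with an extension whose index is divisible by the other index. -/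
theorem step {F₁ F₂ F : Type u} [Field F₁] [Field F₂] [Field F] [Algebra K F₁] [Algebra K F₂] [Algebra K F]
    [Algebra F₁ F] [Algebra F₂ F] [IsScalarTower K F₁ F] [IsScalarTower K F₂ F] [FiniteDimensional K F]
    [Algebra.IsSeparable K F] (hgen : Algebra.adjoin F₁ (Set.range (algebraMap F₂ F)) = ⊤)
    (W : ValuationSubring F) (hW : EtRam.Dominates A (str A K F) W) (e₁ e₂ : ℕ) (hp₁ : PrimeTo A e₁)
    (h₁ : Ram (str A K F₁) (W.comap (algebraMap F₁ F)) (dom_comap W hW) e₁)
    (h₂ : Ram (str A K F₂) (W.comap (algebraMap F₂ F)) (dom_comap W hW) e₂) (hd : e₁ ∣ e₂) :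
    Ram (str A K F) W hW e₂ := by
  classical
  haveI : FiniteDimensional K F₁ := Module.Finite.of_injective (IsScalarTower.toAlgHom K F₁ F).toLinearMap (algebraMap F₁ F).injective
  haveI : FiniteDimensional K F₂ := Module.Finite.of_injective (IsScalarTower.toAlgHom K F₂ F).toLinearMap (algebraMap F₂ F).injective
  haveI : Algebra.IsSeparable K F₁ := Algebra.isSeparable_tower_bot_of_isSeparable K F₁ F
  haveI : Algebra.IsSeparable K F₂ := Algebra.isSeparable_tower_bot_of_isSeparable K F₂ F
  let V₁ := W.comap (algebraMap F₁ F)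
  let V₂ := W.comap (algebraMap F₂ F)
  have hd₁ : EtRam.Dominates A (str A K F₁) V₁ := dom_comap W hW
  have hd₂ : EtRam.Dominates A (str A K F₂) V₂ := dom_comap W hW
  haveI := CohDer1.TameTower.isDVR_of_dominates A K F₁ V₁ hd₁
  haveI := CohDer1.TameTower.isDVR_of_dominates A K F₂ V₂ hd₂
  haveI := CohDer1.TameTower.isDVR_of_dominates A K F W hW
  letI : Algebra A W := (RingHom.codRestrict (str A K F) W hW.1).toAlgebra
  intro hlW
  letI : Algebra A V₁ := (RingHom.codRestrict (str A K F₁) V₁ hd₁.1).toAlgebra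
  letI : Algebra A V₂ := (RingHom.codRestrict (str A K F₂) V₂ hd₂.1).toAlgebra
  letI : Algebra V₂ W := (EtRam.inclOfComap W (algebraMap F₂ F)).toAlgebra
  haveI : IsLocalHom (algebraMap A V₁) := isLocalHom_of_dom _ _ hd₁
  haveI : IsLocalHom (algebraMap A V₂) := isLocalHom_of_dom _ _ hd₂
  haveI : IsLocalHom (algebraMap V₂ W) := EtRam.isLocalHom_inclOfComap W (algebraMap F₂ F)
  haveI : IsScalarTower A V₂ W := IsScalarTower.of_algebraMap_eq fun a => Subtype.ext
    (IsScalarTower.algebraMap_apply K F₂ F (algebraMap A K a))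
  obtain ⟨hs₁, hi₁⟩ := h₁ inferInstance
  obtain ⟨hs₂, hi₂⟩ := h₂ inferInstance
  letI : Algebra A F₁ := (str A K F₁).toAlgebra
  haveI : IsScalarTower A K F₁ := IsScalarTower.of_algebraMap_eq fun _ => rfl
  haveI : IsScalarTower A V₁ F₁ := IsScalarTower.of_algebraMap_eq fun _ => rfl
  letI : Algebra A F₂ := (str A K F₂).toAlgebra
  haveI : IsScalarTower A K F₂ := IsScalarTower.of_algebraMap_eq fun _ => rfl
  haveI : IsScalarTower A V₂ F₂ := IsScalarTower.of_algebraMap_eq fun _ => rfl
  letI : Algebra A F := (str A K F).toAlgebra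
  haveI : IsScalarTower A K F := IsScalarTower.of_algebraMap_eq fun _ => rfl
  haveI : IsScalarTower A W F := IsScalarTower.of_algebraMap_eq fun _ => rfl
  have hinj : ∀ {E : Type u} [Field E] [Algebra K E], Function.Injective (str A K E) := fun {E} _ _ =>
    (algebraMap K E).injective.comp (IsFractionRing.injective A K)
  haveI := (HenselLib.MiscB.ramification_mul_inertia_le A V₁ (K := K) (L := F₁)
    (fun a b h => hinj (congrArg Subtype.val h))).1
  haveI hfinW : Module.Finite (ResidueField A) (ResidueField W) :=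
    (HenselLib.MiscB.ramification_mul_inertia_le A W (K := K) (L := F)
      (fun a b h => hinj (congrArg Subtype.val h))).1
  haveI := hs₁
  haveI := geomReduced_of_separable (ResidueField A) (ResidueField V₁)
  have htame : CharZero (ResidueField A) ∨ ∃ p : ℕ, p.Prime ∧ CharP (ResidueField A) p ∧
      ¬ p ∣ Ideal.ramificationIdx' (maximalIdeal A) (maximalIdeal V₁) ∧
      Algebra.IsGeometricallyReduced (ResidueField A) (ResidueField V₁) := by
    rcases CharP.exists' (ResidueField A) with h | ⟨p, hp, hc⟩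
    · exact Or.inl h
    · exact Or.inr ⟨p, hp.out, hc, hi₁.symm ▸ hp₁.2 p hp.out hc, inferInstance⟩
  have key := Groth.Agent.S1982.result A V₁ K F₁ (fun a b h => hinj (congrArg Subtype.val h)) htame F₂ F hgen W
    ⟨fun b => b.2, fun b hb => (W.valuation_lt_one_iff (EtRam.inclOfComap W (algebraMap F₁ F) b)).mp
      ((mem_maximalIdeal _).mpr fun hu => (mem_maximalIdeal b).mp hb ((EtRam.isLocalHom_inclOfComap W (algebraMap F₁ F)).map_nonunit b hu))⟩
  obtain ⟨hwu, hgr⟩ := key hd₂.1 (by
    show Ideal.ramificationIdx' (maximalIdeal A) (maximalIdeal V₁) ∣ Ideal.ramificationIdx' (maximalIdeal A) (maximalIdeal V₂)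
    rw [hi₁, hi₂]; exact hd)
  haveI : Algebra.IsGeometricallyReduced (ResidueField V₂) (ResidueField W) := by
    convert hgr using 1
    all_goals first
      | rfl
      | (refine Algebra.algebra_ext (R := ResidueField V₂) (A := ResidueField W) _ _ (fun r => ?_)
         obtain ⟨r, rfl⟩ := IsLocalRing.residue_surjective (R := V₂) r
         rfl)
  haveI : FiniteDimensional (ResidueField V₂) (ResidueField W) := Module.Finite.right (ResidueField A) _ _
  haveI := separable_of_geomReduced (ResidueField V₂) (ResidueField W)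
  haveI := hs₂
  refine ⟨Algebra.IsSeparable.trans (ResidueField A) (ResidueField V₂) (ResidueField W), ?_⟩
  obtain ⟨π, hπ⟩ := IsDiscreteValuationRing.exists_irreducible A
  obtain ⟨ϖ, u, n, hϖ, hu, hn, hidx⟩ := exists_factor V₂ hd₂ hπ
  have hne : n = e₂ := hidx.symm.trans hi₂
  have hirr : Irreducible (algebraMap V₂ W ϖ) := by
    rw [IsDiscreteValuationRing.irreducible_iff_uniformizer]
    show maximalIdeal W = _
    rw [← (show (maximalIdeal V₂).map (algebraMap V₂ W) = maximalIdeal W from hwu), hϖ.maximalIdeal_eq, Ideal.map_span,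
      Set.image_singleton]
  rw [← hne]
  refine CohDer1.TameTower.ramificationIdx'_eq π hπ.maximalIdeal_eq _ hirr (Units.map (algebraMap V₂ W).toMonoidHom u) n ?_
  rw [IsScalarTower.algebraMap_apply A V₂ W, show algebraMap A V₂ π = u * ϖ ^ n from hu, map_mul, map_pow]
  rfl

/-- Descent along a subextension. -/
theorem down {L M : Type u} [Field L] [Field M] [Algebra K L] [Algebra K M] [Algebra L M] [IsScalarTower K L M]
    [FiniteDimensional K M] [Algebra.IsSeparable K M] (W : ValuationSubring M)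
    (hW : EtRam.Dominates A (str A K M) W) (n : ℕ) (h : Ram (str A K M) W hW n) :
    ∃ e, e ∣ n ∧ e ≠ 0 ∧ Ram (str A K L) (W.comap (algebraMap L M)) (dom_comap W hW) e := by
  classical
  haveI : FiniteDimensional K L := Module.Finite.of_injective (IsScalarTower.toAlgHom K L M).toLinearMap (algebraMap L M).injective
  haveI : Algebra.IsSeparable K L := Algebra.isSeparable_tower_bot_of_isSeparable K L M
  let V := W.comap (algebraMap L M)
  have hd : EtRam.Dominates A (str A K L) V := dom_comap W hW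
  obtain ⟨π, hπ⟩ := IsDiscreteValuationRing.exists_irreducible A
  obtain ⟨ϖ, u, e, hϖ, hu, he, hidx⟩ := exists_factor V hd hπ
  obtain ⟨ϖW, uW, n', hϖW, huW, hn', hidxW⟩ := exists_factor W hW hπ
  letI : Algebra A W := (RingHom.codRestrict (str A K M) W hW.1).toAlgebra
  letI : Algebra A V := (RingHom.codRestrict (str A K L) V hd.1).toAlgebra
  letI : Algebra V W := (EtRam.inclOfComap W (algebraMap L M)).toAlgebra
  haveI : IsLocalHom (algebraMap A W) := isLocalHom_of_dom _ _ hW
  haveI : IsLocalHom (algebraMap V W) := EtRam.isLocalHom_inclOfComap W (algebraMap L M)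
  haveI : IsScalarTower A V W := IsScalarTower.of_algebraMap_eq fun a => Subtype.ext
    (IsScalarTower.algebraMap_apply K L M (algebraMap A K a))
  obtain ⟨hs, hi⟩ := h inferInstance
  haveI := CohDer1.TameTower.isDVR_of_dominates A K L V hd
  haveI := CohDer1.TameTower.isDVR_of_dominates A K M W hW
  have hne : algebraMap V W ϖ ≠ 0 :=
    fun h0 => hϖ.ne_zero (Subtype.ext ((_root_.map_eq_zero (algebraMap L M)).mp (congrArg Subtype.val h0)))
  obtain ⟨k, w, hk⟩ := IsDiscreteValuationRing.eq_unit_mul_pow_irreducible hne hϖW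
  have hnk : Ideal.ramificationIdx' (maximalIdeal A) (maximalIdeal W) = k * e :=
    CohDer1.TameTower.ramificationIdx'_eq π hπ.maximalIdeal_eq ϖW hϖW
      (Units.map (algebraMap V W).toMonoidHom u * w ^ e) (k * e) (by
        rw [IsScalarTower.algebraMap_apply A V W, show algebraMap A V π = u * ϖ ^ e from hu, map_mul, map_pow, hk]
        push_cast
        simp only [mul_pow, ← pow_mul, Units.coe_map]
        rw [mul_assoc]
        rfl)
  refine ⟨e, ⟨k, by rw [mul_comm, ← hnk, hi]⟩, he, ?_⟩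
  intro _
  haveI := hs
  exact ⟨Algebra.isSeparable_tower_bot_of_isSeparable (ResidueField A) (ResidueField V) (ResidueField W), hidx⟩

end Ram

section Omega

variable {A K : Type u} [CommRing A] [IsDomain A] [IsDiscreteValuationRing A] [Field K] [Algebra A K] [IsFractionRing A K]

local notation "Ω" => AlgebraicClosure K

set_option maxHeartbeats 1600000 in
theorem gen_sup {E₁ E₂ : IntermediateField K Ω} :
    letI : Algebra E₁ ↥(E₁ ⊔ E₂) := (IntermediateField.inclusion le_sup_left).toRingHom.toAlgebra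
    letI : Algebra E₂ ↥(E₁ ⊔ E₂) := (IntermediateField.inclusion le_sup_right).toRingHom.toAlgebra
    Algebra.adjoin E₁ (Set.range (algebraMap E₂ ↥(E₁ ⊔ E₂))) = ⊤ := by
  letI : Algebra E₁ ↥(E₁ ⊔ E₂) := (IntermediateField.inclusion le_sup_left).toRingHom.toAlgebra
  letI : Algebra E₂ ↥(E₁ ⊔ E₂) := (IntermediateField.inclusion le_sup_right).toRingHom.toAlgebra
  rw [eq_top_iff]
  rintro ⟨x, hx⟩ -
  have hx' : x ∈ E₁.toSubalgebra ⊔ E₂.toSubalgebra := by
    rw [← IntermediateField.sup_toSubalgebra_of_isAlgebraic_left E₁ E₂]; exact hx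
  let T := Algebra.adjoin E₁ (Set.range (algebraMap E₂ ↥(E₁ ⊔ E₂)))
  let S : Subalgebra K Ω :=
    { carrier := {y | ∃ h : y ∈ E₁ ⊔ E₂, (⟨y, h⟩ : ↥(E₁ ⊔ E₂)) ∈ T}
      mul_mem' := fun ⟨ha, ha'⟩ ⟨hb, hb'⟩ => ⟨mul_mem ha hb, mul_mem ha' hb'⟩
      add_mem' := fun ⟨ha, ha'⟩ ⟨hb, hb'⟩ => ⟨add_mem ha hb, add_mem ha' hb'⟩
      algebraMap_mem' := fun c => ⟨(E₁ ⊔ E₂).algebraMap_mem c, by
        have := T.algebraMap_mem (algebraMap K E₁ c)
        exact this⟩ }
  obtain ⟨_, h⟩ : x ∈ S := (sup_le (fun y hy => ⟨(le_sup_left : E₁ ≤ E₁ ⊔ E₂) hy, T.algebraMap_mem ⟨y, hy⟩⟩)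
    (fun y hy => ⟨(le_sup_right : E₂ ≤ E₁ ⊔ E₂) hy, Algebra.subset_adjoin ⟨⟨y, hy⟩, rfl⟩⟩) : _ ≤ S) hx'
  exact h

set_option maxHeartbeats 1600000 in
theorem step' (E₁ E₂ : IntermediateField K Ω) [FiniteDimensional K E₁] [FiniteDimensional K E₂]
    [Algebra.IsSeparable K ↥(E₁ ⊔ E₂)]
    (W : ValuationSubring ↥(E₁ ⊔ E₂)) (hW : EtRam.Dominates A (str A K ↥(E₁ ⊔ E₂)) W) (e₁ e₂ : ℕ) (hp₁ : PrimeTo A e₁)
    (h₁ : ∀ h, Ram (str A K E₁) (W.comap (IntermediateField.inclusion (le_sup_left : E₁ ≤ E₁ ⊔ E₂)).toRingHom) h e₁)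
    (h₂ : ∀ h, Ram (str A K E₂) (W.comap (IntermediateField.inclusion (le_sup_right : E₂ ≤ E₁ ⊔ E₂)).toRingHom) h e₂)
    (hd : e₁ ∣ e₂) : Ram (str A K ↥(E₁ ⊔ E₂)) W hW e₂ := by
  letI : Algebra E₁ ↥(E₁ ⊔ E₂) := (IntermediateField.inclusion le_sup_left).toRingHom.toAlgebra
  letI : Algebra E₂ ↥(E₁ ⊔ E₂) := (IntermediateField.inclusion le_sup_right).toRingHom.toAlgebra
  haveI : IsScalarTower K E₁ ↥(E₁ ⊔ E₂) := IsScalarTower.of_algebraMap_eq fun _ => rfl
  haveI : IsScalarTower K E₂ ↥(E₁ ⊔ E₂) := IsScalarTower.of_algebraMap_eq fun _ => rfl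
  exact step (F₁ := E₁) (F₂ := E₂) (F := ↥(E₁ ⊔ E₂)) gen_sup W hW e₁ e₂ hp₁ (h₁ _) (h₂ _) hd

theorem primeTo_mul {a b : ℕ} (ha : PrimeTo A a) (hb : PrimeTo A b) : PrimeTo A (a * b) :=
  ⟨mul_ne_zero ha.1 hb.1, fun p hp hc h => (hp.dvd_mul.mp h).elim (ha.2 p hp hc) (hb.2 p hp hc)⟩

theorem primeTo_one : PrimeTo A 1 := ⟨one_ne_zero, fun p hp _ h => hp.ne_one (Nat.dvd_one.mp h)⟩

set_option maxHeartbeats 1600000 in
/-- Composita of unramified extensions. -/
theorem unramified_sup (E₁ E₂ : IntermediateField K Ω) [FiniteDimensional K E₁] [FiniteDimensional K E₂]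
    [Algebra.IsSeparable K E₁] [Algebra.IsSeparable K E₂]
    (h₁ : EtRam.IsUnramifiedExt A (str A K E₁)) (h₂ : EtRam.IsUnramifiedExt A (str A K E₂)) :
    EtRam.IsUnramifiedExt A (str A K ↥(E₁ ⊔ E₂)) := by
  haveI : Algebra.IsSeparable K ↥(E₁ ⊔ E₂) := inferInstance
  exact unramified_of_ram fun W hW => step' E₁ E₂ W hW 1 1 primeTo_one
    (fun h => ram_unramified h₁ _ h) (fun h => ram_unramified h₂ _ h) dvd_rfl

set_option maxHeartbeats 1600000 in
/-- Composita of tamely ramified extensions. -/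
theorem tame_sup (E₁ E₂ : IntermediateField K Ω) [FiniteDimensional K E₁] [FiniteDimensional K E₂]
    [Algebra.IsSeparable K E₁] [Algebra.IsSeparable K E₂]
    (h₁ : EtRam.IsTamelyRamified A (str A K E₁)) (h₂ : EtRam.IsTamelyRamified A (str A K E₂)) :
    EtRam.IsTamelyRamified A (str A K ↥(E₁ ⊔ E₂)) := by
  classical
  haveI : Algebra.IsSeparable K ↥(E₁ ⊔ E₂) := inferInstance
  refine tame_of_ram fun W hW => ?_
  letI aL₁ : Algebra E₁ ↥(E₁ ⊔ E₂) := (IntermediateField.inclusion le_sup_left).toRingHom.toAlgebra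
  letI aL₂ : Algebra E₂ ↥(E₁ ⊔ E₂) := (IntermediateField.inclusion le_sup_right).toRingHom.toAlgebra
  haveI : IsScalarTower K E₁ ↥(E₁ ⊔ E₂) := IsScalarTower.of_algebraMap_eq fun _ => rfl
  haveI : IsScalarTower K E₂ ↥(E₁ ⊔ E₂) := IsScalarTower.of_algebraMap_eq fun _ => rfl
  obtain ⟨e₁, hp₁, hr₁⟩ := ram_tame h₁ _ (dom_comap (L := E₁) W hW)
  obtain ⟨e₂, hp₂, hr₂⟩ := ram_tame h₂ _ (dom_comap (L := E₂) W hW)
  obtain ⟨π, hπ⟩ := IsDiscreteValuationRing.exists_irreducible A
  set n := e₁ * e₂ with hn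
  have hpn : PrimeTo A n := primeTo_mul hp₁ hp₂
  have hn0 : n ≠ 0 := hpn.1
  obtain ⟨α, hα⟩ := IsAlgClosed.exists_pow_nat_eq (algebraMap K Ω (algebraMap A K π)) (Nat.pos_of_ne_zero hn0)
  set E₃ := IntermediateField.adjoin K {α} with hE₃
  have hπK : algebraMap A K π ≠ 0 := (map_ne_zero_iff _ (IsFractionRing.injective A K)).mpr hπ.ne_zero
  have hnK : (n : K) ≠ 0 := by
    intro h
    have h1 : ((n : ℕ) : A) = 0 := IsFractionRing.injective A K (by rw [map_natCast, h, map_zero])
    have h2 : ((n : ℕ) : ResidueField A) = 0 := by rw [← map_natCast (residue A), h1, map_zero]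
    rcases CharP.exists' (ResidueField A) with h3 | ⟨p, hp, hc⟩
    · exact hn0 (Nat.cast_eq_zero.mp h2)
    · exact hpn.2 p hp.out hc ((CharP.cast_eq_zero_iff _ p n).mp h2)
  have hint : IsIntegral K α := Algebra.IsIntegral.isIntegral α
  haveI : FiniteDimensional K E₃ := IntermediateField.adjoin.finiteDimensional hint
  haveI : Algebra.IsSeparable K E₃ := by
    rw [hE₃, IntermediateField.isSeparable_adjoin_simple_iff_isSeparable]
    exact (separable_X_pow_sub_C (algebraMap A K π) hnK hπK).of_dvd (minpoly.dvd K α (by simp [hα]))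
  let E₁₃ := E₁ ⊔ E₃
  let T := E₂ ⊔ E₁₃
  haveI : FiniteDimensional K E₁₃ := inferInstance
  haveI : Algebra.IsSeparable K E₁₃ := inferInstance
  haveI : FiniteDimensional K T := inferInstance
  haveI : Algebra.IsSeparable K T := inferInstance
  have hle : E₁ ⊔ E₂ ≤ T := sup_le (le_sup_left.trans le_sup_right) le_sup_left
  letI : Algebra ↥(E₁ ⊔ E₂) T := (IntermediateField.inclusion hle).toRingHom.toAlgebra
  haveI : IsScalarTower K ↥(E₁ ⊔ E₂) T := IsScalarTower.of_algebraMap_eq fun _ => rfl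
  obtain ⟨W', hW'⟩ := ValCritLib.exists_extension (algebraMap ↥(E₁ ⊔ E₂) T) W
  subst hW'
  have hdT : EtRam.Dominates A (str A K T) W' := by
    refine ⟨fun a => ?_, fun a ha => ?_⟩
    · have := hW.1 a
      rw [ValuationSubring.mem_comap] at this
      exact this
    · exact (W'.valuation_lt_one_iff (EtRam.inclOfComap W' (algebraMap ↥(E₁ ⊔ E₂) T) ⟨_, hW.1 a⟩)).mp
        ((mem_maximalIdeal _).mpr fun hu => ((mem_maximalIdeal _).mp
          ((ValuationSubring.valuation_lt_one_iff _ ⟨_, hW.1 a⟩).mpr (hW.2 a ha)))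
          ((EtRam.isLocalHom_inclOfComap W' (algebraMap ↥(E₁ ⊔ E₂) T)).map_nonunit _ hu))
  -- the Kummer extension
  letI aT₃ : Algebra E₁₃ T := (IntermediateField.inclusion le_sup_right).toRingHom.toAlgebra
  haveI : IsScalarTower K E₁₃ T := IsScalarTower.of_algebraMap_eq fun _ => rfl
  let W₁₃ := W'.comap (algebraMap E₁₃ T)
  have hd₁₃ : EtRam.Dominates A (str A K E₁₃) W₁₃ := dom_comap W' hdT
  letI a₃ : Algebra E₃ E₁₃ := (IntermediateField.inclusion le_sup_right).toRingHom.toAlgebra
  haveI : IsScalarTower K E₃ E₁₃ := IsScalarTower.of_algebraMap_eq fun _ => rfl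
  have hd₃ : EtRam.Dominates A (str A K E₃) (W₁₃.comap (algebraMap E₃ E₁₃)) := dom_comap W₁₃ hd₁₃
  have hr₃ : ∀ h, Ram (str A K E₃) (W₁₃.comap (algebraMap E₃ E₁₃)) h n := by
    intro h
    let V := W₁₃.comap (algebraMap E₃ E₁₃)
    obtain ⟨ϖ, u, e, hϖ, hu, he, hidx⟩ := exists_factor V h hπ
    letI : Algebra A V := (RingHom.codRestrict (str A K E₃) V h.1).toAlgebra
    intro _
    letI : Algebra A E₃ := (str A K E₃).toAlgebra
    haveI : IsScalarTower A K E₃ := IsScalarTower.of_algebraMap_eq fun _ => rfl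
    haveI : IsScalarTower A V E₃ := IsScalarTower.of_algebraMap_eq fun _ => rfl
    haveI := CohDer1.TameTower.isDVR_of_dominates A K E₃ V h
    let a : E₃ := IntermediateField.AdjoinSimple.gen K α
    have ha : a ^ n = algebraMap K E₃ (algebraMap A K π) := Subtype.ext (by push_cast; simpa [a] using hα)
    have hπV : ((algebraMap A V π : V) : E₃) = algebraMap K E₃ (algebraMap A K π) := rfl
    have hav : a ∈ V := (V.valuation_le_one_iff _).mp ((pow_le_one_iff hn0).mp (by
      rw [← map_pow, ha, ← hπV]; exact V.valuation_le_one _))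
    have ha0 : (⟨a, hav⟩ : V) ≠ 0 := fun h0 => by
      have : a = 0 := congrArg Subtype.val h0
      rw [this, zero_pow hn0, eq_comm, _root_.map_eq_zero] at ha
      exact hπK ha
    obtain ⟨k, w, hk⟩ := IsDiscreteValuationRing.eq_unit_mul_pow_irreducible ha0 hϖ
    have heq : e = k * n := by
      have h1 : (algebraMap A V π) = (⟨a, hav⟩ : V) ^ n := Subtype.ext (by rw [hπV, ← ha]; push_cast; rfl)
      rw [show algebraMap A V π = u * ϖ ^ e from hu, hk, mul_pow, ← pow_mul, ← Units.val_pow_eq_pow_val] at h1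
      exact IsDiscreteValuationRing.unit_mul_pow_congr_pow hϖ hϖ u (w ^ n) e (k * n) h1
    obtain ⟨hfin, hef⟩ := HenselLib.MiscB.ramification_mul_inertia_le A V (K := K) (L := E₃)
      (fun x y h => IsFractionRing.injective A K ((algebraMap K E₃).injective (congrArg Subtype.val h)))
    have hdeg : Module.finrank K E₃ ≤ n := by
      rw [IntermediateField.adjoin.finrank hint]
      refine (natDegree_le_of_dvd (minpoly.dvd K α (p := X ^ n - Polynomial.C (algebraMap A K π)) (by simp [hα]))
        (monic_X_pow_sub_C _ hn0).ne_zero).trans ?_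
      rw [natDegree_X_pow_sub_C]
    rw [hidx, heq] at hef
    have hf : 0 < Module.finrank (ResidueField A) (ResidueField V) := Module.finrank_pos
    have hk1 : k = 1 ∧ Module.finrank (ResidueField A) (ResidueField V) = 1 := by
      have hk0 : k ≠ 0 := fun hk0 => he (by rw [heq, hk0, zero_mul])
      have h2 : k * Module.finrank (ResidueField A) (ResidueField V) ≤ 1 := by
        refine (Nat.mul_le_mul_left_iff (Nat.pos_of_ne_zero hn0)).mp ?_
        calc n * (k * Module.finrank (ResidueField A) (ResidueField V)) = k * n * Module.finrank (ResidueField A) (ResidueField V) := by ring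
          _ ≤ Module.finrank K E₃ := hef
          _ ≤ n := hdeg
          _ = n * 1 := (mul_one n).symm
      have h3 : k * Module.finrank (ResidueField A) (ResidueField V) = 1 :=
        le_antisymm h2 (Nat.mul_pos (Nat.pos_of_ne_zero hk0) hf)
      exact mul_eq_one.mp h3
    refine ⟨?_, by rw [hidx, heq, hk1.1, one_mul]⟩
    refine ⟨fun y => ?_⟩
    have hbot : (⊥ : Subalgebra (ResidueField A) (ResidueField V)) = ⊤ :=
      Subalgebra.bot_eq_top_of_finrank_eq_one hk1.2
    obtain ⟨c, rfl⟩ := Algebra.mem_bot.mp (show y ∈ (⊥ : Subalgebra (ResidueField A) (ResidueField V)) from hbot ▸ Algebra.mem_top)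
    exact isSeparable_algebraMap c
  have hr₁₃ : ∀ h, Ram (str A K E₁₃) W₁₃ h n := fun h => by
    refine step' E₁ E₃ W₁₃ h e₁ n hp₁ (fun h' => ?_) hr₃ ⟨e₂, hn⟩
    exact ram_congr (ValuationSubring.ext _ _ fun x => Iff.rfl) @hr₁
  have hrT : Ram (str A K T) W' hdT n := by
    refine step' E₂ E₁₃ W' hdT e₂ n hp₂ (fun h' => ?_) hr₁₃ ⟨e₁, by rw [hn, mul_comm]⟩
    exact ram_congr (ValuationSubring.ext _ _ fun x => Iff.rfl) @hr₂
  obtain ⟨e, hen, he0, hre⟩ := down (L := ↥(E₁ ⊔ E₂)) W' hdT n hrT
  exact ⟨e, ⟨he0, fun p hp hc hd => hpn.2 p hp hc (hd.trans hen)⟩, hre⟩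

end Omega

end Groth.Agent.EtRamLib.TameComp
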