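import Groth.Agent.EtRamLib.PurInsepStep
import Groth.Agent.EtRamLib.TameCompositum
import Mathlib

/-! Separable solutions from solutions. -/

set_option autoImplicit false
set_option linter.all false
universe u

open IsLocalRing Polynomial

namespace Groth.Agent.EtRamLib.SepSolution

theorem geomReduced_of_separable' (k L : Type u) [Field k] [Field L] [Algebra k L] [Algebra.IsSeparable k L] :
    Algebra.IsGeometricallyReduced k L := by
  refine Algebra.IsGeometricallyReduced.of_forall_fg fun B hB => ?_
  obtain ⟨s, rfl⟩ := hB
  let F := IntermediateField.adjoin k (s : Set L)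
  haveI : FiniteDimensional k F := IntermediateField.finiteDimensional_adjoin fun x _ => Algebra.IsIntegral.isIntegral x
  haveI : Algebra.IsSeparable k F := Algebra.isSeparable_tower_bot_of_isSeparable k F L
  haveI := TameComp.geomReduced_of_separable k F
  exact Algebra.IsGeometricallyReduced.of_injective (B := F)
    (Subalgebra.inclusion (IntermediateField.algebra_adjoin_le_adjoin k (s : Set L))) (Subalgebra.inclusion_injective _)

/-- A maximal proper intermediate field of a purely inseparable extension has index `p`. -/
theorem exists_index_p (p : ℕ) (hp : p.Prime) (F E : Type u) [Field F] [Field E] [Algebra F E] [CharP F p]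
    [FiniteDimensional F E] [IsPurelyInseparable F E] (hne : (⊥ : IntermediateField F E) ≠ ⊤) :
    ∃ M : IntermediateField F E, Module.finrank M E = p ∧ IsPurelyInseparable M E := by
  classical
  let P : ℕ → Prop := fun m => ∃ M : IntermediateField F E, M ≠ ⊤ ∧ Module.finrank F M = m
  have h1 : P 1 := ⟨⊥, hne, IntermediateField.finrank_bot⟩
  let m0 := Nat.findGreatest P (Module.finrank F E)
  obtain ⟨M, hM, hMm⟩ : P m0 := Nat.findGreatest_spec (P := P) Module.finrank_pos h1
  have hmax : ∀ M' : IntermediateField F E, M ≤ M' → M' ≠ ⊤ → M = M' := fun M' hle hne' =>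
    IntermediateField.eq_of_le_of_finrank_le hle (hMm ▸ Nat.le_findGreatest (Submodule.finrank_le M'.toSubalgebra.toSubmodule) ⟨M', hne', rfl⟩)
  haveI : IsPurelyInseparable M E := IsPurelyInseparable.tower_top F M E
  haveI : CharP M p := charP_of_injective_algebraMap (algebraMap F M).injective p
  haveI : ExpChar M p := ExpChar.prime hp
  refine ⟨M, ?_, inferInstance⟩
  obtain ⟨x, -, hx⟩ := SetLike.exists_of_lt (lt_top_iff_ne_top.mpr hM)
  obtain ⟨k, c, hk⟩ := IsPurelyInseparable.minpoly_eq_X_pow_sub_C M p x
  have hint : IsIntegral M x := IsIntegral.of_finite M x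
  have hpk : (minpoly M x).natDegree = p ^ k := by rw [hk, natDegree_sub_C, natDegree_X_pow]
  have hk0 : k ≠ 0 := fun h => hx (by
    rw [h, pow_zero] at hpk
    obtain ⟨y, hy⟩ := minpoly.natDegree_eq_one_iff.mp hpk
    exact hy ▸ y.2)
  have hx' : x ^ p ^ k = algebraMap M E c := by
    have := minpoly.aeval M x
    rw [hk, map_sub, aeval_X_pow, aeval_C, sub_eq_zero] at this
    exact this
  have hrest : ∀ y : E, IntermediateField.adjoin M ({y} : Set E) = ⊤ ∨ y ∈ M := fun y => by
    by_contra hcon
    push Not at hcon
    obtain ⟨hy1, hy2⟩ := hcon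
    have h := hmax ((IntermediateField.adjoin M ({y} : Set E)).restrictScalars F) (fun z hz => IntermediateField.algebraMap_mem _ (⟨z, hz⟩ : M))
      (fun h => hy1 (IntermediateField.restrictScalars_eq_top_iff.mp h))
    exact hy2 (h ▸ IntermediateField.mem_adjoin_simple_self M y)
  have hrank : Module.finrank M E = p ^ k := by
    rw [← hpk, ← IntermediateField.adjoin.finrank hint, (hrest x).resolve_right hx, IntermediateField.finrank_top']
  have hy : x ^ p ∈ M := by
    refine (hrest (x ^ p)).resolve_left fun htop => ?_
    have hd : (minpoly M (x ^ p)).natDegree ≤ p ^ (k - 1) := by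
      refine (natDegree_le_of_dvd (minpoly.dvd M _ (p := X ^ p ^ (k - 1) - C c) ?_) (X_pow_sub_C_ne_zero (pow_pos hp.pos _) _)).trans ?_
      · rw [map_sub, aeval_X_pow, aeval_C, ← pow_mul, ← pow_succ', Nat.sub_add_cancel (Nat.pos_of_ne_zero hk0), hx', sub_self]
      · rw [natDegree_sub_C, natDegree_X_pow]
    have h2 : Module.finrank M E ≤ p ^ (k - 1) := by
      rw [← IntermediateField.finrank_top' (F := M) (E := E), ← htop, IntermediateField.adjoin.finrank (IsIntegral.of_finite M _)]
      exact hd
    rw [hrank] at h2
    exact absurd h2 (not_le.mpr (Nat.pow_lt_pow_right hp.one_lt (by omega)))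
  have hd2 : (minpoly M x).natDegree ≤ p := by
    refine (natDegree_le_of_dvd (minpoly.dvd M _ (p := X ^ p - C (⟨x ^ p, hy⟩ : M)) ?_) (X_pow_sub_C_ne_zero hp.pos _)).trans ?_
    · rw [map_sub, aeval_X_pow, aeval_C]; exact sub_self _
    · rw [natDegree_sub_C, natDegree_X_pow]
  rw [hrank]
  rw [hpk] at hd2
  have : k ≤ 1 := (Nat.pow_le_pow_iff_right hp.one_lt).mp (by rwa [pow_one])
  rw [show k = 1 by omega, pow_one]

/-- Some finite separable extension is a solution as soon as some finite extension is. -/
theorem exists_separable_solution {A B K L : Type u} [CommRing A] [IsDomain A] [IsDiscreteValuationRing A]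
    [CommRing B] [IsDomain B] [IsDiscreteValuationRing B]
    [Algebra A B] [IsLocalHom (algebraMap A B)]
    [Field K] [Field L] [Algebra A K] [IsFractionRing A K] [Algebra B L] [IsFractionRing B L]
    [Algebra K L] [Algebra A L] [IsScalarTower A K L] [IsScalarTower A B L]
    [Algebra.IsGeometricallyReduced K L] (hB : CAlg.IsNagata B)
    (K₂ : Type u) [Field K₂] [Algebra K K₂] [FiniteDimensional K K₂] (h₂ : EtRam.IsSolution B K L K₂) :
    ∃ (K₃ : Type u) (_ : Field K₃) (_ : Algebra K K₃) (_ : FiniteDimensional K K₃) (_ : Algebra.IsSeparable K K₃),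
      EtRam.IsSolution B K L K₃ := by
  induction hn : Field.finInsepDegree K K₂ using Nat.strong_induction_on generalizing K₂ with
  | _ n ih =>
    by_cases hs : Algebra.IsSeparable K K₂
    · exact ⟨K₂, inferInstance, inferInstance, inferInstance, hs, h₂⟩
    obtain ⟨p, hchar⟩ := CharP.exists K
    rcases CharP.char_is_prime_or_zero K p with hp | rfl
    swap
    · haveI : CharZero K := CharP.charP_to_charZero K
      exact absurd (inferInstance : Algebra.IsSeparable K K₂) hs
    let S := separableClosure K K₂
    haveI : CharP S p := charP_of_injective_algebraMap (algebraMap K S).injective p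
    have hne : (⊥ : IntermediateField S K₂) ≠ ⊤ := fun h => hs ((isSeparable_iff_finInsepDegree_eq_one K K₂).mpr (by
      rw [Field.finInsepDegree, ← IntermediateField.finrank_top', ← h, IntermediateField.finrank_bot]))
    obtain ⟨M, hMp, hMi⟩ := exists_index_p p hp S K₂ hne
    let E := M
    haveI : FiniteDimensional K E := Module.Finite.trans S E
    haveI : IsScalarTower K E K₂ := IsScalarTower.of_algebraMap_eq fun _ => rfl
    haveI : IsPurelyInseparable E K₂ := hMi
    obtain ⟨K₃, _, _, _, _, hfin, hsep, h₃⟩ :=
      PurInsepStep.pureInsep_step p hp (A := A) hB E K₂ h₂ hMp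
    haveI := hfin
    haveI := hsep
    haveI : FiniteDimensional K K₃ := Module.Finite.trans E K₃
    refine ih (Field.finInsepDegree K K₃) ?_ K₃ h₃ rfl
    have e1 := Field.finInsepDegree_mul_finInsepDegree_of_isAlgebraic K E K₃
    rw [(isSeparable_iff_finInsepDegree_eq_one E K₃).mp hsep, mul_one] at e1
    have e2 := Field.finInsepDegree_mul_finInsepDegree_of_isAlgebraic K E K₂
    rw [IsPurelyInseparable.finInsepDegree_eq E K₂, show Module.finrank E K₂ = p from hMp] at e2
    rw [← hn, ← e2, ← e1]
    have hpos : 0 < Field.finInsepDegree K E := Nat.pos_of_ne_zero fun h0 => by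
      haveI : FiniteDimensional (separableClosure K E) E := inferInstance
      exact Module.finrank_pos.ne' h0
    exact lt_mul_of_one_lt_right hpos hp.one_lt

end Groth.Agent.EtRamLib.SepSolution
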