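import Groth.Agent.EtRamLib.Trichotomy
import Mathlib

/-! A separable totally ramified weak solution of degree `p`. -/

set_option autoImplicit false
set_option linter.all false
universe u

open IsLocalRing Polynomial TensorProduct

namespace Groth.Agent.EtRamLib.Trichotomy

/-- A root of `X^p + π^N X - π` generates a totally ramified extension of degree `p`. -/
theorem roots_totallyRamified (p : ℕ) (hp : p.Prime) {A K L : Type u} [CommRing A] [IsDomain A] [IsDiscreteValuationRing A]
    [Field K] [Algebra A K] [IsFractionRing A K] [Field L] [Algebra K L] [Algebra A L] [IsScalarTower A K L]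
    [FiniteDimensional K L] {π : A} (hπ : Irreducible π) (N : ℕ) (hN : 0 < N) (z : L)
    (hz : z ^ p = algebraMap A L π - algebraMap A L (π ^ N) * z) (hle : Module.finrank K L ≤ p) :
    EtRam.IsTotallyRamified A (algebraMap A L) ∧ Module.finrank K L = p := by
  refine DegP.totallyRamified (K := K) hπ hp (t := z) hle fun V hV => ?_
  have h0 := DegP.vpi_pos (K := K) hπ (V := V)
  have h1 := DegP.vpi_lt_one hπ hV
  rw [← map_pow, hz]
  refine Valuation.map_sub_eq_of_lt_left _ ?_
  rw [map_mul, map_pow (algebraMap A L), map_pow]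
  have hzlt : V.valuation z < 1 := by
    by_contra hge
    push Not at hge
    have h2 : V.valuation (algebraMap A L (π ^ N) * z) < V.valuation (z ^ p) := by
      rw [map_mul, map_pow (algebraMap A L), map_pow, map_pow]
      calc V.valuation (algebraMap A L π) ^ N * V.valuation z < 1 * V.valuation z :=
            mul_lt_mul_of_pos_right (pow_lt_one₀ zero_le' h1 hN.ne') (lt_of_lt_of_le one_pos hge)
        _ ≤ V.valuation z ^ p := by rw [one_mul]; exact le_self_pow hge hp.ne_zero
    have h3 : V.valuation (algebraMap A L π) = V.valuation (z ^ p) := by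
      rw [show algebraMap A L π = z ^ p + algebraMap A L (π ^ N) * z by rw [hz]; ring]
      exact Valuation.map_add_eq_of_lt_left _ h2
    rw [map_pow] at h3
    exact absurd (h3 ▸ one_le_pow₀ hge : 1 ≤ V.valuation (algebraMap A L π)) (not_le.mpr h1)
  calc V.valuation (algebraMap A L π) ^ N * V.valuation z < V.valuation (algebraMap A L π) ^ N * 1 :=
        mul_lt_mul_of_pos_left hzlt (pow_pos h0 N)
    _ ≤ V.valuation (algebraMap A L π) := by rw [mul_one]; exact pow_le_of_le_one zero_le' h1.le hN.ne'

theorem natDegree_pert {K : Type u} [Field K] (p : ℕ) (hp : p.Prime) (e a : K) (he : e ≠ 0) :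
    (X ^ p + (C e * X - C a) : K[X]).natDegree = p := by
  have hdlt : (C e * X - C a : K[X]).degree < (p : WithBot ℕ) := by
    refine lt_of_le_of_lt (degree_sub_le _ _) (max_lt ?_ (lt_of_le_of_lt degree_C_le (by exact_mod_cast hp.pos)))
    rw [degree_C_mul_X he]
    exact_mod_cast hp.one_lt
  exact natDegree_eq_of_degree_eq_some (by rw [degree_add_eq_left_of_degree_lt (by rwa [degree_X_pow]), degree_X_pow])

theorem irreducible_pert (p : ℕ) (hp : p.Prime) (A K : Type u) [CommRing A] [IsDomain A] [IsDiscreteValuationRing A]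
    [Field K] [Algebra A K] [IsFractionRing A K] {π : A} (hπ : Irreducible π) (N : ℕ) (hN : 0 < N) :
    Irreducible (X ^ p + (C (algebraMap A K (π ^ N)) * X - C (algebraMap A K π))) := by
  let F : K[X] := X ^ p + (C (algebraMap A K (π ^ N)) * X - C (algebraMap A K π))
  have hne : algebraMap A K (π ^ N) ≠ 0 := fun h => pow_ne_zero N hπ.ne_zero (IsFractionRing.injective A K (h.trans (map_zero _).symm))
  have hFd : F.natDegree = p := natDegree_pert p hp _ _ hne
  obtain ⟨g, hg, c, hc⟩ := exists_irreducible_of_natDegree_ne_zero (f := F) (by rw [hFd]; exact hp.ne_zero)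
  haveI := Fact.mk hg
  have hFne : F ≠ 0 := fun h => hp.ne_zero (by rw [← hFd, h, natDegree_zero])
  have hc0 : c ≠ 0 := fun h => hFne (by rw [hc, h, mul_zero])
  let pb := AdjoinRoot.powerBasis hg.ne_zero
  haveI : FiniteDimensional K (AdjoinRoot g) := pb.finite
  have hfr : Module.finrank K (AdjoinRoot g) = g.natDegree := by rw [pb.finrank]; rfl
  have hmul : g.natDegree + c.natDegree = p := by rw [← natDegree_mul hg.ne_zero hc0, ← hc, hFd]
  obtain ⟨-, h2⟩ := roots_totallyRamified p hp (K := K) (L := AdjoinRoot g) hπ N hN (AdjoinRoot.root g) (by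
    have h0 : aeval (AdjoinRoot.root g) F = 0 := by
      rw [hc, map_mul, AdjoinRoot.aeval_eq, AdjoinRoot.mk_self, zero_mul]
    simp only [F, map_add, map_sub, map_mul, aeval_X_pow, aeval_X, aeval_C] at h0
    rw [IsScalarTower.algebraMap_apply A K (AdjoinRoot g), IsScalarTower.algebraMap_apply A K (AdjoinRoot g) (π ^ N)]
    linear_combination h0) (by omega)
  have hu : IsUnit c := isUnit_iff_degree_eq_zero.mpr (by
    rw [degree_eq_natDegree hc0]; exact_mod_cast (by omega : c.natDegree = 0))
  show Irreducible F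
  rw [hc]
  exact (irreducible_mul_isUnit hu).mpr hg

theorem pow_mem_of_adjoin (p : ℕ) [Fact p.Prime] {K L M M' : Type u} [Field K] [Field L] [Field M] [Field M'] [CharP K p]
    [Algebra K L] [Algebra L M] [Algebra M M'] [Algebra L M'] [IsScalarTower L M M'] [Algebra K M'] [IsScalarTower K L M']
    (hpow : ∀ m : M, m ^ p ∈ Set.range (algebraMap L M)) {g : K[X]} (a : K) [Fact (Irreducible g)] [Algebra (AdjoinRoot g) M']
    [IsScalarTower K (AdjoinRoot g) M'] (hroot : AdjoinRoot.root g ^ p = algebraMap K (AdjoinRoot g) a)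
    (hadj : Algebra.adjoin M (Set.range (algebraMap (AdjoinRoot g) M')) = ⊤) (y : M') :
    y ^ p ∈ Set.range (algebraMap L M') := by
  have hp : p.Prime := Fact.out
  haveI : CharP L p := charP_of_injective_algebraMap (algebraMap K L).injective p
  haveI : CharP M' p := charP_of_injective_algebraMap (algebraMap K M').injective p
  haveI : CharP (AdjoinRoot g) p := charP_of_injective_algebraMap (algebraMap K (AdjoinRoot g)).injective p
  haveI : ExpChar K p := ExpChar.prime hp
  haveI : ExpChar M' p := ExpChar.prime hp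
  haveI : ExpChar (AdjoinRoot g) p := ExpChar.prime hp
  have hy : y ∈ Algebra.adjoin M (Set.range (algebraMap (AdjoinRoot g) M')) := by rw [hadj]; trivial
  induction hy using Algebra.adjoin_induction with
  | mem z hz =>
    obtain ⟨k, rfl⟩ := hz
    obtain ⟨q, rfl⟩ := AdjoinRoot.mk_surjective k
    refine ⟨algebraMap K L (aeval a (q.map (frobenius K p))), ?_⟩
    rw [← IsScalarTower.algebraMap_apply K L M', IsScalarTower.algebraMap_apply K (AdjoinRoot g) M', ← map_pow]
    congr 1
    rw [← AdjoinRoot.aeval_eq q, ← aeval_algebraMap_apply, ← hroot]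
    induction q using Polynomial.induction_on' with
    | add q r hq hr => rw [Polynomial.map_add, map_add, map_add, add_pow_expChar, hq, hr]
    | monomial m c => simp [Polynomial.map_monomial, frobenius_def, mul_pow, ← pow_mul, mul_comm m p]
  | algebraMap m =>
    obtain ⟨l, hl⟩ := hpow m
    exact ⟨l, by rw [IsScalarTower.algebraMap_apply L M M', hl, map_pow]⟩
  | add x z _ _ hx hz =>
    obtain ⟨l, hl⟩ := hx
    obtain ⟨m, hm⟩ := hz
    exact ⟨l + m, by rw [map_add, hl, hm, add_pow_expChar]⟩
  | mul x z _ _ hx hz =>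
    obtain ⟨l, hl⟩ := hx
    obtain ⟨m, hm⟩ := hz
    exact ⟨l * m, by rw [map_mul, hl, hm, mul_pow]⟩

theorem weak_root (p : ℕ) (hp : p.Prime) {A B K L K₂ M : Type u} [CommRing A] [CommRing B] [IsDomain B]
    [IsDiscreteValuationRing B] [Algebra A B] [Field K] [Field L] [Field K₂] [Field M] [Algebra A K] [Algebra B L]
    [IsFractionRing B L] [Algebra K L] [Algebra A L] [IsScalarTower A K L] [IsScalarTower A B L]
    [Algebra K K₂] [Algebra L M] [Algebra K M] [Algebra K₂ M] [IsScalarTower K L M] [IsScalarTower K K₂ M]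
    {π : A} (hπ : Irreducible (algebraMap A B π)) (t : K₂) (ht : t ^ p = algebraMap K K₂ (algebraMap A K π))
    (hpow : ∀ y : M, y ^ p ∈ Set.range (algebraMap L M)) (W : ValuationSubring M)
    (hW : EtRam.Dominates B ((algebraMap L M).comp (algebraMap B L)) W) :
    Step.LocalCond False M W (algebraMap K₂ M) := by
  letI : Algebra (W.comap (algebraMap K₂ M)) W := (EtRam.inclOfComap W (algebraMap K₂ M)).toAlgebra
  refine ⟨le_antisymm (Ideal.map_le_iff_le_comap.mpr fun x hx => map_nonunit (EtRam.inclOfComap W (algebraMap K₂ M)) x hx)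
    fun w hw => ?_, False.elim⟩
  have ht' : (algebraMap K₂ M t) ^ p = algebraMap L M (algebraMap B L (algebraMap A B π)) := by
    rw [← map_pow, ht, ← IsScalarTower.algebraMap_apply K K₂ M, ← IsScalarTower.algebraMap_apply A B L,
      IsScalarTower.algebraMap_apply A K L, ← IsScalarTower.algebraMap_apply K L M]
  obtain ⟨v, hv, hwv⟩ := weak_of_pow_mem p hp hpow W hW hπ _ ht' w hw
  have htlt : W.valuation (algebraMap K₂ M t) < 1 := by
    rw [← pow_lt_one_iff hp.ne_zero, ← map_pow, ht']
    exact hW.2 (algebraMap A B π) ((mem_maximalIdeal _).mpr hπ.not_isUnit)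
  let tV : W.comap (algebraMap K₂ M) := ⟨t, (W.valuation_le_one_iff _).mp htlt.le⟩
  have htV : tV ∈ maximalIdeal (W.comap (algebraMap K₂ M)) :=
    (mem_maximalIdeal _).mpr fun hu => htlt.ne ((W.valuation_eq_one_iff _).mp (hu.map (EtRam.inclOfComap W (algebraMap K₂ M))))
  rw [show w = algebraMap _ W tV * ⟨v, hv⟩ from Subtype.ext hwv]
  exact Ideal.mul_mem_right _ _ (Ideal.mem_map_of_mem _ htV)

end Groth.Agent.EtRamLib.Trichotomy
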