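import Groth.Agent.EtRamLib.StepPrep
import Mathlib

/-! Solutions survive small perturbations of the multiplication of the solving field. -/

set_option autoImplicit false
set_option linter.all false
universe u

open IsLocalRing TensorProduct

namespace Groth.Agent.EtRamLib.Step

open Lattice

variable {A B K L : Type u} [CommRing A] [IsDomain A] [IsDiscreteValuationRing A] [CommRing B] [IsDomain B]
  [IsDiscreteValuationRing B] [Algebra A B] [IsLocalHom (algebraMap A B)]
  [Field K] [Field L] [Algebra A K] [IsFractionRing A K] [Algebra B L] [IsFractionRing B L]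
  [Algebra K L] [Algebra A L] [IsScalarTower A K L] [IsScalarTower A B L]

/-- The bilinear base change of `δ`. -/
noncomputable def bdelta (L : Type u) [Field L] [Algebra K L] {V : Type u} [AddCommGroup V] [Module K V]
    (δ : V →ₗ[K] V →ₗ[K] V) : L ⊗[K] V →ₗ[L] L ⊗[K] V →ₗ[L] L ⊗[K] V :=
  LinearMap.liftBaseChange L ((LinearMap.baseChangeHom K L V V).comp δ)

theorem bdelta_tmul {V : Type u} [AddCommGroup V] [Module K V] (δ : V →ₗ[K] V →ₗ[K] V) (l m : L) (x y : V) :
    bdelta L δ (l ⊗ₜ x) (m ⊗ₜ y) = (l * m) ⊗ₜ δ x y := by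
  simp [bdelta, LinearMap.baseChangeHom, TensorProduct.smul_tmul', smul_eq_mul]

theorem mul_formula {V W : Type u} [CommRing V] [CommRing W] [Algebra K V] [Algebra K W] (δ : V →ₗ[K] V →ₗ[K] V)
    (φ : V ≃ₗ[K] W) (c : K) (h : ∀ x y, φ x * φ y = φ (x * y) + c • φ (δ x y)) (X Y : L ⊗[K] V) :
    LinearMap.baseChange L φ.toLinearMap X * LinearMap.baseChange L φ.toLinearMap Y =
      LinearMap.baseChange L φ.toLinearMap (X * Y) + algebraMap K L c • LinearMap.baseChange L φ.toLinearMap (bdelta L δ X Y) := by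
  induction X using TensorProduct.induction_on with
  | zero => simp
  | add X X' hX hX' =>
    rw [map_add, add_mul, hX, hX', add_mul, map_add, map_add, LinearMap.add_apply, map_add, smul_add]; abel
  | tmul l x =>
    induction Y using TensorProduct.induction_on with
    | zero => simp
    | add Y Y' hY hY' =>
      rw [map_add, mul_add, hY, hY', mul_add, map_add, map_add, map_add, smul_add]; abel
    | tmul m y =>
      rw [bdelta_tmul, LinearMap.baseChange_tmul, LinearMap.baseChange_tmul, LinearMap.baseChange_tmul,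
        Algebra.TensorProduct.tmul_mul_tmul, Algebra.TensorProduct.tmul_mul_tmul, LinearMap.baseChange_tmul,
        LinearEquiv.coe_coe, h, TensorProduct.tmul_add, algebraMap_smul, ← TensorProduct.tmul_smul]

/-- `L ⊗ V ≃ L ⊗ W`. -/
noncomputable def bEquiv {V W : Type u} [AddCommGroup V] [Module K V] [AddCommGroup W] [Module K W] (φ : V ≃ₗ[K] W) :
    L ⊗[K] V ≃ₗ[L] L ⊗[K] W :=
  LinearEquiv.ofLinear (LinearMap.baseChange L φ.toLinearMap) (LinearMap.baseChange L φ.symm.toLinearMap)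
    (by rw [← LinearMap.baseChange_comp, show φ.toLinearMap.comp φ.symm.toLinearMap = LinearMap.id from
      LinearMap.ext φ.apply_symm_apply, LinearMap.baseChange_id])
    (by rw [← LinearMap.baseChange_comp, show φ.symm.toLinearMap.comp φ.toLinearMap = LinearMap.id from
      LinearMap.ext φ.symm_apply_apply, LinearMap.baseChange_id])

/-- Weakly unramified, and geometrically reduced residue extension if `gr` holds. -/
def LocalCond (gr : Prop) {K₁ : Type u} [Field K₁] (M : Type u) [Field M] (W : ValuationSubring M) (f : K₁ →+* M) : Prop :=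
  letI : Algebra (W.comap f) W := (EtRam.inclOfComap W f).toAlgebra
  EtRam.IsWeaklyUnramified (W.comap f) W ∧
    (gr → @Algebra.IsGeometricallyReduced (ResidueField (W.comap f)) (ResidueField W) _ _
      (ResidueField.map (EtRam.inclOfComap W f)).toAlgebra)

set_option maxHeartbeats 1600000 in
theorem perturbed (gr : Prop) (K₂ : Type u) [Field K₂] [Algebra K K₂] [FiniteDimensional K K₂]
    [IsReduced (L ⊗[K] K₂)] (hfinB : Module.Finite B (integralClosure B (L ⊗[K] K₂)))
    (hsol : EtRam.ForallLocalExt B K L K₂ (LocalCond gr)) (δ : K₂ →ₗ[K] K₂ →ₗ[K] K₂) (t : A)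
    (ht : t ∈ maximalIdeal A) :
    ∃ N₀ : ℕ, ∀ N : ℕ, N₀ ≤ N → ∀ (Kf : Type u) [CommRing Kf] [Algebra K Kf] (φ : K₂ ≃ₗ[K] Kf), φ 1 = 1 →
      (∀ x y, φ x * φ y = φ (x * y) + algebraMap A K (t ^ N) • φ (δ x y)) →
      ∀ (K₃ : Type u) [Field K₃] [Algebra K K₃] (σ : Kf →ₐ[K] K₃), Function.Surjective σ →
        EtRam.ForallLocalExt B K L K₃ (LocalCond gr) := by
  classical
  letI : Algebra A K₂ := ((algebraMap K K₂).comp (algebraMap A K)).toAlgebra
  haveI : IsScalarTower A K K₂ := IsScalarTower.of_algebraMap_eq fun _ => rfl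
  let R₂ := L ⊗[K] K₂
  haveI : Module.Finite L R₂ := Module.Finite.base_change K L K₂
  have hfinA : Module.Finite A (integralClosure A K₂) := StepPrep.finite_base (B := B) (L := L) hfinB
  obtain ⟨πA, hπA⟩ := IsDiscreteValuationRing.exists_irreducible A
  obtain ⟨πB, hπB⟩ := IsDiscreteValuationRing.exists_irreducible B
  let δA : K₂ →ₗ[A] K₂ →ₗ[A] K₂ :=
    LinearMap.mk₂ A (fun x y => δ x y) (fun x x' y => by simp) (fun a x y => by
      rw [← algebraMap_smul K a x, map_smul, LinearMap.smul_apply, algebraMap_smul])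
      (fun x y y' => by simp) (fun a x y => by rw [← algebraMap_smul K a y, map_smul, algebraMap_smul])
  let δB : R₂ →ₗ[B] R₂ →ₗ[B] R₂ :=
    LinearMap.mk₂ B (fun x y => bdelta L δ x y) (fun x x' y => by simp) (fun a x y => by
      rw [← algebraMap_smul L a x, map_smul, LinearMap.smul_apply, algebraMap_smul])
      (fun x y y' => by simp) (fun a x y => by rw [← algebraMap_smul L a y, map_smul, algebraMap_smul])
  obtain ⟨sA, hsA⟩ := exists_bound K hπA hfinA δA
  obtain ⟨sB, hsB⟩ := exists_bound L hπB hfinB δB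
  obtain ⟨a, ha⟩ := Ideal.mem_span_singleton.mp (hπA.maximalIdeal_eq ▸ ht)
  have htB : algebraMap A B t ∈ maximalIdeal B :=
    (mem_maximalIdeal _).mpr fun h => (mem_maximalIdeal _).mp ht (h.of_map (algebraMap A B))
  obtain ⟨b, hb⟩ := Ideal.mem_span_singleton.mp (hπB.maximalIdeal_eq ▸ htB)
  refine ⟨sA + sB + 2, fun N hN Kf _ _ φ hφ1 hφ K₃ _ _ σ hσ => ?_⟩
  letI : Algebra A Kf := ((algebraMap K Kf).comp (algebraMap A K)).toAlgebra
  haveI : IsScalarTower A K Kf := IsScalarTower.of_algebraMap_eq fun _ => rfl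
  let R₃ := L ⊗[K] Kf
  let DA : Pert πA K₂ Kf :=
    { Φ := φ.restrictScalars A
      fin := hfinA
      one := hφ1
      mul := fun x y => ⟨⟨a ^ N • (πA ^ (N - 2) • δA x y), (hsA _ (by omega) x y).smul _⟩, by
        show φ x * φ y = φ (x * y : K₂) + πA ^ 2 • φ (a ^ N • (πA ^ (N - 2) • δ x y))
        rw [hφ, ← algebraMap_smul K (a ^ N) (πA ^ (N - 2) • δ x y), ← algebraMap_smul K (πA ^ (N - 2)) (δ x y), map_smul φ,
          map_smul φ, ← algebraMap_smul K (πA ^ 2) (_ : Kf), smul_smul, smul_smul, ← map_mul, ← map_mul]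
        congr 3
        rw [ha, mul_pow, show πA ^ N = πA ^ 2 * πA ^ (N - 2) by rw [← pow_add]; congr 1; omega]
        ring⟩
      den := exists_den K hπA }
  let DB : Pert πB R₂ R₃ :=
    { Φ := (bEquiv φ).restrictScalars B
      fin := hfinB
      one := by
        show LinearMap.baseChange L φ.toLinearMap (1 ⊗ₜ 1) = 1 ⊗ₜ 1
        rw [LinearMap.baseChange_tmul, LinearEquiv.coe_coe, hφ1]
      mul := fun x y => ⟨⟨b ^ N • (πB ^ (N - 2) • δB x y), (hsB _ (by omega) x y).smul _⟩, by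
        show LinearMap.baseChange L φ.toLinearMap x * LinearMap.baseChange L φ.toLinearMap y =
          LinearMap.baseChange L φ.toLinearMap (x * y : R₂) +
            πB ^ 2 • LinearMap.baseChange L φ.toLinearMap (b ^ N • (πB ^ (N - 2) • bdelta L δ x y))
        rw [mul_formula δ φ _ hφ, ← algebraMap_smul L (b ^ N) (πB ^ (N - 2) • bdelta L δ (x : R₂) y),
          ← algebraMap_smul L (πB ^ (N - 2)) (bdelta L δ (x : R₂) y), map_smul (LinearMap.baseChange L φ.toLinearMap),
          map_smul (LinearMap.baseChange L φ.toLinearMap), ← algebraMap_smul L (πB ^ 2) (_ : R₃), smul_smul, smul_smul,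
          ← map_mul, ← map_mul, ← IsScalarTower.algebraMap_apply A K L, IsScalarTower.algebraMap_apply A B L]
        congr 3
        rw [map_pow, hb, mul_pow, show πB ^ N = πB ^ 2 * πB ^ (N - 2) by rw [← pow_add]; congr 1; omega]
        ring⟩
      den := exists_den L hπB }
  intro M _ _ _ _ _ _ hadj W hW
  letI : Algebra B M := ((algebraMap L M).comp (algebraMap B L)).toAlgebra
  haveI : IsScalarTower B L M := IsScalarTower.of_algebraMap_eq fun _ => rfl
  let f := algebraMap K₃ M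
  let ρ₀ : R₃ →ₐ[L] M :=
    Algebra.TensorProduct.lift (Algebra.ofId L M) ((IsScalarTower.toAlgHom K K₃ M).comp σ) fun _ _ => Commute.all _ _
  have hρ₀ : Function.Surjective ρ₀ := by
    intro m
    have hm : m ∈ Algebra.adjoin L (Set.range (algebraMap K₃ M)) := by rw [hadj]; trivial
    refine (Algebra.adjoin_le ?_ : _ ≤ ρ₀.range) hm
    rintro _ ⟨k, rfl⟩
    obtain ⟨k', rfl⟩ := hσ k
    exact ⟨1 ⊗ₜ k', (Algebra.TensorProduct.lift_tmul _ _ _ _ _).trans (by rw [map_one, one_mul]; rfl)⟩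
  let ρ : R₃ →ₐ[B] M := ρ₀.restrictScalars B
  have hπ0 : algebraMap B M πB ≠ 0 := fun h => hπB.ne_zero
    (IsFractionRing.injective B L (((algebraMap L M).injective (h.trans (map_zero _).symm)).trans (map_zero _).symm))
  have hπBm : πB ∈ maximalIdeal B := (mem_maximalIdeal _).mpr hπB.not_isUnit
  have hπAm : πA ∈ maximalIdeal A := (mem_maximalIdeal _).mpr hπA.not_isUnit
  letI : Algebra A K₃ := ((algebraMap K K₃).comp (algebraMap A K)).toAlgebra
  haveI : IsScalarTower A K K₃ := IsScalarTower.of_algebraMap_eq fun _ => rfl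
  let V := W.comap f
  have hfA : ∀ x : A, f (algebraMap A K₃ x) = algebraMap B M (algebraMap A B x) := fun x => by
    show algebraMap K₃ M (algebraMap K K₃ (algebraMap A K x)) = algebraMap L M (algebraMap B L (algebraMap A B x))
    rw [← IsScalarTower.algebraMap_apply A B L, IsScalarTower.algebraMap_apply A K L, ← IsScalarTower.algebraMap_apply K L M,
      ← IsScalarTower.algebraMap_apply K K₃ M]
  have hV : EtRam.Dominates A (algebraMap A K₃) V := by
    have hmem : ∀ x, algebraMap A K₃ x ∈ V := fun x => show f _ ∈ W by rw [hfA]; exact hW.1 _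
    refine ⟨hmem, fun x hx => (V.valuation_lt_one_iff ⟨_, hmem x⟩).mp fun hu => ?_⟩
    have h1 : W.valuation (f (algebraMap A K₃ x)) = 1 := (W.valuation_eq_one_iff _).mp (hu.map (EtRam.inclOfComap W f))
    rw [hfA] at h1
    exact (hW.2 _ ((mem_maximalIdeal _).mpr fun h => (mem_maximalIdeal _).mp hx (h.of_map (algebraMap A B)))).ne h1
  let σA : Kf →ₐ[A] K₃ := σ.restrictScalars A
  -- the inclusion of lattices
  let ι2 : K₂ →ₐ[A] R₂ :=
    { (Algebra.TensorProduct.includeRight : K₂ →ₐ[K] L ⊗[K] K₂).toRingHom with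
      commutes' := fun x => by
        show (Algebra.TensorProduct.includeRight : K₂ →ₐ[K] L ⊗[K] K₂) (algebraMap A K₂ x) = _
        rw [IsScalarTower.algebraMap_apply A K K₂, AlgHom.commutes, IsScalarTower.algebraMap_apply K L,
          ← IsScalarTower.algebraMap_apply A K L, ← IsScalarTower.algebraMap_apply A L] }
  let ι : integralClosure A K₂ →+* integralClosure B R₂ :=
    (ι2.toRingHom.comp (integralClosure A K₂).val.toRingHom).codRestrict (integralClosure B R₂)
      fun x => (x.2.map ι2).tower_top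
  let incl := EtRam.inclOfComap W f
  have hcompat : ∀ x, DB.toW ρ W hW (DB.to (ι x)) = incl (DA.toW σA V hV (DA.to x)) := fun x => Subtype.ext (by
    show ρ₀ (LinearMap.baseChange L φ.toLinearMap (1 ⊗ₜ (x : K₂))) = f (σ (φ x))
    rw [LinearMap.baseChange_tmul]
    exact (Algebra.TensorProduct.lift_tmul _ _ _ _ _).trans (by rw [map_one, one_mul]; rfl))
  let cB := DB.cen ρ W hW hπBm
  let cA := DA.cen σA V hV hπAm
  have hcen : ∀ x, cB (ι x) = ResidueField.map incl (cA x) := fun x => by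
    show residue W (DB.toW ρ W hW (DB.to (ι x))) = _
    rw [hcompat]; rfl
  have hker3 : ∀ x, x ∈ RingHom.ker cA ↔ ι x ∈ RingHom.ker cB := fun x => by
    rw [RingHom.mem_ker, RingHom.mem_ker, hcen, map_eq_zero_iff _ (ResidueField.map incl).injective]
  -- the corresponding pair for `K₂`
  haveI : (RingHom.ker cB).IsPrime := RingHom.ker_isPrime _
  obtain ⟨Q, hQ, W₂, hW₂, hker₂⟩ :=
    exists_pair L (RingHom.ker cB) fun x hx => DB.cen_algebraMap_eq_zero ρ W hW hπBm hx
  letI : Field (R₂ ⧸ Q) := Ideal.Quotient.field Q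
  let f₂ : K₂ →+* R₂ ⧸ Q :=
    (Ideal.Quotient.mk Q).comp (Algebra.TensorProduct.includeRight : K₂ →ₐ[K] L ⊗[K] K₂).toRingHom
  letI : Algebra K₂ (R₂ ⧸ Q) := f₂.toAlgebra
  haveI : IsScalarTower K K₂ (R₂ ⧸ Q) := IsScalarTower.of_algebraMap_eq fun x => by
    show _ = Ideal.Quotient.mk Q ((Algebra.TensorProduct.includeRight : K₂ →ₐ[K] L ⊗[K] K₂) (algebraMap K K₂ x))
    rw [AlgHom.commutes]; rfl
  haveI : IsScalarTower K L (R₂ ⧸ Q) := IsScalarTower.of_algebraMap_eq fun x => by
    show _ = Ideal.Quotient.mk Q (algebraMap L R₂ (algebraMap K L x))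
    rw [← IsScalarTower.algebraMap_apply K L R₂]; rfl
  have hadj₂ : Algebra.adjoin L (Set.range (algebraMap K₂ (R₂ ⧸ Q))) = ⊤ := by
    refine eq_top_iff.mpr fun m _ => ?_
    obtain ⟨r, rfl⟩ := Ideal.Quotient.mk_surjective m
    induction r using TensorProduct.induction_on with
    | zero => exact zero_mem _
    | add r r' hr hr' => rw [map_add]; exact add_mem (hr trivial) (hr' trivial)
    | tmul l x =>
      rw [show (l ⊗ₜ x : R₂) = algebraMap L R₂ l * (1 ⊗ₜ x) by
        rw [Algebra.TensorProduct.algebraMap_apply, Algebra.TensorProduct.tmul_mul_tmul, mul_one, one_mul]; rfl, map_mul]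
      exact mul_mem (Subalgebra.algebraMap_mem _ l) (Algebra.subset_adjoin ⟨x, rfl⟩)
  have hW₂' : EtRam.Dominates B ((algebraMap L (R₂ ⧸ Q)).comp (algebraMap B L)) W₂ := by
    rwa [← IsScalarTower.algebraMap_eq B L (R₂ ⧸ Q)]
  obtain ⟨hwu₂, hgr₂⟩ := hsol (R₂ ⧸ Q) hadj₂ W₂ hW₂'
  let ρ₂ := Ideal.Quotient.mkₐ B Q
  let c₂ := cen ρ₂ W₂ hW₂.1
  let V₂ := W₂.comap f₂
  have hV₂ : EtRam.Dominates A (algebraMap A K₂) V₂ := by
    have hfA₂ : ∀ x, f₂ (algebraMap A K₂ x) = algebraMap B (R₂ ⧸ Q) (algebraMap A B x) := fun x => by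
      show Ideal.Quotient.mk Q (ι2 (algebraMap A K₂ x)) = _
      rw [ι2.commutes, IsScalarTower.algebraMap_apply A B R₂]; rfl
    have hmem : ∀ x, algebraMap A K₂ x ∈ V₂ := fun x => show f₂ _ ∈ W₂ by rw [hfA₂]; exact hW₂.1 _
    refine ⟨hmem, fun x hx => (V₂.valuation_lt_one_iff ⟨_, hmem x⟩).mp fun hu => ?_⟩
    have h1 : W₂.valuation (f₂ (algebraMap A K₂ x)) = 1 := (W₂.valuation_eq_one_iff _).mp (hu.map (EtRam.inclOfComap W₂ f₂))
    rw [hfA₂] at h1
    exact (hW₂.2 _ ((mem_maximalIdeal _).mpr fun h => (mem_maximalIdeal _).mp hx (h.of_map (algebraMap A B)))).ne h1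
  let cA₂ := cen (AlgHom.id A K₂) V₂ hV₂.1
  let incl₂ := EtRam.inclOfComap W₂ f₂
  have hcen₂ : ∀ x, c₂ (ι x) = ResidueField.map incl₂ (cA₂ x) := fun x => by rfl
  have hkerA : RingHom.ker cA₂ = RingHom.ker cA := Ideal.ext fun x => by
    rw [hker3, ← hker₂, RingHom.mem_ker, RingHom.mem_ker, hcen₂, map_eq_zero_iff _ (ResidueField.map incl₂).injective]
  -- a uniformizer coming from `K₂`
  obtain ⟨g, hg⟩ := exists_gen L ρ₂ Ideal.Quotient.mk_surjective W₂ hW₂ hfinB
  obtain ⟨v, hv, hvg⟩ : ∃ v ∈ maximalIdeal V₂, incl₂ v ∉ maximalIdeal W₂ * maximalIdeal W₂ := by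
    by_contra hall
    push Not at hall
    have h1 : maximalIdeal W₂ ≤ maximalIdeal W₂ * maximalIdeal W₂ := by
      conv_lhs => rw [← (show (maximalIdeal V₂).map incl₂ = maximalIdeal W₂ from hwu₂)]
      exact Ideal.map_le_iff_le_comap.mpr hall
    have h2 := Submodule.eq_bot_of_le_smul_of_le_jacobson_bot (maximalIdeal W₂) (maximalIdeal W₂)
      (hg ▸ Submodule.fg_span_singleton g) h1 (maximalIdeal_le_jacobson ⊥)
    have h3 : (⟨algebraMap B (R₂ ⧸ Q) πB, hW₂.1 πB⟩ : W₂) ∈ maximalIdeal W₂ :=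
      (IsLocalRing.residue_eq_zero_iff _).mp ((res_zero_iff W₂ _).mpr (hW₂.2 πB hπBm))
    rw [h2, Submodule.mem_bot] at h3
    exact hπB.ne_zero ((isAlgebraic_target L ρ₂ Ideal.Quotient.mk_surjective).2
      ((congrArg Subtype.val h3).trans (map_zero _).symm))
  have hgen : maximalIdeal W₂ = Ideal.span {incl₂ v} := by
    have hvm : incl₂ v ∈ maximalIdeal W₂ := map_nonunit incl₂ v hv
    refine le_antisymm ?_ ((Ideal.span_singleton_le_iff_mem _).mpr hvm)
    rw [hg, Ideal.mem_span_singleton'] at hvm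
    obtain ⟨r, hr⟩ := hvm
    have hru : IsUnit r := by
      by_contra hnu
      refine hvg ?_
      rw [← hr]
      exact Ideal.mul_mem_mul ((mem_maximalIdeal _).mpr hnu) (hg ▸ Ideal.mem_span_singleton_self g)
    rw [← hr, Ideal.span_singleton_mul_left_unit hru, ← hg]
  obtain ⟨s, d, hd, hsd⟩ := exists_frac K (AlgHom.id A K₂) Function.surjective_id V₂ hV₂ v.2
  have hdu : IsUnit (⟨(d : K₂), mem_ρ (AlgHom.id A K₂) V₂ hV₂.1 d⟩ : V₂) := (V₂.valuation_eq_one_iff _).mpr hd
  let s' : V₂ := ⟨(s : K₂), mem_ρ (AlgHom.id A K₂) V₂ hV₂.1 s⟩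
  have hs' : s' = v * ⟨(d : K₂), mem_ρ (AlgHom.id A K₂) V₂ hV₂.1 d⟩ := Subtype.ext hsd.symm
  have hgen' : maximalIdeal W₂ = Ideal.span {incl₂ s'} := by
    rw [hgen, hs', map_mul, Ideal.span_singleton_mul_right_unit (hdu.map incl₂)]
  have hsk₂ : cA₂ s = 0 := by
    show residue V₂ s' = 0
    rw [IsLocalRing.residue_eq_zero_iff, hs']
    exact Ideal.mul_mem_right _ _ hv
  have huB := ker_le_span L ρ₂ Ideal.Quotient.mk_surjective W₂ hW₂ (ι s) fun w hw => by
    rw [hgen', Ideal.mem_span_singleton'] at hw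
    obtain ⟨r, rfl⟩ := hw
    exact ⟨r, mul_comm _ _⟩
  rw [show RingHom.ker (cen ρ₂ W₂ hW₂.1) = RingHom.ker cB from hker₂] at huB
  have huA := ker_le_span K (AlgHom.id A K₂) Function.surjective_id V₂ hV₂ s fun w hw => by
    have h1 : incl₂ w ∈ maximalIdeal W₂ := map_nonunit incl₂ w hw
    rw [hgen', Ideal.mem_span_singleton'] at h1
    obtain ⟨r, hr⟩ := h1
    have hs0 : (s : K₂) ≠ 0 := fun h0 => hvg (by
      have : incl₂ v ∈ Ideal.span {incl₂ s'} := hgen' ▸ map_nonunit incl₂ v hv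
      rw [show incl₂ s' = 0 from Subtype.ext (by show f₂ (s : K₂) = 0; rw [h0, map_zero]), Ideal.span_singleton_zero] at this
      rw [(Submodule.mem_bot _).mp this]; exact zero_mem _)
    refine ⟨⟨(w : K₂) / s, show f₂ ((w : K₂) / s) ∈ W₂ from ?_⟩, (mul_div_cancel₀ _ hs0).symm⟩
    rw [map_div₀, show f₂ (w : K₂) = (r : R₂ ⧸ Q) * f₂ s from (congrArg Subtype.val hr).symm,
      mul_div_cancel_right₀ _ ((map_ne_zero f₂).mpr hs0)]
    exact r.2
  rw [show RingHom.ker (cen (AlgHom.id A K₂) V₂ hV₂.1) = RingHom.ker cA from hkerA] at huA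
  have hsA' : cA s = 0 := RingHom.mem_ker.mp (hkerA ▸ (RingHom.mem_ker.mpr hsk₂))
  obtain ⟨hgenW, hsurjB⟩ := DB.main ρ W hW hπBm hπB.maximalIdeal_eq hρ₀ hπ0 (ι s) ((hker3 s).mp hsA') huB
  obtain ⟨-, hsurjA⟩ := DA.main σA V hV hπAm hπA.maximalIdeal_eq hσ (fun h => hπA.ne_zero
    (IsFractionRing.injective A K (((algebraMap K K₃).injective (h.trans (map_zero _).symm)).trans (map_zero _).symm))) s hsA' huA
  refine ⟨le_antisymm (Ideal.map_le_iff_le_comap.mpr fun x hx => map_nonunit incl x hx) fun w hw => ?_, fun hg' => ?_⟩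
  · obtain ⟨w', rfl⟩ := hgenW w hw
    rw [hcompat]
    exact Ideal.mul_mem_right _ _ (Ideal.mem_map_of_mem _ ((IsLocalRing.residue_eq_zero_iff _).mp hsA'))
  letI a₂ : Algebra (ResidueField V₂) (ResidueField W₂) := (ResidueField.map incl₂).toAlgebra
  letI a₃ : Algebra (ResidueField V) (ResidueField W) := (ResidueField.map incl).toAlgebra
  haveI : Algebra.IsGeometricallyReduced (ResidueField V₂) (ResidueField W₂) := hgr₂ hg'
  have hs₂A : Function.Surjective cA₂ := cen_surjective K (AlgHom.id A K₂) Function.surjective_id V₂ hV₂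
  have hs₂B : Function.Surjective c₂ := cen_surjective L ρ₂ Ideal.Quotient.mk_surjective W₂ hW₂
  let e : ResidueField V₂ ≃+* ResidueField V :=
    (RingHom.quotientKerEquivOfSurjective hs₂A).symm.trans
      ((Ideal.quotEquivOfEq hkerA).trans (RingHom.quotientKerEquivOfSurjective hsurjA))
  let eB : ResidueField W₂ ≃+* ResidueField W :=
    (RingHom.quotientKerEquivOfSurjective hs₂B).symm.trans
      ((Ideal.quotEquivOfEq hker₂).trans (RingHom.quotientKerEquivOfSurjective hsurjB))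
  have he : ∀ x, e (cA₂ x) = cA x := fun x => by
    have : (RingHom.quotientKerEquivOfSurjective hs₂A).symm (cA₂ x) = Ideal.Quotient.mk _ x := by
      rw [RingEquiv.symm_apply_eq]; rfl
    simp only [e, RingEquiv.trans_apply, this]; rfl
  have heB : ∀ x, eB (c₂ x) = cB x := fun x => by
    have : (RingHom.quotientKerEquivOfSurjective hs₂B).symm (c₂ x) = Ideal.Quotient.mk _ x := by
      rw [RingEquiv.symm_apply_eq]; rfl
    simp only [eB, RingEquiv.trans_apply, this]; rfl
  exact Center.geomReduced_transfer e eB fun x => by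
    obtain ⟨x, rfl⟩ := hs₂A x
    show eB (ResidueField.map incl₂ (cA₂ x)) = ResidueField.map incl (e (cA₂ x))
    rw [← hcen₂, heB, he, hcen]

/-- Solutions survive small perturbations. -/
theorem perturbed_isSolution (hB : CAlg.IsNagata B) (K₂ : Type u) [Field K₂] [Algebra K K₂] [FiniteDimensional K K₂]
    [IsReduced (L ⊗[K] K₂)] (hsol : EtRam.IsSolution B K L K₂) (δ : K₂ →ₗ[K] K₂ →ₗ[K] K₂) (t : A)
    (ht : t ∈ maximalIdeal A) :
    ∃ N : ℕ, ∀ (Kf : Type u) [CommRing Kf] [Algebra K Kf] (φ : K₂ ≃ₗ[K] Kf), φ 1 = 1 →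
      (∀ x y, φ x * φ y = φ (x * y) + algebraMap A K (t ^ N) • φ (δ x y)) →
      ∀ (K₃ : Type u) [Field K₃] [Algebra K K₃] (σ : Kf →ₐ[K] K₃), Function.Surjective σ →
        EtRam.IsSolution B K L K₃ := by
  haveI : Module.Finite L (L ⊗[K] K₂) := Module.Finite.base_change K L K₂
  obtain ⟨N, hN⟩ := perturbed (A := A) (B := B) (K := K) (L := L) True K₂ (finite_of_isNagata L hB)
    (fun M _ _ _ _ _ _ hadj W hW => ⟨(hsol M hadj W hW).1, fun _ => (hsol M hadj W hW).2⟩) δ t ht
  exact ⟨N, fun Kf _ _ φ h1 h2 K₃ _ _ σ hσ M _ _ _ _ _ _ hadj W hW =>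
    ⟨(hN N le_rfl Kf φ h1 h2 K₃ σ hσ M hadj W hW).1, (hN N le_rfl Kf φ h1 h2 K₃ σ hσ M hadj W hW).2 trivial⟩⟩

end Groth.Agent.EtRamLib.Step
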