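import Groth.Agent.EtRamLib.PerturbBound
import Mathlib

/-! Lattice data for a base change `L ⊗ K₂` along a perturbation of the multiplication of `K₂`. -/

set_option autoImplicit false
set_option linter.all false
universe u

open IsLocalRing TensorProduct

namespace Groth.Agent.EtRamLib.StepPrep

variable {A B K L : Type u} [CommRing A] [IsDomain A] [IsDiscreteValuationRing A] [CommRing B] [IsDomain B]
  [IsDiscreteValuationRing B] [Algebra A B] [IsLocalHom (algebraMap A B)]
  [Field K] [Field L] [Algebra A K] [IsFractionRing A K] [Algebra B L] [IsFractionRing B L]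
  [Algebra K L] [Algebra A L] [IsScalarTower A K L] [IsScalarTower A B L]

theorem mem_range_of_mem_range (k : K) (b : B) (h : algebraMap K L k = algebraMap B L b) :
    k ∈ Set.range (algebraMap A K) := by
  haveI : ValuationRing A := inferInstance
  rcases ValuationRing.isInteger_or_isInteger A k with h1 | h1
  · exact h1
  obtain ⟨a, ha⟩ := h1
  by_cases hk : k = 0
  · exact ⟨0, by rw [map_zero, hk]⟩
  have hab : algebraMap A B a * b = 1 := IsFractionRing.injective B L (by
    rw [map_mul, map_one, ← h, ← IsScalarTower.algebraMap_apply A B L, IsScalarTower.algebraMap_apply A K L, ← map_mul, ha,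
      inv_mul_cancel₀ hk, map_one])
  have hu : IsUnit a := IsUnit.of_map (algebraMap A B) a (IsUnit.of_mul_eq_one b hab)
  obtain ⟨v, hv⟩ := hu.exists_left_inv
  refine ⟨v, ?_⟩
  have h2 : algebraMap A K v * k⁻¹ = 1 := by rw [← ha, ← map_mul, hv, map_one]
  exact (mul_inv_eq_one₀ hk).mp h2

variable {K₂ R₃ : Type u} [Field K₂] [Algebra K K₂] [FiniteDimensional K K₂] [Algebra A K₂] [IsScalarTower A K K₂]

theorem exists_pow_mul_mem {πA : A} (hπA : πA ∈ maximalIdeal A) (l : L) :
    ∃ n : ℕ, ∀ m, n ≤ m → ∃ b : B, algebraMap A L πA ^ m * l = algebraMap B L b := by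
  obtain ⟨π, hπ⟩ := IsDiscreteValuationRing.exists_irreducible B
  obtain ⟨b1, b2, hb2, rfl⟩ := IsFractionRing.div_surjective B l
  have hb2' : algebraMap B L b2 ≠ 0 := IsFractionRing.to_map_ne_zero_of_mem_nonZeroDivisors hb2
  obtain ⟨n, v, hv⟩ := IsDiscreteValuationRing.eq_unit_mul_pow_irreducible (nonZeroDivisors.ne_zero hb2) hπ
  have hAm : algebraMap A B πA ∈ Ideal.span {π} := by
    rw [← hπ.maximalIdeal_eq]
    exact (mem_maximalIdeal _).mpr fun h => (mem_maximalIdeal _).mp hπA (h.of_map (algebraMap A B))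
  obtain ⟨c, hc⟩ := Ideal.mem_span_singleton.mp hAm
  refine ⟨n, fun m hm => ⟨π ^ (m - n) * c ^ m * (↑(v⁻¹) : B) * b1, ?_⟩⟩
  rw [IsScalarTower.algebraMap_apply A B L, mul_div_assoc', div_eq_iff hb2', ← map_pow, ← map_mul, ← map_mul, hv, hc, mul_pow]
  congr 1
  conv_lhs => rw [← Nat.sub_add_cancel hm, pow_add]
  rw [Nat.sub_add_cancel hm]
  linear_combination (-(π ^ (m - n) * π ^ n * c ^ m * b1)) * v.inv_mul

theorem finite_base (hfin : Module.Finite B (integralClosure B (L ⊗[K] K₂))) :
    Module.Finite A (integralClosure A K₂) := by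
  classical
  obtain ⟨πA, hπA⟩ := IsDiscreteValuationRing.exists_irreducible A
  have hπm : πA ∈ maximalIdeal A := (mem_maximalIdeal _).mpr hπA.not_isUnit
  obtain ⟨S, hS⟩ := Module.Finite.fg_top (R := B) (M := integralClosure B (L ⊗[K] K₂))
  let bK := Module.finBasis K K₂
  let bL := Algebra.TensorProduct.basis L bK
  choose N hN using fun l : L => exists_pow_mul_mem (B := B) hπm l
  let s := (S ×ˢ Finset.univ).sup fun p : integralClosure B (L ⊗[K] K₂) × _ => N (bL.repr (p.1 : L ⊗[K] K₂) p.2)
  have hall : ∀ (y : integralClosure B (L ⊗[K] K₂)) i, ∃ b : B, algebraMap A L πA ^ s * bL.repr (y : L ⊗[K] K₂) i = algebraMap B L b := by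
    intro y i
    have hy : y ∈ Submodule.span B (S : Set (integralClosure B (L ⊗[K] K₂))) := by rw [hS]; trivial
    induction hy using Submodule.span_induction with
    | mem a ha => exact hN _ s (Finset.le_sup (f := fun p : integralClosure B (L ⊗[K] K₂) × _ => N (bL.repr (p.1 : L ⊗[K] K₂) p.2)) (b := (a, i)) (Finset.mk_mem_product ha (Finset.mem_univ i)))
    | zero => exact ⟨0, by simp⟩
    | add a b _ _ ha hb =>
      obtain ⟨c, hc⟩ := ha
      obtain ⟨d, hd⟩ := hb
      exact ⟨c + d, by rw [AddMemClass.coe_add, map_add, Finsupp.add_apply, mul_add, hc, hd, map_add]⟩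
    | smul t a _ ha =>
      obtain ⟨c, hc⟩ := ha
      refine ⟨t * c, ?_⟩
      rw [SetLike.val_smul, ← algebraMap_smul L t (a : L ⊗[K] K₂), map_smul, Finsupp.smul_apply, smul_eq_mul, mul_left_comm, hc, map_mul]
  let i2 : K₂ →+* L ⊗[K] K₂ := (Algebra.TensorProduct.includeRight : K₂ →ₐ[K] L ⊗[K] K₂).toRingHom
  let N' : Submodule A K₂ := Submodule.span A (Set.range bK)
  haveI : Module.Finite A N' := Module.Finite.iff_fg.mpr (Submodule.fg_span (Set.finite_range _))
  have hmem : ∀ x : integralClosure A K₂, algebraMap A K₂ πA ^ s * (x : K₂) ∈ N' := by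
    intro x
    have hint : IsIntegral B (i2 x) := by
      let f : K₂ →ₐ[A] L ⊗[K] K₂ :=
        { i2 with
          commutes' := fun a => by
            show (Algebra.TensorProduct.includeRight : K₂ →ₐ[K] L ⊗[K] K₂) (algebraMap A K₂ a) = _
            rw [IsScalarTower.algebraMap_apply A K K₂, AlgHom.commutes, IsScalarTower.algebraMap_apply K L,
              ← IsScalarTower.algebraMap_apply A K L, ← IsScalarTower.algebraMap_apply A L] }
      exact (x.2.map f).tower_top
    rw [← bK.sum_repr (algebraMap A K₂ πA ^ s * (x : K₂))]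
    refine Submodule.sum_mem _ fun i _ => ?_
    obtain ⟨b, hb⟩ := hall ⟨i2 x, hint⟩ i
    have hk : algebraMap K L (bK.repr (algebraMap A K₂ πA ^ s * (x : K₂)) i) = algebraMap B L b := by
      rw [← hb, ← map_pow, IsScalarTower.algebraMap_apply A K K₂, ← Algebra.smul_def, map_smul, Finsupp.smul_apply,
        smul_eq_mul, map_mul, ← IsScalarTower.algebraMap_apply A K L, map_pow]
      congr 1
      show _ = bL.repr (1 ⊗ₜ (x : K₂)) i
      rw [Algebra.TensorProduct.basis_repr_tmul]
      simp
    obtain ⟨a, ha⟩ := mem_range_of_mem_range (A := A) _ b hk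
    rw [← ha, algebraMap_smul]
    exact N'.smul_mem a (Submodule.subset_span ⟨i, rfl⟩)
  refine Module.Finite.of_injective
    ({ toFun := fun x => ⟨_, hmem x⟩
       map_add' := fun x y => Subtype.ext (mul_add _ _ _)
       map_smul' := fun a x => Subtype.ext (mul_smul_comm a _ _) } : integralClosure A K₂ →ₗ[A] N') ?_
  intro x y h
  refine Subtype.ext (mul_left_cancel₀ (pow_ne_zero s fun h0 => hπA.ne_zero ?_) (congrArg Subtype.val h))
  rw [IsScalarTower.algebraMap_apply A K K₂] at h0
  exact IsFractionRing.injective A K (((algebraMap K K₂).injective (h0.trans (map_zero _).symm)).trans (map_zero _).symm)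

end Groth.Agent.EtRamLib.StepPrep
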