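import Groth.Agent.HenselLib.HullDVR
import Groth.Agent.EtRamLib.WeakSol
import Groth.Agent.FlatMorGeom.ClosedPointsFibre
import Mathlib.RingTheory.Unramified.Field
import Mathlib.LinearAlgebra.TensorProduct.Basis

/-!
# Tools for the reflection of solutions along strict henselizations
-/

set_option autoImplicit false
set_option linter.all false
universe u

open IsLocalRing TensorProduct Polynomial

namespace Groth.Agent.EtRamLib.StrictReflect

/-- A valuation subring of an algebraically closed field is henselian. -/
theorem henselianLocalRing_valuationSubring {Ω : Type u} [Field Ω] [IsAlgClosed Ω]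
    (V : ValuationSubring Ω) : HenselianLocalRing V := by
  refine { is_henselian := fun f hf a₀ h₁ _ => ?_ }
  have hmon := hf.map (algebraMap V Ω)
  have hroot : ∀ r ∈ (f.map (algebraMap V Ω)).roots, ∃ y : V, algebraMap V Ω y = r := fun r hr => by
    have hint : IsIntegral V r := ⟨f, hf, by
      rw [eval₂_eq_eval_map]; exact (mem_roots hmon.ne_zero).mp hr⟩
    exact IsIntegrallyClosed.isIntegral_iff.1 hint
  by_contra hcon
  push Not at hcon
  have heval : algebraMap V Ω (f.eval a₀) =
      ((f.map (algebraMap V Ω)).roots.map fun r => algebraMap V Ω a₀ - r).prod := by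
    rw [← eval_map_apply]
    conv_lhs => rw [(IsAlgClosed.splits (f.map (algebraMap V Ω))).eq_prod_roots_of_monic hmon]
    rw [eval_multiset_prod, Multiset.map_map]
    congr 1
    refine Multiset.map_congr rfl fun r _ => ?_
    simp
  have hval : ∀ r ∈ (f.map (algebraMap V Ω)).roots, V.valuation (algebraMap V Ω a₀ - r) = 1 := by
    intro r hr
    obtain ⟨y, rfl⟩ := hroot r hr
    have hy : f.IsRoot y := by
      refine IsFractionRing.injective V Ω ?_
      rw [map_zero, ← eval_map_apply]
      exact (mem_roots hmon.ne_zero).mp hr
    have hu : IsUnit (a₀ - y) := by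
      by_contra hnu
      refine hcon y hy ?_
      rw [show y - a₀ = -(a₀ - y) by ring]
      exact neg_mem ((mem_maximalIdeal _).mpr hnu)
    rw [← map_sub]
    exact (V.valuation_eq_one_iff _).mp hu
  have h1 : V.valuation (algebraMap V Ω (f.eval a₀)) < 1 := (V.valuation_lt_one_iff _).mp h₁
  rw [heval, map_multiset_prod, Multiset.map_map, Multiset.prod_eq_one fun v hv => ?_] at h1
  · exact lt_irrefl 1 h1
  · obtain ⟨r, hr, rfl⟩ := Multiset.mem_map.mp hv
    exact hval r hr

/-- A valuation subring dominating a discrete valuation ring in a finite extension is discrete. -/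
theorem isDVR_of_dominates {A K F : Type u} [CommRing A] [IsDomain A] [IsDiscreteValuationRing A]
    [Field K] [Algebra A K] [IsFractionRing A K] [Field F] [Algebra K F] [FiniteDimensional K F]
    [Algebra A F] [IsScalarTower A K F] (V : ValuationSubring F) (hV : DegP.Dom A V) :
    IsDiscreteValuationRing V := by
  classical
  obtain ⟨π, hπ⟩ := IsDiscreteValuationRing.exists_irreducible A
  have hG0 := DegP.vpi_pos (K := K) (V := V) hπ
  have hG1 := DegP.vpi_lt_one hπ hV
  set G := V.valuation (algebraMap A F π) with hG
  set d := (Module.finrank K F).factorial with hd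
  have hd0 : d ≠ 0 := Nat.factorial_ne_zero _
  have key : ∀ x : F, x ≠ 0 → ∃ n : ℤ, V.valuation x ^ d = G ^ n := by
    intro x hx
    obtain ⟨l, m, hl, hle, h⟩ := WeakSol.values (K := K) (K₁ := F) (M := F) hπ hV hx
    obtain ⟨q, hq⟩ : l ∣ d := Nat.dvd_factorial hl hle
    refine ⟨m * q, ?_⟩
    rw [hq, pow_mul, zpow_mul, zpow_natCast]
    exact congrArg (· ^ q) h
  choose! ord hord using key
  have hnonneg : ∀ x : V, x ≠ 0 → 0 ≤ ord x := by
    intro x hx
    have hx' : (x : F) ≠ 0 := fun h => hx (Subtype.ext h)
    by_contra hlt
    have h1 : G ^ (0 : ℤ) < G ^ ord x := zpow_right_strictAnti₀ hG0 hG1 (not_le.mp hlt)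
    rw [← hord _ hx', zpow_zero] at h1
    exact h1.not_ge (pow_le_one₀ zero_le' (V.valuation_le_one x))
  have hdvd : ∀ a b : V, a ≠ 0 → b ≠ 0 → ord a ≤ ord b → a ∣ b := by
    intro a b ha hb hab
    have ha' : (a : F) ≠ 0 := fun h => ha (Subtype.ext h)
    have hb' : (b : F) ≠ 0 := fun h => hb (Subtype.ext h)
    have hle : V.valuation (b : F) ≤ V.valuation (a : F) := by
      refine (pow_le_pow_iff_left₀ zero_le' zero_le' hd0).mp ?_
      rw [hord _ ha', hord _ hb']
      exact (zpow_right_strictAnti₀ hG0 hG1).antitone hab
    have hmem : (b : F) / a ∈ V := by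
      rw [← V.valuation_le_one_iff, map_div₀]
      exact div_le_one_of_le₀ hle zero_le'
    exact ⟨⟨_, hmem⟩, Subtype.ext (mul_div_cancel₀ _ ha').symm⟩
  have hpid : IsPrincipalIdealRing V := by
    refine ⟨fun I => ?_⟩
    by_cases hI : I = ⊥
    · exact ⟨⟨0, by simp [hI]⟩⟩
    obtain ⟨a, haI, ha⟩ := Submodule.exists_mem_ne_zero_of_ne_bot hI
    have hex : ∃ n : ℕ, ∃ b ∈ I, b ≠ 0 ∧ (ord b).toNat = n := ⟨_, a, haI, ha, rfl⟩
    obtain ⟨b, hbI, hb, hbn⟩ := Nat.find_spec hex
    refine ⟨⟨b, le_antisymm (fun c hc => ?_) ((Submodule.span_singleton_le_iff_mem _ _).2 hbI)⟩⟩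
    by_cases hc0 : c = 0
    · rw [hc0]; exact zero_mem _
    · refine Ideal.mem_span_singleton.2 (hdvd b c hb hc0 ?_)
      have := hbn ▸ Nat.find_min' hex ⟨c, hc, hc0, rfl⟩
      have := hnonneg b hb
      have := hnonneg c hc0
      omega
  refine { hpid with not_a_field' := fun hbot => ?_ }
  have hmem : (⟨algebraMap A F π, hV.1 π⟩ : V) ∈ maximalIdeal V := (V.valuation_lt_one_iff _).mpr hG1
  rw [hbot, Ideal.mem_bot] at hmem
  exact hG0.ne' ((Valuation.zero_iff _).mpr (congrArg Subtype.val hmem))

/-- Geometric reducedness descends along separable algebraic extensions of the base. -/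
theorem geomReduced_trans (k k' l : Type u) [Field k] [Field k'] [Field l] [Algebra k k'] [Algebra k l]
    [Algebra k' l] [IsScalarTower k k' l] [Algebra.IsSeparable k k'] [Algebra.IsGeometricallyReduced k' l] :
    Algebra.IsGeometricallyReduced k l := by
  classical
  rw [Algebra.isGeometricallyReduced_field_iff]
  let Ω := AlgebraicClosure k
  haveI hgr : Algebra.IsGeometricallyReduced k k' := by
    refine Algebra.IsGeometricallyReduced.of_forall_fg fun B hB => ?_
    obtain ⟨s, rfl⟩ := hB
    let E := IntermediateField.adjoin k (s : Set k')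
    haveI : FiniteDimensional k E :=
      IntermediateField.finiteDimensional_adjoin fun x _ => Algebra.IsIntegral.isIntegral x
    haveI : Algebra.IsSeparable k E := Algebra.isSeparable_tower_bot_of_isSeparable k E k'
    haveI : Algebra.IsGeometricallyReduced k E := by
      rw [Algebra.isGeometricallyReduced_field_iff]
      haveI : Algebra.FormallyEtale k E := Algebra.FormallyEtale.of_isSeparable k E
      haveI : Algebra.FinitePresentation k E := Algebra.FinitePresentation.of_finiteType.mp inferInstance
      haveI : Algebra.Etale k E := ⟨inferInstance, inferInstance⟩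
      exact HenselLib.isReduced_of_etale (AlgebraicClosure k) (AlgebraicClosure k ⊗[k] E)
    exact Algebra.IsGeometricallyReduced.of_injective (B := E)
      (Subalgebra.inclusion (IntermediateField.algebra_adjoin_le_adjoin k (s : Set k'))) (Subalgebra.inclusion_injective _)
  let R := k' ⊗[k] Ω
  haveI : IsReduced R := by
    haveI : IsReduced (Ω ⊗[k] k') := inferInstance
    exact isReduced_of_injective _ (Algebra.TensorProduct.comm k k' Ω).injective
  haveI : Algebra.IsIntegral k' R := inferInstance
  let b := Module.Free.chooseBasis k' l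
  have hred : IsReduced (R ⊗[k'] l) := by
    refine ⟨fun z hz => ?_⟩
    have hcoord : ∀ i, TensorProduct.equivFinsuppOfBasisRight b z i = 0 := by
      intro i
      refine IsNilpotent.eq_zero (show _ ∈ nilradical R from ?_)
      rw [nilradical_eq_sInf, Ideal.mem_sInf]
      intro P hP
      haveI : P.IsPrime := hP
      haveI : Algebra.IsIntegral k' (R ⧸ P) := inferInstance
      letI : Field (R ⧸ P) :=
        (isField_of_isIntegral_of_isField' (R := k') (S := R ⧸ P) (Field.toIsField k')).toField
      haveI : Algebra.IsAlgebraic k' (R ⧸ P) := Algebra.IsIntegral.isAlgebraic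
      let q : R →ₐ[k'] R ⧸ P := Ideal.Quotient.mkₐ k' P
      have h0 : Algebra.TensorProduct.map q (AlgHom.id k' l) z = 0 :=
        IsNilpotent.eq_zero (hz.map (Algebra.TensorProduct.map q (AlgHom.id k' l)))
      have hnat : ∀ w : R ⊗[k'] l, TensorProduct.equivFinsuppOfBasisRight b
          (Algebra.TensorProduct.map q (AlgHom.id k' l) w) i =
            q (TensorProduct.equivFinsuppOfBasisRight b w i) := by
        intro w
        induction w using TensorProduct.induction_on with
        | zero => simp
        | tmul r x =>
          rw [Algebra.TensorProduct.map_tmul, TensorProduct.equivFinsuppOfBasisRight_apply_tmul_apply,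
            TensorProduct.equivFinsuppOfBasisRight_apply_tmul_apply, map_smul]
          rfl
        | add x y hx hy => simp only [map_add, Finsupp.add_apply, hx, hy]
      have h1 := hnat z
      rw [h0, map_zero, Finsupp.zero_apply] at h1
      exact Ideal.Quotient.eq_zero_iff_mem.mp h1.symm
    exact (TensorProduct.equivFinsuppOfBasisRight b).injective (Finsupp.ext fun i => by
      rw [hcoord i, map_zero, Finsupp.zero_apply])
  haveI : IsReduced (l ⊗[k'] (k' ⊗[k] Ω)) :=
    isReduced_of_injective _ (Algebra.TensorProduct.comm k' l R).injective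
  haveI : IsReduced (l ⊗[k] Ω) :=
    isReduced_of_injective _ (Algebra.TensorProduct.cancelBaseChange k k' k' l Ω).symm.injective
  exact isReduced_of_injective _ (Algebra.TensorProduct.comm k Ω l).injective

section SH

open HenselLib

variable (A : Type u) [CommRing A] [IsDomain A] [IsDiscreteValuationRing A]

/-- The strict henselization of a discrete valuation ring is one. -/
theorem exists_isDVR_localSH : ∃ _ : IsDomain (LocalSH A), IsDiscreteValuationRing (LocalSH A) := by
  haveI : IsNoetherianRing (LocalSH A) := isNoetherianRing_localSH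
  exact (exists_isDVR_iff_of_flat map_maximalIdeal_localSH ringKrullDim_hull).mp ⟨inferInstance, inferInstance⟩

theorem injective_localSH : Function.Injective (algebraMap A (LocalSH A)) :=
  FaithfulSMul.algebraMap_injective _ _

/-- The fraction field of the strict henselization is separable algebraic. -/
theorem isSeparable_fractionRing_localSH [IsDomain (LocalSH A)] (K : Type u) [Field K] [Algebra A K]
    [IsFractionRing A K] (K' : Type u) [Field K'] [Algebra (LocalSH A) K'] [IsFractionRing (LocalSH A) K']
    [Algebra A K'] [IsScalarTower A (LocalSH A) K'] [Algebra K K'] [IsScalarTower A K K'] :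
    Algebra.IsSeparable K K' := by
  have hgen : ∀ x : LocalSH A, IsSeparable K (algebraMap (LocalSH A) K' x) := by
    intro x
    obtain ⟨P, y, rfl⟩ := exists_rep x
    letI : CommRing P.Ring := inferInstance
    let ψ : K ⊗[A] P.Ring →ₐ[K] K' := Algebra.TensorProduct.lift (Algebra.ofId K K')
      ((IsScalarTower.toAlgHom A (LocalSH A) K').comp (ι P)) fun _ _ => Commute.all _ _
    haveI : Algebra.Etale K (K ⊗[A] P.Ring) := inferInstance
    haveI : Module.Finite K (K ⊗[A] P.Ring) := Algebra.FormallyUnramified.finite_of_free K _
    haveI : Module.Finite K ψ.range := Module.Finite.of_surjective ψ.rangeRestrict.toLinearMap ψ.rangeRestrict_surjective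
    haveI : Algebra.FormallyUnramified K ψ.range :=
      Algebra.FormallyUnramified.of_surjective ψ.rangeRestrict ψ.rangeRestrict_surjective
    letI : Field ψ.range := (isField_of_isIntegral_of_isField' (R := K) (S := ψ.range) (Field.toIsField K)).toField
    haveI : Algebra.IsSeparable K ψ.range := Algebra.FormallyUnramified.isSeparable K ψ.range
    have hmem : algebraMap (LocalSH A) K' (ι P y) ∈ ψ.range := ⟨1 ⊗ₜ y, by simp [ψ]⟩
    have h := Algebra.IsSeparable.isSeparable K (⟨_, hmem⟩ : ψ.range)
    unfold IsSeparable at h ⊢
    rwa [← minpoly.algHom_eq ψ.range.val Subtype.val_injective] at h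
  refine ⟨fun z => ?_⟩
  obtain ⟨a, b, -, rfl⟩ := IsFractionRing.div_surjective (A := LocalSH A) z
  exact mem_separableClosure_iff.mp (div_mem (mem_separableClosure_iff.mpr (hgen a)) (mem_separableClosure_iff.mpr (hgen b)))

end SH

/-- An element separable over the base lies in every separably closed intermediate field. -/
theorem mem_range_of_isSeparable {k F E : Type u} [Field k] [Field F] [Field E] [Algebra k F] [Algebra k E]
    [Algebra F E] [IsScalarTower k F E] [IsSepClosed F] {x : E} (hx : IsSeparable k x) :
    x ∈ Set.range (algebraMap F E) := by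
  have hxF : IsSeparable F x := hx.tower_top F
  have hdeg := IsSepClosed.degree_eq_one_of_irreducible F (minpoly.irreducible hxF.isIntegral) hxF
  exact minpoly.mem_range_of_degree_eq_one F x hdeg

end Groth.Agent.EtRamLib.StrictReflect
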