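import Groth.Agent.EtRamLib.StrictReflectTools
import Groth.Agent.S1983

/-!
# Reflection of solutions along strict henselizations
-/

set_option autoImplicit false
set_option linter.all false
set_option maxHeartbeats 1000000
universe u

open IsLocalRing Polynomial
open Groth.Agent.HenselLib

namespace Groth.Agent.EtRamLib.StrictReflect

/-- An intermediate field generated by algebraic elements is generated as an algebra. -/
theorem adjoin_eq_top_of {F Ω : Type u} [Field F] [Field Ω] [Algebra F Ω] (T : Set Ω)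
    (hT : ∀ x ∈ T, IsAlgebraic F x) (S : Set (IntermediateField.adjoin F T))
    (hS : ∀ x : IntermediateField.adjoin F T, (x : Ω) ∈ T → x ∈ S) : Algebra.adjoin F S = ⊤ := by
  let E := IntermediateField.adjoin F T
  refine top_le_iff.mp fun x _ => ?_
  have hx : (x : Ω) ∈ Algebra.adjoin F T := by
    rw [← IntermediateField.adjoin_toSubalgebra_of_isAlgebraic hT]; exact x.2
  have hle : Algebra.adjoin F T ≤ (Algebra.adjoin F S).map E.val := by
    refine Algebra.adjoin_le fun t ht => ?_
    exact ⟨⟨t, IntermediateField.subset_adjoin F T ht⟩, Algebra.subset_adjoin (hS _ ht), rfl⟩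
  obtain ⟨y, hy, hyx⟩ := hle hx
  rwa [show x = y from Subtype.ext hyx.symm]

/-- The key step: a local extension over `K₁` is compared with a strict henselian one. -/
theorem local_step {A B K L K' L' K₁' K₁ M Ω : Type u} [CommRing A] [IsDomain A] [IsDiscreteValuationRing A]
    [CommRing B] [IsDomain B] [IsDiscreteValuationRing B]
    [Field K] [Field L] [Algebra A K] [IsFractionRing A K]
    [IsDomain (LocalSH A)] [IsDiscreteValuationRing (LocalSH A)]
    [IsDomain (LocalSH B)] [IsDiscreteValuationRing (LocalSH B)]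
    [Field K'] [Field L'] [Algebra (LocalSH A) K'] [IsFractionRing (LocalSH A) K']
    [Algebra (LocalSH B) L'] [IsFractionRing (LocalSH B) L'] [Algebra K' L']
    [Field K₁'] [Algebra K' K₁'] [FiniteDimensional K' K₁'] (hsol : EtRam.IsSolution (LocalSH B) K' L' K₁')
    [Field K₁] [Algebra K K₁] [FiniteDimensional K K₁]
    [Field M] [Field Ω] [IsAlgClosed Ω] [Algebra K M] [Algebra L M] [Algebra K₁ M] [IsScalarTower K K₁ M]
    [Algebra M Ω] [Algebra A M] [IsScalarTower A K M]
    (hadj : Algebra.adjoin L (Set.range (algebraMap K₁ M)) = ⊤)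
    (W : ValuationSubring M) (hWA : DegP.Dom A W)
    (Wb : ValuationSubring Ω) (hWb : Wb.comap (algebraMap M Ω) = W)
    [Algebra K' Ω] [Algebra L' Ω] [IsScalarTower K' L' Ω]
    (hA : LocalSH A →+* Wb) [IsLocalHom hA] (hAK : ∀ x, (hA x : Ω) = algebraMap K' Ω (algebraMap (LocalSH A) K' x))
    (hB : LocalSH B →+* Wb) [IsLocalHom hB] (hBL : ∀ x, (hB x : Ω) = algebraMap L' Ω (algebraMap (LocalSH B) L' x))
    (hKK' : ∀ a : A, (hA (algebraMap A (LocalSH A) a) : Ω) = algebraMap M Ω (algebraMap A M a))
    (hKΩ : ∀ k : K, algebraMap M Ω (algebraMap K M k) ∈ (algebraMap K' Ω).range)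
    (hLΩ : ∀ l : L, algebraMap M Ω (algebraMap L M l) ∈ (algebraMap L' Ω).range)
    (e : K₁' →ₐ[K'] Ω) {ι : Type u} [Fintype ι] (b : Module.Basis ι K' K₁')
    (hb : ∀ i, e (b i) ∈ Set.range ((algebraMap M Ω).comp (algebraMap K₁ M))) :
    letI : Algebra (W.comap (algebraMap K₁ M)) W := (EtRam.inclOfComap W (algebraMap K₁ M)).toAlgebra
    EtRam.IsWeaklyUnramified (W.comap (algebraMap K₁ M)) W ∧
      @Algebra.IsGeometricallyReduced (ResidueField (W.comap (algebraMap K₁ M))) (ResidueField W) _ _
        (ResidueField.map (EtRam.inclOfComap W (algebraMap K₁ M))).toAlgebra := by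
  classical
  letI aUW : Algebra (W.comap (algebraMap K₁ M)) W := (EtRam.inclOfComap W (algebraMap K₁ M)).toAlgebra
  let f := algebraMap K₁ M
  let ψ : K₁ →+* Ω := (algebraMap M Ω).comp f
  have hKψ : ∀ k : K, ψ (algebraMap K K₁ k) = algebraMap M Ω (algebraMap K M k) := fun k => by
    simp [ψ, f, ← IsScalarTower.algebraMap_apply]
  -- the strict henselization of `U`
  letI : Algebra A K₁ := ((algebraMap K K₁).comp (algebraMap A K)).toAlgebra
  haveI : IsScalarTower A K K₁ := IsScalarTower.of_algebraMap_eq fun _ => rfl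
  have hAf : ∀ a, f (algebraMap A K₁ a) = algebraMap A M a := fun a => by
    show f (algebraMap K K₁ (algebraMap A K a)) = _
    rw [← IsScalarTower.algebraMap_apply, ← IsScalarTower.algebraMap_apply]
  let U := W.comap f
  have hUdom : DegP.Dom A U := ⟨fun a => by
      rw [ValuationSubring.mem_comap, hAf]; exact hWA.1 a,
    fun a ha => by
      rw [comap_lt_one_iff, hAf]; exact hWA.2 a ha⟩
  haveI hUd : IsDiscreteValuationRing U := isDVR_of_dominates (K := K) U hUdom
  have hψU : ∀ x : U, ψ x ∈ Wb := fun x => by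
    have : f (x : K₁) ∈ Wb.comap (algebraMap M Ω) := hWb.symm ▸ x.2
    exact this
  let gU : U →+* Wb := (ψ.comp U.subtype).codRestrict Wb.toSubring hψU
  have hgU : Function.Injective gU := fun x y h => Subtype.ext (ψ.injective (congrArg Subtype.val h))
  haveI : IsLocalHom gU := ⟨fun x hx => by
    by_contra hnu
    have h1 : U.valuation (x : K₁) < 1 := (U.valuation_lt_one_iff _).mp ((mem_maximalIdeal x).mpr hnu)
    rw [comap_lt_one_iff] at h1
    have h2 : (Wb.comap (algebraMap M Ω)).valuation (f x) < 1 := by rw [hWb]; exact h1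
    rw [comap_lt_one_iff] at h2
    exact h2.ne ((Wb.valuation_eq_one_iff (gU x)).mp hx)⟩
  obtain ⟨hU, hUloc, hUinj, hUg⟩ := exists_embedding Wb gU hgU
  obtain ⟨_, hUsh⟩ := exists_isDVR_localSH U
  have hUg' : ∀ x : U, (hU (algebraMap U (LocalSH U) x) : Ω) = ψ x := fun x => congrArg Subtype.val congr($hUg x)
  let gA : A →+* U := (algebraMap A K₁).codRestrict U.toSubring hUdom.1
  haveI : IsLocalHom gA := ⟨fun a ha => by
    by_contra hnu
    exact (hUdom.2 a ((mem_maximalIdeal a).mpr hnu)).ne ((U.valuation_eq_one_iff (gA a)).mp ha)⟩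
  have hrange : hA.range ≤ hU.range := range_le Wb gA hA hU (RingHom.ext fun a => Subtype.ext (by
    show (hA (algebraMap A (LocalSH A) a) : Ω) = (hU (algebraMap U (LocalSH U) (gA a)) : Ω)
    rw [hKK', hUg']
    show _ = algebraMap M Ω (f (algebraMap A K₁ a))
    rw [hAf]))
  let hUΩ : LocalSH U →+* Ω := Wb.subtype.comp hU
  have hUΩinj : Function.Injective hUΩ := fun x y h => hUinj (Subtype.ext h)
  let FU : FractionRing (LocalSH U) →+* Ω := IsFractionRing.lift hUΩinj
  have hFU : ∀ y, FU (algebraMap (LocalSH U) (FractionRing (LocalSH U)) y) = hUΩ y :=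
    IsFractionRing.lift_algebraMap hUΩinj
  have hψFU : ∀ x : K₁, ψ x ∈ FU.fieldRange := fun x => by
    rcases U.mem_or_inv_mem x with h | h
    · exact ⟨algebraMap _ _ (algebraMap U (LocalSH U) ⟨x, h⟩), by rw [hFU]; exact hUg' ⟨x, h⟩⟩
    · rw [← inv_inv x, map_inv₀]
      exact inv_mem ⟨algebraMap _ _ (algebraMap U (LocalSH U) ⟨_, h⟩), by rw [hFU]; exact hUg' ⟨_, h⟩⟩
  have hK'FU : ∀ x : K', algebraMap K' Ω x ∈ FU.fieldRange := fun x => by
    obtain ⟨a, c, -, rfl⟩ := IsFractionRing.div_surjective (A := LocalSH A) x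
    have : ∀ a, algebraMap K' Ω (algebraMap (LocalSH A) K' a) ∈ FU.fieldRange := fun a => by
      obtain ⟨y, hy⟩ := hrange ⟨a, rfl⟩
      exact ⟨algebraMap _ _ y, by rw [hFU, ← hAK]; exact congrArg Subtype.val hy⟩
    rw [map_div₀]; exact div_mem (this a) (this c)
  -- the fields
  letI : Algebra K₁' Ω := e.toRingHom.toAlgebra
  haveI : IsScalarTower K' K₁' Ω := IsScalarTower.of_algebraMap_eq fun x => (e.commutes x).symm
  have he : ∀ x, e x = ∑ i, algebraMap K' Ω (b.repr x i) * e (b i) := fun x => by
    conv_lhs => rw [← b.sum_repr x]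
    simp [map_sum, Algebra.smul_def]
  have halg' : ∀ x, IsIntegral K' (e x) := fun x => (Algebra.IsIntegral.isIntegral (R := K') x).map e
  let T' : Set Ω := Set.range fun i => e (b i)
  haveI : Finite T' := Set.finite_range _ |>.to_subtype
  let M' := IntermediateField.adjoin L' T'
  have heM' : ∀ x, e x ∈ M' := fun x => by
    rw [he x]
    refine sum_mem fun i _ => mul_mem ?_ (IntermediateField.subset_adjoin L' T' ⟨i, rfl⟩)
    rw [IsScalarTower.algebraMap_apply K' L' Ω]
    exact M'.algebraMap_mem _
  haveI : FiniteDimensional L' M' := IntermediateField.finiteDimensional_adjoin fun x hx => by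
    obtain ⟨i, rfl⟩ := hx
    exact (halg' (b i)).tower_top
  letI : Algebra K₁' M' := (e.toRingHom.codRestrict M'.toSubfield.toSubring heM').toAlgebra
  letI : Algebra K' M' := ((algebraMap L' M').comp (algebraMap K' L')).toAlgebra
  haveI : IsScalarTower K' L' M' := IsScalarTower.of_algebraMap_eq fun _ => rfl
  haveI : IsScalarTower K' K₁' M' := IsScalarTower.of_algebraMap_eq fun x => Subtype.ext (by
    show algebraMap L' Ω (algebraMap K' L' x) = e (algebraMap K' K₁' x)
    rw [e.commutes, ← IsScalarTower.algebraMap_apply])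
  have hadj' : Algebra.adjoin L' (Set.range (algebraMap K₁' M')) = ⊤ :=
    adjoin_eq_top_of T' (fun x hx => by
      obtain ⟨i, rfl⟩ := hx
      exact ((halg' (b i)).tower_top (A := L')).isAlgebraic) _ fun x hx => by
      obtain ⟨i, hi⟩ := hx
      exact ⟨b i, Subtype.ext hi⟩
  let W' := Wb.comap (algebraMap M' Ω)
  have hW' : EtRam.Dominates (LocalSH B) ((algebraMap L' M').comp (algebraMap (LocalSH B) L')) W' := by
    refine ⟨fun x => ?_, fun x hx => ?_⟩
    · show algebraMap L' Ω (algebraMap (LocalSH B) L' x) ∈ Wb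
      rw [← hBL]; exact (hB x).2
    · rw [comap_lt_one_iff]
      show Wb.valuation (algebraMap L' Ω (algebraMap (LocalSH B) L' x)) < 1
      rw [← hBL]
      exact (Wb.valuation_lt_one_iff _).mp ((mem_maximalIdeal _).mpr fun hu =>
        (mem_maximalIdeal x).mp hx (isUnit_of_map_unit hB x hu))
  obtain ⟨hw', hgr'⟩ := hsol M' hadj' W' hW'
  letI : Algebra (LocalSH B) M' := ((algebraMap L' M').comp (algebraMap (LocalSH B) L')).toAlgebra
  haveI : IsScalarTower (LocalSH B) L' M' := IsScalarTower.of_algebraMap_eq fun _ => rfl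
  haveI : IsDiscreteValuationRing W' := isDVR_of_dominates (K := L') W' hW'
  let V' := W'.comap (algebraMap K₁' M')
  letI : Algebra (LocalSH A) K₁' := ((algebraMap K' K₁').comp (algebraMap (LocalSH A) K')).toAlgebra
  haveI : IsScalarTower (LocalSH A) K' K₁' := IsScalarTower.of_algebraMap_eq fun _ => rfl
  have hV'dom : DegP.Dom (LocalSH A) V' := by
    have h0 : ∀ a, ((algebraMap K₁' M' (algebraMap (LocalSH A) K₁' a) : M') : Ω) = hA a := fun a => by
      show e (algebraMap K' K₁' _) = _
      rw [e.commutes, hAK]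
    refine ⟨fun a => ?_, fun a ha => ?_⟩
    · show ((algebraMap K₁' M' (algebraMap (LocalSH A) K₁' a) : M') : Ω) ∈ Wb
      rw [h0]; exact (hA a).2
    · rw [comap_lt_one_iff, comap_lt_one_iff]
      show Wb.valuation ((algebraMap K₁' M' (algebraMap (LocalSH A) K₁' a) : M') : Ω) < 1
      rw [h0]
      exact (Wb.valuation_lt_one_iff _).mp ((mem_maximalIdeal _).mpr fun hu =>
        (mem_maximalIdeal a).mp ha (isUnit_of_map_unit hA a hu))
  haveI : IsDiscreteValuationRing V' := isDVR_of_dominates (K := K') V' hV'dom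
  letI aV'W' : Algebra V' W' := (EtRam.inclOfComap W' (algebraMap K₁' M')).toAlgebra
  letI : Algebra V' M' := ((algebraMap K₁' M').comp (algebraMap V' K₁')).toAlgebra
  haveI : IsScalarTower V' K₁' M' := IsScalarTower.of_algebraMap_eq fun _ => rfl
  haveI : IsScalarTower V' W' M' := IsScalarTower.of_algebraMap_eq fun _ => rfl
  haveI : IsLocalHom (algebraMap V' W') := EtRam.isLocalHom_inclOfComap W' _
  haveI : Algebra.IsGeometricallyReduced (ResidueField V') (ResidueField W') := by
    convert hgr' using 1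
    exact Algebra.algebra_ext _ _ fun x => by obtain ⟨a, rfl⟩ := residue_surjective x; rfl
  -- the finite extension `F`
  let b1 := Module.finBasis K K₁
  let T : Set Ω := Set.range fun i => ψ (b1 i)
  haveI : Finite T := Set.finite_range _ |>.to_subtype
  have hTint : ∀ x ∈ T, IsIntegral K' x := fun x hx => by
    obtain ⟨i, rfl⟩ := hx
    obtain ⟨p, hp, hp0⟩ := Algebra.IsIntegral.isIntegral (R := K) (b1 i)
    obtain ⟨q, hq, -, hqm⟩ := lifts_and_degree_eq_and_monic (f := algebraMap K' Ω)
      ((lifts_iff_coeff_lifts _).mpr fun n => by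
        rw [coeff_map]; exact hKψ (p.coeff n) ▸ hKΩ (p.coeff n)) (hp.map (ψ.comp (algebraMap K K₁)))
    refine ⟨q, hqm, ?_⟩
    rw [← eval_map, hq, eval_map, ← hom_eval₂, hp0, map_zero]
  let F := IntermediateField.adjoin K' T
  haveI : FiniteDimensional K' F := IntermediateField.finiteDimensional_adjoin hTint
  have hψF : ∀ x, ψ x ∈ F := fun x => by
    rw [← b1.sum_repr x, map_sum]
    refine sum_mem fun i _ => ?_
    rw [Algebra.smul_def, map_mul]
    refine mul_mem ?_ (IntermediateField.subset_adjoin K' T ⟨i, rfl⟩)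
    obtain ⟨y, hy⟩ := hKΩ (b1.repr x i)
    rw [hKψ, ← hy]; exact F.algebraMap_mem y
  have heF : ∀ x, e x ∈ F := fun x => by
    rw [he x]
    refine sum_mem fun i _ => mul_mem (F.algebraMap_mem _) ?_
    obtain ⟨y, hy⟩ := hb i
    rw [← hy]; exact hψF y
  letI : Algebra K₁' F := (e.toRingHom.codRestrict F.toSubfield.toSubring heF).toAlgebra
  haveI : IsScalarTower K' K₁' F := IsScalarTower.of_algebraMap_eq fun x => Subtype.ext (e.commutes x).symm
  haveI : FiniteDimensional K₁' F := Module.Finite.of_restrictScalars_finite K' K₁' F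
  let M'' := IntermediateField.adjoin M' T
  have hFM : ∀ x ∈ F, x ∈ M'' := fun x hx => by
    induction hx using IntermediateField.adjoin_induction with
    | mem x hx => exact IntermediateField.subset_adjoin _ T hx
    | algebraMap x =>
      rw [IsScalarTower.algebraMap_apply K' L' Ω]
      exact M''.algebraMap_mem (algebraMap L' M' _)
    | add x y _ _ hx hy => exact add_mem hx hy
    | inv x _ hx => exact inv_mem hx
    | mul x y _ _ hx hy => exact mul_mem hx hy
  letI : Algebra F M'' := (F.val.toRingHom.codRestrict M''.toSubfield.toSubring fun x => hFM x x.2).toAlgebra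
  letI : Algebra K₁' M'' := ((algebraMap M' M'').comp (algebraMap K₁' M')).toAlgebra
  haveI : IsScalarTower K₁' M' M'' := IsScalarTower.of_algebraMap_eq fun _ => rfl
  haveI : IsScalarTower K₁' F M'' := IsScalarTower.of_algebraMap_eq fun _ => rfl
  have hadj'' : Algebra.adjoin M' (Set.range (algebraMap F M'')) = ⊤ :=
    adjoin_eq_top_of T (fun x hx => ((hTint x hx).tower_top (A := L')).tower_top.isAlgebraic) _
      fun x hx => ⟨⟨x, IntermediateField.subset_adjoin K' T hx⟩, rfl⟩
  let W'' := Wb.comap (algebraMap M'' Ω)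
  have hW'' : EtRam.Dominates W' ((algebraMap M' M'').comp (algebraMap W' M')) W'' := by
    refine ⟨fun x => x.2, fun x hx => ?_⟩
    rw [comap_lt_one_iff]
    exact (comap_lt_one_iff Wb (algebraMap M' Ω) x).mp ((W'.valuation_lt_one_iff x).mp hx)
  obtain ⟨hw'', hgr''⟩ := (S1983.result V' W' K₁' M'
    (fun x y h => Subtype.ext ((algebraMap K₁' M').injective (congrArg Subtype.val h))) hw' F) M'' hadj'' W'' hW''
  let V'' := W''.comap (algebraMap F M'')
  letI aV''W'' : Algebra V'' W'' := (EtRam.inclOfComap W'' (algebraMap F M'')).toAlgebra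
  have hV''mem : ∀ v : V'', ((v : F) : Ω) ∈ Wb := fun v => v.2
  have hFFU : ∀ x ∈ F, x ∈ FU.fieldRange := fun x hx => by
    induction hx using IntermediateField.adjoin_induction with
    | mem x hx => obtain ⟨i, rfl⟩ := hx; exact hψFU _
    | algebraMap x => exact hK'FU x
    | add x y _ _ hx hy => exact add_mem hx hy
    | inv x _ hx => exact inv_mem hx
    | mul x y _ _ hx hy => exact mul_mem hx hy
  have hV''U : ∀ v : V'', ∃ y, (hU y : Ω) = (v : F) := fun v => by
    obtain ⟨z, hz⟩ := hFFU _ (v : F).2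
    obtain ⟨a, c, hc, rfl⟩ := IsFractionRing.div_surjective (A := LocalSH U) z
    refine exists_of_quotient Wb hU hUinj (hV''mem v) (a := a) (nonZeroDivisors.ne_zero hc) ?_
    rw [map_div₀, hFU, hFU] at hz
    have hc' : hUΩ c ≠ 0 := fun h => nonZeroDivisors.ne_zero hc (hUΩinj (by rw [h, map_zero]))
    exact ((div_eq_iff hc').mp hz).symm
  obtain ⟨ϖ, hϖ⟩ := IsDiscreteValuationRing.exists_irreducible U
  have hϖ0 : ψ (ϖ : K₁) ≠ 0 := (_root_.map_ne_zero ψ).mpr fun h => hϖ.ne_zero (Subtype.ext h)
  have hψW'' : ∀ u : U, ψ u ∈ Wb := hψU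
  let iU : U →+* V'' := (((ψ.codRestrict F.toSubfield.toSubring hψF).comp U.subtype)).codRestrict V''.toSubring
    fun u => hψU u
  have hMM'' : ∀ m : M, algebraMap M Ω m ∈ M'' := fun m => by
    have hm : m ∈ Algebra.adjoin L (Set.range f) := by rw [hadj]; trivial
    induction hm using Algebra.adjoin_induction with
    | mem x hx => obtain ⟨c, rfl⟩ := hx; exact hFM _ (hψF c)
    | algebraMap l =>
      obtain ⟨y, hy⟩ := hLΩ l
      rw [← hy]; exact M''.algebraMap_mem (algebraMap L' M' y)
    | add x y _ _ hx hy => rw [map_add]; exact add_mem hx hy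
    | mul x y _ _ hx hy => rw [map_mul]; exact mul_mem hx hy
  have hWmem : ∀ w : W, algebraMap M Ω w ∈ Wb := fun w => by
    have : (w : M) ∈ Wb.comap (algebraMap M Ω) := hWb.symm ▸ w.2
    exact this
  let iW : W →+* W'' := (((algebraMap M Ω).codRestrict M''.toSubfield.toSubring hMM'').comp W.subtype).codRestrict
    W''.toSubring hWmem
  haveI hiW : IsLocalHom iW := ⟨fun w hw => by
    by_contra hnu
    have h1 : W.valuation (w : M) < 1 := (W.valuation_lt_one_iff _).mp ((mem_maximalIdeal w).mpr hnu)
    have h2 : (Wb.comap (algebraMap M Ω)).valuation (w : M) < 1 := hWb.symm ▸ h1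
    rw [comap_lt_one_iff] at h2
    have h3 := (W''.valuation_eq_one_iff (iW w)).mp hw
    have h4 : W''.valuation ((iW w : W'') : M'') < 1 := (comap_lt_one_iff Wb (algebraMap M'' Ω) _).mpr h2
    exact h4.ne h3⟩
  haveI hiU : IsLocalHom iU := ⟨fun u hu => by
    by_contra hnu
    have h1 : U.valuation (u : K₁) < 1 := (U.valuation_lt_one_iff _).mp ((mem_maximalIdeal u).mpr hnu)
    rw [comap_lt_one_iff] at h1
    have h2 : (Wb.comap (algebraMap M Ω)).valuation (f u) < 1 := hWb.symm ▸ h1
    rw [comap_lt_one_iff] at h2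
    have h3 := (V''.valuation_eq_one_iff (iU u)).mp hu
    have h4 : V''.valuation ((iU u : V'') : F) < 1 :=
      (comap_lt_one_iff W'' (algebraMap F M'') _).mpr ((comap_lt_one_iff Wb (algebraMap M'' Ω) _).mpr h2)
    exact h4.ne h3⟩
  haveI : IsLocalHom (algebraMap U W) := EtRam.isLocalHom_inclOfComap W f
  refine ⟨le_antisymm (((IsLocalRing.local_hom_TFAE (algebraMap U W)).out 0 2).mp ‹_›) ?_, ?_⟩
  · -- weakly unramified
    intro w hw
    have hmax : maximalIdeal W'' ≤ Ideal.span {iW (algebraMap U W ϖ)} := by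
      rw [← hw'']
      refine Ideal.map_le_iff_le_comap.mpr fun v hv => ?_
      obtain ⟨y, hy⟩ := hV''U v
      have hy' : y ∈ maximalIdeal (LocalSH U) := (mem_maximalIdeal y).mpr fun hu => by
        have h1 := (Wb.valuation_eq_one_iff (hU y)).mp (hu.map hU)
        rw [hy] at h1
        have h2 := (V''.valuation_lt_one_iff v).mp hv
        rw [comap_lt_one_iff, comap_lt_one_iff] at h2
        exact h2.ne h1
      rw [← map_maximalIdeal_localSH, hϖ.maximalIdeal_eq, Ideal.map_span, Set.image_singleton,
        Ideal.mem_span_singleton] at hy'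
      obtain ⟨c, rfl⟩ := hy'
      have hc : ((v : F) : Ω) = ψ ϖ * hU c := by
        rw [← hy, map_mul, MulMemClass.coe_mul, hUg']
      have hcM : (hU c : Ω) ∈ M'' := by
        rw [show (hU c : Ω) = (v : F) / ψ ϖ by rw [hc, mul_div_cancel_left₀ _ hϖ0]]
        exact div_mem (hFM _ (v : F).2) (hFM _ (hψF _))
      exact Ideal.mem_span_singleton.mpr ⟨⟨⟨_, hcM⟩, (hU c).2⟩, Subtype.ext (Subtype.ext hc)⟩
    have hw2 : iW w ∈ maximalIdeal W'' := (mem_maximalIdeal _).mpr fun hu =>
      (mem_maximalIdeal w).mp hw (isUnit_of_map_unit iW w hu)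
    obtain ⟨z, hz⟩ := Ideal.mem_span_singleton.mp (hmax hw2)
    have hz' : algebraMap M Ω (w : M) = ψ ϖ * ((z : M'') : Ω) :=
      congrArg (fun t : W'' => ((t : M'') : Ω)) hz
    have hq : ((z : M'') : Ω) = algebraMap M Ω ((w : M) / f ϖ) := by
      rw [map_div₀, hz']; exact (mul_div_cancel_left₀ _ hϖ0).symm
    have hqW : (w : M) / f ϖ ∈ W := by
      have h : (w : M) / f ϖ ∈ Wb.comap (algebraMap M Ω) := by
        rw [ValuationSubring.mem_comap, ← hq]; exact z.2
      exact hWb ▸ h
    have hw3 : w = algebraMap U W ϖ * ⟨_, hqW⟩ := Subtype.ext (by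
      show (w : M) = f ϖ * ((w : M) / f ϖ)
      rw [mul_div_cancel₀]
      exact fun h => hϖ0 (by show algebraMap M Ω (f ϖ) = 0; rw [h, map_zero]))
    rw [hw3]
    exact Ideal.mul_mem_right _ _ (Ideal.mem_map_of_mem _ ((mem_maximalIdeal _).mpr hϖ.not_isUnit))
  · -- residue fields
    letI : Algebra (ResidueField U) (ResidueField W) := (ResidueField.map (EtRam.inclOfComap W f)).toAlgebra
    haveI : IsLocalHom (algebraMap V'' W'') := EtRam.isLocalHom_inclOfComap W'' _
    haveI : Algebra.IsGeometricallyReduced (ResidueField V'') (ResidueField W'') := by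
      convert hgr'' using 1
      exact Algebra.algebra_ext _ _ fun x => by obtain ⟨a, rfl⟩ := residue_surjective x; rfl
    letI : Algebra (ResidueField U) (ResidueField V'') := (ResidueField.map iU).toAlgebra
    letI : Algebra (ResidueField U) (ResidueField W'') :=
      ((algebraMap (ResidueField V'') (ResidueField W'')).comp (ResidueField.map iU)).toAlgebra
    haveI : IsScalarTower (ResidueField U) (ResidueField V'') (ResidueField W'') :=
      IsScalarTower.of_algebraMap_eq fun _ => rfl
    let gV : V'' →+* Wb := ((algebraMap M'' Ω).comp ((algebraMap F M'').comp V''.subtype)).codRestrict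
      Wb.toSubring hV''mem
    haveI : IsLocalHom gV := ⟨fun v hv => by
      by_contra hnu
      have h2 := (V''.valuation_lt_one_iff v).mp ((mem_maximalIdeal v).mpr hnu)
      rw [comap_lt_one_iff, comap_lt_one_iff] at h2
      exact h2.ne ((Wb.valuation_eq_one_iff (gV v)).mp hv)⟩
    letI : Algebra (ResidueField U) (ResidueField Wb) :=
      ((ResidueField.map hU).comp (ResidueField.map (algebraMap U (LocalSH U)))).toAlgebra
    let σU : ResidueField (LocalSH U) →ₐ[ResidueField U] ResidueField Wb :=
      { ResidueField.map hU with commutes' := fun _ => rfl }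
    let σV : ResidueField V'' →ₐ[ResidueField U] ResidueField Wb :=
      { ResidueField.map gV with
        commutes' := fun x => by
          obtain ⟨u, rfl⟩ := residue_surjective x
          refine congrArg (residue Wb) (Subtype.ext ?_)
          exact (hUg' u).symm }
    haveI : Algebra.IsSeparable (ResidueField U) (ResidueField V'') := ⟨fun x => by
      obtain ⟨v, rfl⟩ := residue_surjective x
      obtain ⟨y, hy⟩ := hV''U v
      have hs : IsSeparable (ResidueField U) (residue (LocalSH U) y) :=
        (isSepClosure_residueField_localSH (R := U)).separable.isSeparable' _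
      have heq : σU (residue (LocalSH U) y) = σV (residue V'' v) :=
        congrArg (residue Wb) (Subtype.ext hy)
      unfold IsSeparable at hs ⊢
      rw [← minpoly.algHom_eq σV σV.toRingHom.injective, ← heq, minpoly.algHom_eq σU σU.toRingHom.injective]
      exact hs⟩
    haveI : Algebra.IsGeometricallyReduced (ResidueField U) (ResidueField W'') :=
      geomReduced_trans (ResidueField U) (ResidueField V'') (ResidueField W'')
    let σW : ResidueField W →ₐ[ResidueField U] ResidueField W'' :=
      { ResidueField.map iW with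
        commutes' := fun x => by
          obtain ⟨u, rfl⟩ := residue_surjective x
          rfl }
    exact Algebra.IsGeometricallyReduced.of_injective σW σW.toRingHom.injective

end Groth.Agent.EtRamLib.StrictReflect
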