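import Groth.Agent.EtRamLib.StrictReflectBasic

/-!
# Strict henselizations inside valuation subrings of algebraically closed fields
-/

set_option autoImplicit false
set_option linter.all false
universe u

open IsLocalRing Polynomial
open Groth.Agent.HenselLib

namespace Groth.Agent.EtRamLib.StrictReflect

theorem comap_lt_one_iff {K M : Type u} [Field K] [Field M] (W : ValuationSubring M) (f : K →+* M) (x : K) :
    (W.comap f).valuation x < 1 ↔ W.valuation (f x) < 1 := by
  rcases eq_or_ne x 0 with rfl | hx
  · simp
  rw [← one_lt_inv₀ (zero_lt_iff.mpr ((Valuation.ne_zero_iff _).mpr hx)), ← map_inv₀, ← not_le,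
    ValuationSubring.valuation_le_one_iff, ValuationSubring.mem_comap, map_inv₀,
    ← ValuationSubring.valuation_le_one_iff, map_inv₀, not_le,
    one_lt_inv₀ (zero_lt_iff.mpr ((Valuation.ne_zero_iff _).mpr ((_root_.map_ne_zero f).mpr hx)))]

/-- Valuation subrings extend to any extension field. -/
theorem exists_extension {M N : Type u} [Field M] [Field N] (f : M →+* N) (W : ValuationSubring M) :
    ∃ Wb : ValuationSubring N, Wb.comap f = W := by
  let g : W →+* N := f.comp W.subtype
  have hinj : Function.Injective g := fun a b h => Subtype.ext (f.injective h)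
  let e : W ≃+* g.range := RingEquiv.ofBijective g.rangeRestrict
    ⟨fun a b h => hinj (congrArg Subtype.val h), g.rangeRestrict_surjective⟩
  obtain ⟨Wb, h1, h2⟩ := Ideal.image_subset_nonunits_valuationSubring
    ((maximalIdeal W).map e.toRingHom) (by
      intro h
      have h' := congrArg (Ideal.comap e.toRingHom) h
      rw [Ideal.comap_map_of_bijective e.toRingHom e.bijective, Ideal.comap_top] at h'
      exact (IsLocalRing.maximalIdeal.isMaximal W).ne_top h')
  refine ⟨Wb, SetLike.ext fun x => ⟨fun hx => ?_, fun hx => h1 ⟨⟨x, hx⟩, rfl⟩⟩⟩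
  by_contra hxW
  have hx0 : x ≠ 0 := fun h => hxW (h ▸ W.zero_mem)
  have hinv := (W.mem_or_inv_mem x).resolve_left hxW
  have hm : (⟨x⁻¹, hinv⟩ : W) ∈ maximalIdeal W := by
    refine (mem_maximalIdeal _).mpr fun hu => ?_
    obtain ⟨c, hc⟩ := isUnit_iff_exists_inv.mp hu
    have hc' : x⁻¹ * (c : M) = 1 := congrArg Subtype.val hc
    exact hxW (by rw [← inv_inv x, inv_eq_of_mul_eq_one_right hc']; exact c.2)
  have hlt : Wb.valuation (f x⁻¹) < 1 := Wb.mem_nonunits_iff.1 (h2 ⟨e ⟨x⁻¹, hinv⟩, Ideal.mem_map_of_mem _ hm, rfl⟩)
  rw [map_inv₀, map_inv₀, inv_lt_one₀ (zero_lt_iff.mpr ((Valuation.ne_zero_iff _).mpr ((_root_.map_ne_zero f).mpr hx0)))] at hlt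
  exact hlt.not_ge ((Wb.valuation_le_one_iff _).mpr hx)

variable {Ω : Type u} [Field Ω] (Wb : ValuationSubring Ω)

/-- A local homomorphism out of a strict henselization of a discrete valuation ring is injective. -/
theorem injective_of_localSH {A T : Type u} [CommRing A] [IsDomain A] [IsDiscreteValuationRing A] [CommRing T]
    [IsDomain T] (h : LocalSH A →+* T) (hinj : Function.Injective (h.comp (algebraMap A (LocalSH A)))) :
    Function.Injective h := by
  obtain ⟨_, _⟩ := exists_isDVR_localSH A
  rw [RingHom.injective_iff_ker_eq_bot]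
  by_contra hne
  haveI : (RingHom.ker h).IsPrime := RingHom.ker_isPrime _
  have hmax := IsLocalRing.eq_maximalIdeal ((RingHom.ker_isPrime h).isMaximal hne)
  obtain ⟨π, hπ⟩ := IsDiscreteValuationRing.exists_irreducible A
  refine hπ.ne_zero (hinj ?_)
  rw [map_zero]
  have : algebraMap A (LocalSH A) π ∈ RingHom.ker h := by
    rw [hmax, ← map_maximalIdeal_localSH]
    exact Ideal.mem_map_of_mem _ ((mem_maximalIdeal _).mpr hπ.not_isUnit)
  exact this

/-- Embedding a strict henselization into a valuation subring of an algebraically closed field. -/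
theorem exists_embedding [IsAlgClosed Ω] {U : Type u} [CommRing U] [IsDomain U] [IsDiscreteValuationRing U]
    (g : U →+* Wb) [IsLocalHom g] (hg : Function.Injective g) :
    ∃ h : LocalSH U →+* Wb, IsLocalHom h ∧ Function.Injective h ∧ h.comp (algebraMap U (LocalSH U)) = g := by
  haveI := henselianLocalRing_valuationSubring Wb
  haveI : IsAlgClosed (ResidueField Wb) := FlatMorGeom.isAlgClosed_residueField Wb
  haveI := (isSepClosure_residueField_localSH (R := U)).separable
  letI : Algebra (ResidueField U) (ResidueField Wb) := (ResidueField.map g).toAlgebra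
  let τ : ResidueField (LocalSH U) →ₐ[ResidueField U] ResidueField Wb := IsSepClosed.lift
  have hτ : τ.toRingHom.comp (ResidueField.map (algebraMap U (LocalSH U))) = ResidueField.map g :=
    RingHom.ext fun x => τ.commutes x
  obtain ⟨h, ⟨hh, hres⟩, -⟩ := (isStrictHenselization_localSH (R := U)).universal Wb g τ.toRingHom hτ
  refine ⟨h, ⟨fun x hx => ?_⟩, injective_of_localSH h (hh ▸ hg), hh⟩
  by_contra hnu
  have h0 : residue (LocalSH U) x = 0 := Ideal.Quotient.eq_zero_iff_mem.mpr ((mem_maximalIdeal x).mpr hnu)
  exact ((residue_ne_zero_iff_isUnit (h x)).mpr hx) (by rw [hres, h0, map_zero])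

/-- A strict henselization inside a valuation subring contains those of smaller rings. -/
theorem range_le [IsAlgClosed Ω] {A U : Type u} [CommRing A] [IsDomain A] [IsDiscreteValuationRing A]
    [CommRing U] [IsDomain U] [IsDiscreteValuationRing U] (g : A →+* U) [IsLocalHom g]
    (hA : LocalSH A →+* Wb) [IsLocalHom hA] (hU : LocalSH U →+* Wb) [IsLocalHom hU]
    (hcomm : hA.comp (algebraMap A (LocalSH A)) = (hU.comp (algebraMap U (LocalSH U))).comp g) :
    hA.range ≤ hU.range := by
  haveI := henselianLocalRing_valuationSubring Wb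
  let gU : A →+* LocalSH U := (algebraMap U (LocalSH U)).comp g
  haveI : IsLocalHom gU := RingHom.isLocalHom_comp _ _
  letI : Algebra (ResidueField A) (ResidueField (LocalSH U)) := (ResidueField.map gU).toAlgebra
  letI : Algebra (ResidueField (LocalSH U)) (ResidueField Wb) := (ResidueField.map hU).toAlgebra
  letI : Algebra (ResidueField A) (ResidueField Wb) :=
    ((ResidueField.map hA).comp (ResidueField.map (algebraMap A (LocalSH A)))).toAlgebra
  haveI : IsScalarTower (ResidueField A) (ResidueField (LocalSH U)) (ResidueField Wb) :=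
    IsScalarTower.of_algebraMap_eq fun x => by
      obtain ⟨a, rfl⟩ := residue_surjective x
      exact congrArg (residue Wb) (congr($hcomm a))
  haveI := (isSepClosure_residueField_localSH (R := U)).sep_closed
  haveI := (isSepClosure_residueField_localSH (R := A)).separable
  let σ : ResidueField (LocalSH A) →ₐ[ResidueField A] ResidueField Wb :=
    { ResidueField.map hA with commutes' := fun _ => rfl }
  have hmem : ∀ x, ∃ y, ResidueField.map hU y = σ x := fun x =>
    mem_range_of_isSeparable (k := ResidueField A) (F := ResidueField (LocalSH U))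
      (show IsSeparable (ResidueField A) (σ x) by
        unfold IsSeparable
        rw [minpoly.algHom_eq σ σ.toRingHom.injective]
        exact Algebra.IsSeparable.isSeparable (ResidueField A) x)
  choose t ht using hmem
  have hinj := (ResidueField.map hU).injective
  let τ : ResidueField (LocalSH A) →+* ResidueField (LocalSH U) :=
    { toFun := t
      map_one' := hinj (by rw [ht, map_one, map_one])
      map_mul' := fun x y => hinj (by rw [ht, map_mul, map_mul, ht, ht])
      map_zero' := hinj (by rw [ht, map_zero, map_zero])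
      map_add' := fun x y => hinj (by rw [ht, map_add, map_add, ht, ht]) }
  have hτ : τ.comp (ResidueField.map (algebraMap A (LocalSH A))) = ResidueField.map gU := by
    refine RingHom.ext fun x => hinj ?_
    show ResidueField.map hU (t _) = _
    rw [ht]
    obtain ⟨a, rfl⟩ := residue_surjective x
    exact congrArg (residue Wb) (congr($hcomm a))
  obtain ⟨j, ⟨hj, hjres⟩, -⟩ := (isStrictHenselization_localSH (R := A)).universal (LocalSH U) gU τ hτ
  haveI : IsLocalHom (hA.comp (algebraMap A (LocalSH A))) := RingHom.isLocalHom_comp _ _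
  have heq : hA = hU.comp j := by
    refine ((isStrictHenselization_localSH (R := A)).universal Wb (hA.comp (algebraMap A (LocalSH A)))
      (ResidueField.map hA) (RingHom.ext fun x => by obtain ⟨a, rfl⟩ := residue_surjective x; rfl)).unique
      ⟨rfl, fun x => rfl⟩ ⟨?_, fun x => ?_⟩
    · rw [RingHom.comp_assoc, hj, hcomm]; rfl
    · show ResidueField.map hU (residue (LocalSH U) (j x)) = _
      rw [hjres]
      exact ht _
  rintro _ ⟨x, rfl⟩
  exact ⟨j x, (congr($heq x)).symm⟩

/-- Elements of a valuation subring in the fraction field of a dominated discrete valuation ring. -/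
theorem exists_of_quotient {R : Type u} [CommRing R] [IsDomain R] [IsDiscreteValuationRing R]
    (h : R →+* Wb) [IsLocalHom h] (hinj : Function.Injective h) {x : Ω} (hx : x ∈ Wb)
    {a b : R} (hb : b ≠ 0) (hab : x * (h b : Ω) = h a) : ∃ y, (h y : Ω) = x := by
  have hb' : (h b : Ω) ≠ 0 := fun h0 => hb (hinj (by rw [map_zero]; exact Subtype.ext h0))
  rcases ValuationRing.dvd_total b a with ⟨c, rfl⟩ | ⟨c, rfl⟩
  · refine ⟨c, mul_right_cancel₀ hb' ?_⟩
    rw [hab, map_mul, MulMemClass.coe_mul]; ring
  · have ha : (h a : Ω) ≠ 0 := fun h0 => hb' (by rw [map_mul, MulMemClass.coe_mul, h0, zero_mul])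
    have h1 : x * (h c : Ω) = 1 := by
      refine mul_right_cancel₀ ha ?_
      rw [map_mul, MulMemClass.coe_mul] at hab
      linear_combination hab
    have hu : IsUnit (h c) := IsUnit.of_mul_eq_one ⟨x, hx⟩ (Subtype.ext (by
      show (h c : Ω) * x = 1
      rw [mul_comm]; exact h1))
    obtain ⟨u, rfl⟩ := isUnit_of_map_unit h c hu
    refine ⟨↑u⁻¹, ?_⟩
    have h2 : (h ↑u⁻¹ : Ω) * (h ↑u : Ω) = 1 := by
      rw [← MulMemClass.coe_mul, ← map_mul, Units.inv_mul, map_one]; rfl
    linear_combination (x : Ω) * h2 - (h ↑u⁻¹ : Ω) * h1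

end Groth.Agent.EtRamLib.StrictReflect
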