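import Groth.Agent.CohDer1.TameTower

/-!
# Towers of unramified and tame extensions
-/

set_option autoImplicit false
set_option linter.all false

universe u

open IsLocalRing

namespace Groth.Agent.EtRamLib

theorem tame_unramified_trans (A K : Type u) [CommRing A] [IsDomain A] [IsDiscreteValuationRing A] [Field K] [Algebra A K]
    [IsFractionRing A K] (L M : Type u) [Field L] [Field M] [Algebra K L] [Algebra K M] [Algebra L M]
    [IsScalarTower K L M] [FiniteDimensional K M] [Algebra.IsSeparable K M] :
    (EtRam.IsTamelyRamified A ((algebraMap K L).comp (algebraMap A K)) →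
      (∀ (V : ValuationSubring L), EtRam.Dominates A ((algebraMap K L).comp (algebraMap A K)) V →
        EtRam.IsTamelyRamified V ((algebraMap L M).comp V.subtype)) →
      EtRam.IsTamelyRamified A ((algebraMap K M).comp (algebraMap A K))) ∧
    (EtRam.IsUnramifiedExt A ((algebraMap K L).comp (algebraMap A K)) →
      (∀ (V : ValuationSubring L), EtRam.Dominates A ((algebraMap K L).comp (algebraMap A K)) V →
        EtRam.IsUnramifiedExt V ((algebraMap L M).comp V.subtype)) →
      EtRam.IsUnramifiedExt A ((algebraMap K M).comp (algebraMap A K))) := by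
  haveI : FiniteDimensional K L := Module.Finite.of_injective (IsScalarTower.toAlgHom K L M).toLinearMap (algebraMap L M).injective
  haveI : Algebra.IsSeparable K L := Algebra.isSeparable_tower_bot_of_isSeparable K L M
  have hdown : ∀ W : ValuationSubring M, EtRam.Dominates A ((algebraMap K M).comp (algebraMap A K)) W →
      EtRam.Dominates A ((algebraMap K L).comp (algebraMap A K)) (W.comap (algebraMap L M)) := by
    intro W hW
    have hmem : ∀ a, ((algebraMap K L).comp (algebraMap A K)) a ∈ W.comap (algebraMap L M) := fun a => by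
      rw [ValuationSubring.mem_comap]
      simpa [← IsScalarTower.algebraMap_apply K L M] using hW.1 a
    refine ⟨hmem, fun a ha => ?_⟩
    refine ((W.comap (algebraMap L M)).valuation_lt_one_iff ⟨_, hmem a⟩).mp fun hu => ?_
    have h1 := hW.2 a ha
    have h2 : IsUnit (EtRam.inclOfComap W (algebraMap L M) ⟨_, hmem a⟩) := hu.map _
    have h3 : (algebraMap L M) (algebraMap K L (algebraMap A K a)) = algebraMap K M (algebraMap A K a) :=
      (IsScalarTower.algebraMap_apply K L M _).symm
    have h4 := (W.valuation_eq_one_iff _).mp h2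
    rw [EtRam.inclOfComap_apply_coe] at h4
    exact h1.ne (h3 ▸ h4)
  have hup : ∀ W : ValuationSubring M,
      EtRam.Dominates (W.comap (algebraMap L M)) ((algebraMap L M).comp (W.comap (algebraMap L M)).subtype) W := by
    intro W
    refine ⟨fun x => x.2, fun x hx => ?_⟩
    have h2 : EtRam.inclOfComap W (algebraMap L M) x ∈ maximalIdeal W :=
      fun hu => hx (IsLocalHom.map_nonunit (f := EtRam.inclOfComap W (algebraMap L M)) _ hu)
    exact (W.valuation_lt_one_iff _).mp h2
  constructor
  · intro hL hML W hW
    letI : Algebra A W := (RingHom.codRestrict _ W hW.1).toAlgebra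
    intro hlW
    have hV := hdown W hW
    letI : Algebra A (W.comap (algebraMap L M)) := (RingHom.codRestrict _ (W.comap (algebraMap L M)) hV.1).toAlgebra
    letI : Algebra (W.comap (algebraMap L M)) W := (RingHom.codRestrict _ W (hup W).1).toAlgebra
    haveI : IsScalarTower A (W.comap (algebraMap L M)) W := IsScalarTower.of_algebraMap_eq fun a => Subtype.ext (by
      show algebraMap K M (algebraMap A K a) = algebraMap L M (algebraMap K L (algebraMap A K a))
      rw [← IsScalarTower.algebraMap_apply K L M])
    haveI : IsLocalHom (algebraMap (W.comap (algebraMap L M)) W) :=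
      ⟨fun x hx => (EtRam.isLocalHom_inclOfComap W (algebraMap L M)).map_nonunit x hx⟩
    haveI : IsLocalHom (algebraMap A (W.comap (algebraMap L M))) := ⟨fun a ha => by
      refine hlW.map_nonunit a ?_
      rw [IsScalarTower.algebraMap_apply A (W.comap (algebraMap L M)) W]
      exact ha.map _⟩
    obtain ⟨hsep₁, hram₁⟩ := @hL _ hV _
    obtain ⟨hsep₂, hram₂⟩ := @hML _ hV W (hup W) _
    haveI := hsep₁
    haveI := hsep₂
    haveI : IsScalarTower (ResidueField A) (ResidueField (W.comap (algebraMap L M))) (ResidueField W) := inferInstance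
    refine ⟨Algebra.IsSeparable.trans (ResidueField A) (ResidueField (W.comap (algebraMap L M))) (ResidueField W),
      fun p hp hc hdvd => ?_⟩
    haveI := CohDer1.TameTower.isDVR_of_dominates A K L _ hV
    haveI := CohDer1.TameTower.isDVR_of_dominates A K M _ hW
    obtain ⟨π, hπ⟩ := IsDiscreteValuationRing.exists_irreducible A
    obtain ⟨ϖV, hϖV⟩ := IsDiscreteValuationRing.exists_irreducible (W.comap (algebraMap L M))
    obtain ⟨ϖW, hϖW⟩ := IsDiscreteValuationRing.exists_irreducible W
    have hπV : algebraMap A (W.comap (algebraMap L M)) π ≠ 0 := fun h0 => hπ.ne_zero (by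
      have h1 : algebraMap K L (algebraMap A K π) = 0 := congrArg Subtype.val h0
      exact (map_eq_zero_iff _ (IsFractionRing.injective A K)).mp ((map_eq_zero _).mp h1))
    obtain ⟨n, u, hu⟩ := IsDiscreteValuationRing.eq_unit_mul_pow_irreducible hπV hϖV
    have hιV : algebraMap (W.comap (algebraMap L M)) W ϖV ≠ 0 :=
      fun h0 => hϖV.ne_zero (Subtype.ext ((map_eq_zero (algebraMap L M)).mp (congrArg Subtype.val h0)))
    obtain ⟨m, w, hw⟩ := IsDiscreteValuationRing.eq_unit_mul_pow_irreducible hιV hϖW
    rw [CohDer1.TameTower.ramificationIdx'_eq π hπ.maximalIdeal_eq ϖW hϖW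
      (Units.map (algebraMap (W.comap (algebraMap L M)) W).toMonoidHom u * w ^ n) (m * n) (by
      rw [IsScalarTower.algebraMap_apply A (W.comap (algebraMap L M)) W, hu, map_mul, map_pow, hw]
      push_cast
      simp only [mul_pow, ← pow_mul, Units.coe_map]
      rw [mul_assoc]
      rfl)] at hdvd
    rcases hp.dvd_mul.mp hdvd with h | h
    · refine hram₂ p hp ?_ ?_
      · exact charP_of_injective_algebraMap (algebraMap (ResidueField A) (ResidueField (W.comap (algebraMap L M)))).injective p
      · rwa [CohDer1.TameTower.ramificationIdx'_eq ϖV hϖV.maximalIdeal_eq ϖW hϖW w m hw]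
    · refine hram₁ p hp hc ?_
      rwa [CohDer1.TameTower.ramificationIdx'_eq π hπ.maximalIdeal_eq ϖV hϖV u n hu]
  · intro hL hML W hW
    letI : Algebra A W := (RingHom.codRestrict _ W hW.1).toAlgebra
    intro hlW
    have hV := hdown W hW
    letI : Algebra A (W.comap (algebraMap L M)) := (RingHom.codRestrict _ (W.comap (algebraMap L M)) hV.1).toAlgebra
    letI : Algebra (W.comap (algebraMap L M)) W := (RingHom.codRestrict _ W (hup W).1).toAlgebra
    haveI : IsScalarTower A (W.comap (algebraMap L M)) W := IsScalarTower.of_algebraMap_eq fun a => Subtype.ext (by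
      show algebraMap K M (algebraMap A K a) = algebraMap L M (algebraMap K L (algebraMap A K a))
      rw [← IsScalarTower.algebraMap_apply K L M])
    haveI : IsLocalHom (algebraMap (W.comap (algebraMap L M)) W) :=
      ⟨fun x hx => (EtRam.isLocalHom_inclOfComap W (algebraMap L M)).map_nonunit x hx⟩
    haveI : IsLocalHom (algebraMap A (W.comap (algebraMap L M))) := ⟨fun a ha => by
      refine hlW.map_nonunit a ?_
      rw [IsScalarTower.algebraMap_apply A (W.comap (algebraMap L M)) W]
      exact ha.map _⟩
    obtain ⟨hun₁, hsep₁⟩ := @hL _ hV _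
    obtain ⟨hun₂, hsep₂⟩ := @hML _ hV W (hup W) _
    haveI := hsep₁
    haveI := hsep₂
    refine ⟨?_, Algebra.IsSeparable.trans (ResidueField A) (ResidueField (W.comap (algebraMap L M))) (ResidueField W)⟩
    unfold EtRam.IsWeaklyUnramified at hun₁ hun₂ ⊢
    rw [IsScalarTower.algebraMap_eq A (W.comap (algebraMap L M)) W, ← Ideal.map_map, hun₁, hun₂]

end Groth.Agent.EtRamLib
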