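import Groth.Agent.EtRamLib.DegP
import Mathlib

/-! Totally ramified extensions generated by a root of a uniformizer, of arbitrary degree. -/

set_option autoImplicit false
set_option linter.all false
universe u

open IsLocalRing

namespace Groth.Agent.EtRamLib.TotGen

open DegP

variable {A K L : Type u} [CommRing A] [IsDomain A] [IsDiscreteValuationRing A] [Field K] [Algebra A K]
  [IsFractionRing A K] [Field L] [Algebra K L] [Algebra A L] [IsScalarTower A K L]

variable (A K) in
/-- `L` is totally ramified with generator `t`, a root of order `e` of the uniformizer. -/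
structure TR (π : A) (t : L) (e : ℕ) : Prop where
  tot : EtRam.IsTotallyRamified A (algebraMap A L)
  rank : Module.finrank K L = e
  values : ∀ V : ValuationSubring L, Dom A V → ∀ x : L, x ≠ 0 → ∃ m : ℤ, V.valuation x = V.valuation t ^ m
  pow : ∀ V : ValuationSubring L, Dom A V → V.valuation t ^ e = V.valuation (algebraMap A L π)
  span : ∀ x : L, ∃ c : Fin e → K, x = ∑ l, algebraMap K L (c l) * t ^ (l : ℕ)

theorem valsum {π : A} (hπ : Irreducible π) {p : ℕ} (hp : 0 < p) {t : L} {V : ValuationSubring L} (hV : Dom A V)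
    (htV : V.valuation t ^ p = V.valuation (algebraMap A L π)) (c : Fin p → K)
    (h : ∑ l, algebraMap K L (c l) * t ^ (l : ℕ) ≠ 0) :
    ∃ m : ℤ, V.valuation (∑ l, algebraMap K L (c l) * t ^ (l : ℕ)) = V.valuation t ^ m := by
  classical
  have hg0 := vpi_pos (K := K) hπ (V := V)
  have hg1 := vpi_lt_one hπ hV
  have hG0 : 0 < V.valuation t := zero_lt_iff.mpr fun h => by rw [h, zero_pow hp.ne'] at htV; exact hg0.ne htV
  have hG1 : V.valuation t < 1 := not_le.mp fun h => (one_le_pow₀ h (n := p)).not_gt (htV ▸ hg1)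
  have hex : ∀ l : Fin p, c l ≠ 0 → ∃ m : ℤ, V.valuation (algebraMap K L (c l) * t ^ (l : ℕ)) = V.valuation t ^ ((p : ℤ) * m + (l : ℕ)) := by
    intro l hl
    obtain ⟨m, hm⟩ := val_K (L := L) hπ hV hl
    exact ⟨m, by rw [zpow_add₀ hG0.ne', zpow_mul, zpow_natCast, zpow_natCast, htV, ← hm, map_mul, map_pow]⟩
  obtain ⟨i₀, -, hi₀⟩ := Finset.exists_ne_zero_of_sum_ne_zero h
  obtain ⟨k, -, hmax⟩ := Finset.exists_max_image Finset.univ
    (fun l => V.valuation (algebraMap K L (c l) * t ^ (l : ℕ))) ⟨i₀, Finset.mem_univ _⟩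
  have hk0 : c k ≠ 0 := fun h0 => by
    have h2 := hmax i₀ (Finset.mem_univ _)
    rw [h0, map_zero, zero_mul, map_zero] at h2
    exact hi₀ ((Valuation.zero_iff _).mp (le_antisymm h2 zero_le'))
  obtain ⟨m, hm⟩ := hex k hk0
  refine ⟨(p : ℤ) * m + (k : ℕ), ?_⟩
  rw [← hm]
  refine V.valuation.map_sum_eq_of_lt (Finset.mem_univ k) fun l hl => ?_
  have hlk : l ≠ k := by simpa using hl
  by_cases hl0 : c l = 0
  · rw [hl0, map_zero, zero_mul, map_zero, hm]
    exact zpow_pos hG0 _
  refine lt_of_le_of_ne (hmax l (Finset.mem_univ _)) fun heq => hlk ?_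
  obtain ⟨m', hm'⟩ := hex l hl0
  rw [hm, hm'] at heq
  have := (zpow_right_strictAnti₀ hG0 hG1).injective heq
  have h1 : ((l : ℕ) : ℤ) < p := by exact_mod_cast l.2
  have h2 : ((k : ℕ) : ℤ) < p := by exact_mod_cast k.2
  have h3 : ((p : ℤ) * m' + (l : ℕ)) % p = (l : ℕ) := by
    rw [add_comm, Int.add_mul_emod_self_left, Int.emod_eq_of_lt (Int.natCast_nonneg _) h1]
  have h4 : ((p : ℤ) * m + (k : ℕ)) % p = (k : ℕ) := by
    rw [add_comm, Int.add_mul_emod_self_left, Int.emod_eq_of_lt (Int.natCast_nonneg _) h2]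
  rw [this, h4] at h3
  exact Fin.ext (by exact_mod_cast h3.symm)

theorem of_pow [FiniteDimensional K L] {π : A} (hπ : Irreducible π) {p : ℕ} (hp : 0 < p) {t : L}
    (hfin : Module.finrank K L ≤ p)
    (ht : ∀ V : ValuationSubring L, Dom A V → V.valuation t ^ p = V.valuation (algebraMap A L π)) :
    TR A K π t p := by
  classical
  let term : (Fin p → K) → Fin p → L := fun c l => algebraMap K L (c l) * t ^ (l : ℕ)
  have hmain : ∀ (V : ValuationSubring L), Dom A V →
      (V.valuation t < 1 ∧ t ≠ 0) ∧ ∀ (c : Fin p → K),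
      (∀ i, c i ≠ 0 → V.valuation (∑ l, term c l) ≠ 0) ∧
      (V.valuation (∑ l, term c l) ≤ 1 ↔ ∀ l, ∃ a : A, algebraMap A K a = c l) := by
    intro V hV
    have hg0 := vpi_pos (K := K) hπ (V := V)
    have hg1 := vpi_lt_one hπ hV
    set G := V.valuation t with hG
    have hGp : G ^ p = V.valuation (algebraMap A L π) := ht V hV
    have hG0 : 0 < G := zero_lt_iff.mpr fun h => by
      rw [h, zero_pow hp.ne'] at hGp
      exact hg0.ne hGp
    have hG1 : G < 1 := not_le.mp fun h => (one_le_pow₀ h (n := p)).not_gt (hGp ▸ hg1)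
    have hc : ∀ (c : Fin p → K) (l : Fin p), c l ≠ 0 → ∃ m : ℤ, V.valuation (term c l) = G ^ ((p : ℤ) * m + (l : ℕ)) ∧
        (0 ≤ m → V.valuation (algebraMap K L (c l)) ≤ 1) ∧
        (V.valuation (algebraMap K L (c l)) ≤ 1 → 0 ≤ m) := by
      intro c l hl
      obtain ⟨m, hm⟩ := val_K (L := L) hπ hV hl
      refine ⟨m, ?_, fun h => ?_, fun h => ?_⟩
      · rw [zpow_add₀ hG0.ne', zpow_mul, zpow_natCast, zpow_natCast, hGp, ← hm, map_mul, map_pow]
      · rw [hm]; exact ((zpow_right_strictAnti₀ hg0 hg1).antitone h).trans (zpow_zero _).le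
      · rw [hm, ← zpow_zero (V.valuation (algebraMap A L π))] at h
        exact (zpow_right_strictAnti₀ hg0 hg1).le_iff_ge.mp h
    refine ⟨⟨hG1, fun h => hG0.ne' (by rw [hG, h, map_zero])⟩, fun c => ?_⟩
    by_cases h0 : ∀ i, c i = 0
    · refine ⟨fun i hi => absurd (h0 i) hi, iff_of_true ?_ fun l => ⟨0, by rw [map_zero, h0]⟩⟩
      simp [term, h0]
    push Not at h0
    obtain ⟨i₀, hi₀⟩ := h0
    obtain ⟨k, hk, hmax⟩ := Finset.exists_max_image (Finset.univ.filter fun l => c l ≠ 0)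
      (fun l => V.valuation (term c l)) ⟨i₀, by simp [hi₀]⟩
    have hk0 : c k ≠ 0 := (Finset.mem_filter.1 hk).2
    have hkt : term c k ≠ 0 := mul_ne_zero ((_root_.map_ne_zero _).mpr hk0) (pow_ne_zero _ fun h => hG0.ne' (by rw [hG, h, map_zero]))
    have hdist : ∀ l, c l ≠ 0 → V.valuation (term c l) = V.valuation (term c k) → l = k := by
      intro l hl h
      obtain ⟨m, hm, -⟩ := hc c l hl
      obtain ⟨m', hm', -⟩ := hc c k hk0
      rw [hm, hm'] at h
      have := (zpow_right_strictAnti₀ hG0 hG1).injective h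
      have h1 : ((l : ℕ) : ℤ) < p := by exact_mod_cast l.2
      have h2 : ((k : ℕ) : ℤ) < p := by exact_mod_cast k.2
      have h3 : ((p : ℤ) * m + (l : ℕ)) % p = (l : ℕ) := by
        rw [add_comm, Int.add_mul_emod_self_left, Int.emod_eq_of_lt (Int.natCast_nonneg _) h1]
      have h4 : ((p : ℤ) * m' + (k : ℕ)) % p = (k : ℕ) := by
        rw [add_comm, Int.add_mul_emod_self_left, Int.emod_eq_of_lt (Int.natCast_nonneg _) h2]
      rw [this, h4] at h3
      exact Fin.ext (by exact_mod_cast h3.symm)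
    have hval : V.valuation (∑ l, term c l) = V.valuation (term c k) := by
      refine V.valuation.map_sum_eq_of_lt (Finset.mem_univ k) fun l hl => ?_
      have hlk : l ≠ k := by simpa using hl
      by_cases hl0 : c l = 0
      · rw [show term c l = 0 by simp [term, hl0], map_zero]
        exact zero_lt_iff.mpr ((Valuation.ne_zero_iff _).mpr hkt)
      · exact lt_of_le_of_ne (hmax l (by simp [hl0])) fun h => hlk (hdist l hl0 h)
    refine ⟨fun _ _ => by rw [hval]; exact (Valuation.ne_zero_iff _).mpr hkt, fun h l => ?_, fun h => ?_⟩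
    · by_cases hl : c l = 0
      · exact ⟨0, by rw [map_zero, hl]⟩
      obtain ⟨m, hm, hm1, -⟩ := hc c l hl
      refine mem_range_of_val_le_one hπ hV (hm1 ?_)
      have hle : V.valuation (term c l) ≤ 1 := (hmax l (by simp [hl])).trans (hval ▸ h)
      rw [hm, ← zpow_zero G] at hle
      have h5 := (zpow_right_strictAnti₀ hG0 hG1).le_iff_ge.mp hle
      have h1 : ((l : ℕ) : ℤ) < p := by exact_mod_cast l.2
      by_contra hneg
      have : (p : ℤ) * m ≤ (p : ℤ) * (-1) := mul_le_mul_of_nonneg_left (by omega) (by omega)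
      omega
    · rw [hval, map_mul, map_pow]
      obtain ⟨a, ha⟩ := h k
      rw [← ha, ← IsScalarTower.algebraMap_apply]
      exact mul_le_one' (val_le_one hV a) (pow_le_one' hG1.le _)
  obtain ⟨V₀, hV₀⟩ := exists_dom A (K := K) L
  have hli : LinearIndependent K fun i : Fin p => t ^ (i : ℕ) := by
    rw [Fintype.linearIndependent_iff]
    intro c hc i
    by_contra hi
    refine ((hmain V₀ hV₀).2 c).1 i hi ?_
    simp only [Algebra.smul_def] at hc
    rw [hc, map_zero]
  obtain ⟨hrank, hrep⟩ := basis_of_li hfin hli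
  refine ⟨⟨⟨V₀, hV₀⟩, fun V V' hV hV' => ?_, fun V hV y => ?_⟩, hrank, fun V hV x hx => ?_, ht, hrep⟩
  · ext x
    obtain ⟨c, rfl⟩ := hrep x
    rw [← ValuationSubring.valuation_le_one_iff, ← ValuationSubring.valuation_le_one_iff]
    exact ((hmain V hV).2 c).2.trans ((hmain V' hV').2 c).2.symm
  · obtain ⟨⟨x, hx⟩, rfl⟩ := IsLocalRing.residue_surjective y
    obtain ⟨⟨hG1, -⟩, hm⟩ := hmain V hV
    obtain ⟨c, rfl⟩ := hrep x
    have hA := (hm c).2.mp ((V.valuation_le_one_iff _).mpr hx)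
    choose a ha using hA
    refine ⟨a ⟨0, hp⟩, ?_⟩
    rw [← sub_eq_zero, ← map_sub, IsLocalRing.residue_eq_zero_iff, V.valuation_lt_one_iff]
    change V.valuation (algebraMap A L (a ⟨0, hp⟩) - ∑ l, term c l) < 1
    rw [Valuation.map_sub_swap, ← Finset.add_sum_erase _ _ (Finset.mem_univ (⟨0, hp⟩ : Fin p)),
      show term c ⟨0, hp⟩ = algebraMap A L (a ⟨0, hp⟩) by
        simp [term, ← ha, ← IsScalarTower.algebraMap_apply], add_sub_cancel_left]
    refine V.valuation.map_sum_lt one_ne_zero fun l hl => ?_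
    have hl0 : (l : ℕ) ≠ 0 := fun h => (Finset.mem_erase.1 hl).1 (Fin.ext h)
    simp only [term, ← ha, ← IsScalarTower.algebraMap_apply, map_mul, map_pow]
    exact lt_of_le_of_lt (mul_le_of_le_one_left' (val_le_one hV _)) (pow_lt_one₀ zero_le' hG1 hl0)
  · obtain ⟨c, rfl⟩ := hrep x
    exact valsum hπ hp hV (ht V hV) c hx

namespace TR

variable {π : A} {t : L} {e : ℕ}

include K in
theorem t_pos (h : TR A K π t e) (hπ : Irreducible π) (he : 0 < e) {V : ValuationSubring L} (hV : Dom A V) :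
    0 < V.valuation t ∧ V.valuation t < 1 := by
  have hg0 := vpi_pos (K := K) hπ (V := V)
  have hg1 := vpi_lt_one hπ hV
  refine ⟨zero_lt_iff.mpr fun h0 => ?_, not_le.mp fun hle => ?_⟩
  · have := h.pow V hV; rw [h0, zero_pow he.ne'] at this; exact hg0.ne this
  · exact (one_le_pow₀ hle (n := e)).not_gt (by rw [h.pow V hV]; exact hg1)

include K in
theorem mem_iff (h : TR A K π t e) (hπ : Irreducible π) (he : 0 < e) {V : ValuationSubring L} (hV : Dom A V) (x : L)
    (hx : V.valuation x < 1) : ∃ y : V, x = t * (y : L) := by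
  obtain ⟨h0, h1⟩ := h.t_pos hπ he hV
  have ht : t ≠ 0 := fun h' => h0.ne' (by rw [h', map_zero])
  by_cases hx0 : x = 0
  · exact ⟨0, by rw [hx0]; simp⟩
  obtain ⟨m, hm⟩ := h.values V hV x hx0
  have hm1 : 1 ≤ m := by
    by_contra hlt
    refine hx.not_ge ?_
    rw [hm, ← zpow_zero (V.valuation t)]
    exact (zpow_right_strictAnti₀ h0 h1).antitone (by omega)
  refine ⟨⟨x / t, ?_⟩, by simp only; rw [mul_div_cancel₀ _ ht]⟩
  rw [← V.valuation_le_one_iff, map_div₀, hm, div_le_one₀ h0]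
  calc V.valuation t ^ m ≤ V.valuation t ^ (1 : ℤ) := (zpow_right_strictAnti₀ h0 h1).antitone hm1
    _ = _ := zpow_one _

include K in
theorem isDVR (h : TR A K π t e) (hπ : Irreducible π) (he : 0 < e) {V : ValuationSubring L} (hV : Dom A V) :
    IsDiscreteValuationRing V ∧ ∀ ht : t ∈ V, maximalIdeal V = Ideal.span {⟨t, ht⟩} := by
  obtain ⟨h0, h1⟩ := h.t_pos hπ he hV
  have ht : t ∈ V := (V.valuation_le_one_iff t).mp h1.le
  have hmax : maximalIdeal V = Ideal.span {⟨t, ht⟩} := by
    refine le_antisymm (fun x hx => ?_) ((Ideal.span_singleton_le_iff_mem _).mpr ?_)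
    · obtain ⟨y, hy⟩ := h.mem_iff hπ he hV x ((V.valuation_lt_one_iff x).mp hx)
      exact Ideal.mem_span_singleton.mpr ⟨y, Subtype.ext hy⟩
    · exact (V.valuation_lt_one_iff _).mpr h1
  refine ⟨?_, fun _ => hmax⟩
  refine IsDiscreteValuationRing.ofHasUnitMulPowIrreducibleFactorization ⟨⟨t, ht⟩, ?_, fun {x} hx => ?_⟩
  · refine irreducible_iff.mpr ⟨fun hu => h1.ne ((V.valuation_eq_one_iff _).mp hu), fun a b hab => ?_⟩
    by_contra hcon
    push Not at hcon
    obtain ⟨a', ha⟩ := h.mem_iff hπ he hV a ((V.valuation_lt_one_iff a).mp ((mem_maximalIdeal _).mpr hcon.1))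
    obtain ⟨b', hb⟩ := h.mem_iff hπ he hV b ((V.valuation_lt_one_iff b).mp ((mem_maximalIdeal _).mpr hcon.2))
    have hab' : t = (a : L) * b := congrArg Subtype.val hab
    rw [ha, hb] at hab'
    have h3 : V.valuation t ≤ V.valuation t * V.valuation t := by
      conv_lhs => rw [hab', show t * (a' : L) * (t * b') = t * t * ((a' * b' : V) : L) by push_cast; ring, map_mul, map_mul]
      exact mul_le_of_le_one_right' (V.valuation_le_one _)
    exact h3.not_gt (mul_lt_of_lt_one_left h0 h1)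
  · have hx' : (x : L) ≠ 0 := fun h0' => hx (Subtype.ext h0')
    obtain ⟨m, hm⟩ := h.values V hV x hx'
    have hm0 : 0 ≤ m := by
      by_contra hlt
      refine (V.valuation_le_one x).not_gt ?_
      rw [hm, ← zpow_zero (V.valuation t)]
      exact zpow_right_strictAnti₀ h0 h1 (by omega)
    obtain ⟨n, rfl⟩ := Int.eq_ofNat_of_zero_le hm0
    rw [zpow_natCast] at hm
    have hu : V.valuation ((x : L) / t ^ n) = 1 := by rw [map_div₀, map_pow, hm, div_self (pow_ne_zero _ h0.ne')]
    refine ⟨n, ((V.valuation_eq_one_iff ⟨_, (V.valuation_le_one_iff _).mp hu.le⟩).mpr hu).unit, Subtype.ext ?_⟩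
    rw [IsUnit.unit_spec]
    push_cast
    exact mul_div_cancel₀ _ (pow_ne_zero _ fun h' => h0.ne' (by rw [h', map_zero]))

end TR

end Groth.Agent.EtRamLib.TotGen
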