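import Groth.Prelude.Def_EtRam
import Groth.Agent.CohDer1.TameTower
import Mathlib.RingTheory.Valuation.LocalSubring
import Mathlib.LinearAlgebra.TensorProduct.Basis

/-!
# Weakly unramified base meets totally ramified extension
-/

set_option autoImplicit false
set_option linter.all false
universe u

open TensorProduct

namespace Groth.Agent.EtRamLib

variable {A : Type u} [CommRing A] [IsDomain A] [IsDiscreteValuationRing A]
variable {K : Type u} [Field K] [Algebra A K] [IsFractionRing A K]
variable {K₁ : Type u} [Field K₁] [Algebra K K₁]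

/-- The unique dominating valuation ring of a totally ramified extension. -/
theorem exists_eisenstein_gen [FiniteDimensional K K₁] [Algebra.IsSeparable K K₁]
    (ht : EtRam.IsTotallyRamified A ((algebraMap K K₁).comp (algebraMap A K))) :
    ∃ (V : ValuationSubring K₁) (π : A) (ϖ : K₁) (e : ℕ) (u : K₁), Irreducible π ∧
      EtRam.Dominates A ((algebraMap K K₁).comp (algebraMap A K)) V ∧
      (∀ V' : ValuationSubring K₁, EtRam.Dominates A ((algebraMap K K₁).comp (algebraMap A K)) V' → V' = V) ∧
      1 ≤ e ∧ V.valuation ϖ < 1 ∧ V.valuation u = 1 ∧ algebraMap K K₁ (algebraMap A K π) = u * ϖ ^ e ∧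
      Submodule.span K (Set.range fun i : Fin e => ϖ ^ (i : ℕ)) = ⊤ := by
  classical
  obtain ⟨⟨V, hV⟩, huniq, hres⟩ := ht
  letI : Algebra A K₁ := ((algebraMap K K₁).comp (algebraMap A K)).toAlgebra
  haveI : IsScalarTower A K K₁ := IsScalarTower.of_algebraMap_eq fun _ => rfl
  haveI := CohDer1.TameTower.isDVR_of_dominates A K K₁ V hV
  obtain ⟨π, hπ⟩ := IsDiscreteValuationRing.exists_irreducible A
  have hπm : π ∈ IsLocalRing.maximalIdeal A := (IsLocalRing.mem_maximalIdeal π).mpr hπ.not_isUnit
  let g : A →+* V := RingHom.codRestrict (algebraMap A K₁) V.toSubring hV.1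
  obtain ⟨t, ht⟩ := IsDiscreteValuationRing.exists_irreducible V
  have hinj : Function.Injective (algebraMap A K₁) :=
    (algebraMap K K₁).injective.comp (IsFractionRing.injective A K)
  have hgπ : g π ≠ 0 := fun h => hπ.ne_zero (hinj ((congrArg Subtype.val h).trans (map_zero _).symm))
  obtain ⟨e, w, hw⟩ := IsDiscreteValuationRing.eq_unit_mul_pow_irreducible hgπ ht
  have hval_t : V.valuation (t : K₁) < 1 := (V.valuation_lt_one_iff t).mp ((IsLocalRing.mem_maximalIdeal t).mpr ht.not_isUnit)
  have hval_w : V.valuation ((w : V) : K₁) = 1 := (V.valuation_eq_one_iff (w : V)).mp w.isUnit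
  have hw' : algebraMap A K₁ π = ((w : V) : K₁) * (t : K₁) ^ e := congrArg Subtype.val hw
  have he : 1 ≤ e := by
    rcases Nat.eq_zero_or_pos e with rfl | h
    · exfalso
      have := hV.2 π hπm
      change V.valuation (algebraMap A K₁ π) < 1 at this
      rw [hw', map_mul, hval_w, pow_zero, map_one, mul_one] at this
      exact lt_irrefl _ this
    · exact h
  -- `V` is integral over `A`
  have hint : ∀ x : K₁, x ∈ V → x ∈ integralClosure A K₁ := by
    intro x hx
    by_contra hxi
    haveI : IsIntegrallyClosedIn (integralClosure A K₁).toSubring K₁ :=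
      inferInstanceAs (IsIntegrallyClosedIn (integralClosure A K₁) K₁)
    obtain ⟨V', hle, hxV⟩ :=
      (integralClosure A K₁).toSubring.exists_le_valuationSubring_of_isIntegrallyClosedIn hxi
    have hA : ∀ a, algebraMap A K₁ a ∈ V' := fun a => hle ((integralClosure A K₁).algebraMap_mem a)
    by_cases hd : V'.valuation (algebraMap A K₁ π) < 1
    · have hdom : EtRam.Dominates A ((algebraMap K K₁).comp (algebraMap A K)) V' := by
        refine ⟨hA, fun a ha => ?_⟩
        rw [hπ.maximalIdeal_eq, Ideal.mem_span_singleton] at ha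
        obtain ⟨b, rfl⟩ := ha
        change V'.valuation (algebraMap A K₁ (π * b)) < 1
        rw [map_mul, map_mul]
        exact lt_of_le_of_lt (mul_le_of_le_one_right' ((V'.valuation_le_one_iff _).mpr (hA b))) hd
      exact hxV (huniq V' V hdom hV ▸ hx)
    · have hK : ∀ k : K, algebraMap K K₁ k ∈ V' := by
        intro k
        obtain ⟨a, s, hs, rfl⟩ := IsFractionRing.div_surjective (A := A) k
        obtain ⟨m, v, rfl⟩ := IsDiscreteValuationRing.eq_unit_mul_pow_irreducible (nonZeroDivisors.ne_zero hs) hπ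
        rw [← V'.valuation_le_one_iff, map_div₀, ← IsScalarTower.algebraMap_apply, ← IsScalarTower.algebraMap_apply,
          map_div₀, map_mul, map_mul, map_pow, map_pow]
        have h1 : V'.valuation (algebraMap A K₁ (v : A)) = 1 := by
          refine le_antisymm ((V'.valuation_le_one_iff _).mpr (hA _)) ?_
          have h2 : V'.valuation (algebraMap A K₁ (v : A)) * V'.valuation (algebraMap A K₁ ((v⁻¹ : Aˣ) : A)) = 1 := by
            rw [← map_mul, ← map_mul, Units.mul_inv, map_one, map_one]
          rw [← h2]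
          exact mul_le_of_le_one_right' ((V'.valuation_le_one_iff _).mpr (hA _))
        have h3 : V'.valuation (algebraMap A K₁ π) = 1 :=
          le_antisymm ((V'.valuation_le_one_iff _).mpr (hA _)) (not_lt.mp hd)
        rw [h1, h3, one_pow, mul_one, div_one]
        exact (V'.valuation_le_one_iff _).mpr (hA a)
      refine hxV ?_
      let gK : K →+* V' := RingHom.codRestrict (algebraMap K K₁) V'.toSubring hK
      letI : Algebra K V' := gK.toAlgebra
      haveI : IsScalarTower K V' K₁ := IsScalarTower.of_algebraMap_eq fun _ => rfl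
      obtain ⟨y, hy⟩ := (IsIntegrallyClosed.isIntegral_iff (R := V') (K := K₁)).mp
        ((Algebra.IsIntegral.isIntegral (R := K) x).tower_top)
      rw [← hy]; exact y.2
  haveI hfin : Module.Finite A (integralClosure A K₁) := IsIntegralClosure.finite A K K₁ _
  -- generation by powers
  let N : Submodule A K₁ := Submodule.span A (Set.range fun i : Fin e => (t : K₁) ^ (i : ℕ))
  let C : Submodule A K₁ := Subalgebra.toSubmodule (integralClosure A K₁)
  have hCV : ∀ x ∈ C, x ∈ V := by
    intro x hx
    letI : Algebra A V := g.toAlgebra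
    haveI : IsScalarTower A V K₁ := IsScalarTower.of_algebraMap_eq fun _ => rfl
    obtain ⟨y, hy⟩ := (IsIntegrallyClosed.isIntegral_iff (R := V) (K := K₁)).mp
      (show IsIntegral V x from (show IsIntegral A x from hx).tower_top)
    rw [← hy]; exact y.2
  have hstep : ∀ (j : ℕ) (x : K₁), x ∈ V → j ≤ e → ∃ n ∈ N, ∃ y ∈ V, x = n + (t : K₁) ^ j * y := by
    intro j
    induction j with
    | zero => exact fun x hx _ => ⟨0, zero_mem _, x, hx, by simp⟩
    | succ j ih =>
      intro x hx hj
      obtain ⟨n, hn, y, hy, rfl⟩ := ih x hx (by omega)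
      obtain ⟨a, ha⟩ := hres V hV (IsLocalRing.residue V ⟨y, hy⟩)
      have hm : (⟨y, hy⟩ : V) - g a ∈ IsLocalRing.maximalIdeal V := by
        rw [← IsLocalRing.residue_eq_zero_iff, map_sub, sub_eq_zero]; exact ha.symm
      rw [ht.maximalIdeal_eq, Ideal.mem_span_singleton] at hm
      obtain ⟨z, hz⟩ := hm
      have hz' : y - algebraMap A K₁ a = (t : K₁) * (z : K₁) := congrArg Subtype.val hz
      refine ⟨n + a • (t : K₁) ^ j, N.add_mem hn (N.smul_mem _ (Submodule.subset_span ⟨⟨j, by omega⟩, rfl⟩)), z, z.2, ?_⟩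
      rw [Algebra.smul_def]
      linear_combination (t : K₁) ^ j * hz'
  have hCfg : C.FG := (Module.Finite.iff_fg (N := C)).mp hfin
  have hwinv : ((↑w⁻¹ : V) : K₁) * ((w : V) : K₁) = 1 := congrArg Subtype.val w.inv_mul
  have hCN : C ≤ N := by
    refine Submodule.le_of_le_smul_of_le_jacobson_bot (I := IsLocalRing.maximalIdeal A) hCfg
      (IsLocalRing.jacobson_eq_maximalIdeal ⊥ bot_ne_top).ge ?_
    intro x hx
    obtain ⟨n, hn, y, hy, rfl⟩ := hstep e x (hCV x hx) le_rfl
    have hu : (t : K₁) ^ e * y = algebraMap A K₁ π * (((↑w⁻¹ : V) : K₁) * y) := by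
      rw [hw']; linear_combination -((t : K₁) ^ e * y) * hwinv
    rw [hu, ← Algebra.smul_def]
    exact Submodule.add_mem_sup hn (Submodule.smul_mem_smul hπm (hint _ (V.mul_mem _ _ (↑w⁻¹ : V).2 hy)))
  refine ⟨V, π, t, e, ((w : V) : K₁), hπ, hV, fun V' h => huniq V' V h hV, he, hval_t, hval_w, hw', ?_⟩
  rw [eq_top_iff]
  intro x _
  obtain ⟨⟨s, hs⟩, hxs⟩ := IsIntegral.exists_multiple_integral_of_isLocalization (nonZeroDivisors A) x
    (Algebra.IsIntegral.isIntegral (R := K) x)
  have hm : algebraMap A K₁ s * x ∈ C := by rw [← Algebra.smul_def]; exact hxs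
  have hspan : (N : Set K₁) ⊆ Submodule.span K (Set.range fun i : Fin e => (t : K₁) ^ (i : ℕ)) :=
    Submodule.span_le_restrictScalars A K _
  have h1 := hspan (hCN hm)
  have hs0 : algebraMap A K s ≠ 0 := (map_ne_zero_iff _ (IsFractionRing.injective A K)).mpr (nonZeroDivisors.ne_zero hs)
  have h2 := Submodule.smul_mem _ (algebraMap A K s)⁻¹ h1
  rwa [IsScalarTower.algebraMap_apply A K K₁, ← Algebra.smul_def, smul_smul, inv_mul_cancel₀ hs0, one_smul] at h2

end Groth.Agent.EtRamLib
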