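import Groth.Agent.EtRamLib.PurInsepStep
import Groth.Agent.EtRamLib.DegP
import Mathlib

/-! Purely inseparable steps of degree `p` over a weakly unramified extension. -/

set_option autoImplicit false
set_option linter.all false
universe u

open IsLocalRing TensorProduct Polynomial

namespace Groth.Agent.EtRamLib.Trichotomy

/-- A perturbed copy `F[X]/(X^p + eX - a)` of `F(a^{1/p})`. -/
theorem exists_perturb_data (p : ℕ) (hp : p.Prime) (F : Type u) [Field F] (a : F) (ha : Irreducible (X ^ p - C a : F[X])) :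
    ∃ δ : AdjoinRoot (X ^ p - C a) →ₗ[F] AdjoinRoot (X ^ p - C a) →ₗ[F] AdjoinRoot (X ^ p - C a),
      ∀ e : F, e ≠ 0 → ∃ φ : AdjoinRoot (X ^ p - C a) ≃ₗ[F] AdjoinRoot (X ^ p + (C e * X - C a) : F[X]),
        φ 1 = 1 ∧ ∀ x y, φ x * φ y = φ (x * y) + e • φ (δ x y) := by
  classical
  haveI := Fact.mk ha
  have hm : (X ^ p - C a : F[X]).Monic := monic_X_pow_sub_C a hp.ne_zero
  let bα : Module.Basis (Fin p) F (AdjoinRoot (X ^ p - C a)) :=
    (AdjoinRoot.powerBasis' hm).basis.reindex (finCongr (by simp))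
  let α := AdjoinRoot.root (X ^ p - C a)
  have hbα : ∀ i : Fin p, bα i = α ^ (i : ℕ) := fun i => by simp [bα, α, PowerBasis.coe_basis]
  have hαp : α ^ p = algebraMap F _ a := by
    have : aeval α (X ^ p - C a) = 0 := by rw [AdjoinRoot.aeval_eq, AdjoinRoot.mk_self]
    rw [map_sub, aeval_X_pow, aeval_C, sub_eq_zero] at this
    exact this
  let δ : AdjoinRoot (X ^ p - C a) →ₗ[F] AdjoinRoot (X ^ p - C a) →ₗ[F] AdjoinRoot (X ^ p - C a) :=
    bα.constr F fun i => bα.constr F fun j => if p ≤ (i : ℕ) + j then -α ^ ((i : ℕ) + j - p + 1) else 0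
  refine ⟨δ, fun e he => ?_⟩
  have hδ : ∀ i j : Fin p, δ (bα i) (bα j) = if p ≤ (i : ℕ) + j then -α ^ ((i : ℕ) + j - p + 1) else 0 := fun i j => by
    simp only [δ, Module.Basis.constr_basis]
  let f : F[X] := X ^ p + (C e * X - C a)
  have hdlt : (C e * X - C a : F[X]).degree < (p : WithBot ℕ) := by
    refine lt_of_le_of_lt (degree_sub_le _ _) (max_lt ?_ (lt_of_le_of_lt degree_C_le (by exact_mod_cast hp.pos)))
    rw [degree_C_mul_X he]
    exact_mod_cast hp.one_lt
  have hfm : f.Monic := monic_X_pow_add hdlt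
  have hfd : f.natDegree = p :=
    natDegree_eq_of_degree_eq_some (by rw [degree_add_eq_left_of_degree_lt (by rwa [degree_X_pow]), degree_X_pow])
  let bz : Module.Basis (Fin p) F (AdjoinRoot f) := (AdjoinRoot.powerBasis' hfm).basis.reindex (finCongr (by simp [hfd]))
  have hbz : ∀ i : Fin p, bz i = AdjoinRoot.root f ^ (i : ℕ) := fun i => by simp [bz, PowerBasis.coe_basis]
  let φ := bα.equiv bz (Equiv.refl _)
  have hφpow : ∀ k, k < p → φ (α ^ k) = AdjoinRoot.root f ^ k := fun k hk => by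
    rw [show α ^ k = bα ⟨k, hk⟩ from (hbα ⟨k, hk⟩).symm, Module.Basis.equiv_apply, hbz]; rfl
  have hzp : AdjoinRoot.root f ^ p = algebraMap F (AdjoinRoot f) a - algebraMap F (AdjoinRoot f) e * AdjoinRoot.root f := by
    have : aeval (AdjoinRoot.root f) f = 0 := by rw [AdjoinRoot.aeval_eq, AdjoinRoot.mk_self]
    simp only [f, map_add, map_sub, map_mul, map_pow, aeval_X, aeval_C] at this
    linear_combination this
  refine ⟨φ, by rw [← pow_zero α, hφpow 0 hp.pos, pow_zero], fun x y => PurInsepStep.mul_of_basis bα φ.toLinearMap δ e (fun i j => ?_) x y⟩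
  simp only [LinearEquiv.coe_coe]
  rw [hδ, hbα, hbα, hφpow _ i.2, hφpow _ j.2, ← pow_add, ← pow_add]
  by_cases h : p ≤ (i : ℕ) + j
  · have hk : (i : ℕ) + j - p + 1 < p := by omega
    rw [if_pos h, map_neg, hφpow _ hk]
    conv_lhs => rw [← Nat.add_sub_cancel' h, pow_add, hzp]
    conv_rhs => rw [← Nat.add_sub_cancel' h, pow_add, hαp, ← Algebra.smul_def, map_smul, hφpow _ (by omega),
      Nat.add_sub_cancel_left]
    rw [Algebra.smul_def, Algebra.smul_def, pow_succ]
    ring
  · rw [if_neg h, map_zero, smul_zero, add_zero, hφpow _ (by omega)]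

/-- `L ⊗ K[X]/(g)` is a field when `g` stays irreducible over `L`. -/
theorem isField_tensor {K L : Type u} [Field K] [Field L] [Algebra K L] (g : K[X]) (hg : Irreducible (g.map (algebraMap K L))) :
    IsField (L ⊗[K] AdjoinRoot g) := by
  haveI := Fact.mk hg
  have hroot : aeval ((1 : L) ⊗ₜ[K] AdjoinRoot.root g) (g.map (algebraMap K L)) = 0 := by
    rw [Polynomial.aeval_map_algebraMap,
      show ((1 : L) ⊗ₜ[K] AdjoinRoot.root g) = (Algebra.TensorProduct.includeRight : AdjoinRoot g →ₐ[K] L ⊗[K] AdjoinRoot g) (AdjoinRoot.root g) from rfl,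
      aeval_algHom_apply, AdjoinRoot.aeval_eq, AdjoinRoot.mk_self, map_zero]
  let h := AdjoinRoot.liftAlgHom (g.map (algebraMap K L)) (Algebra.ofId L (L ⊗[K] AdjoinRoot g)) ((1 : L) ⊗ₜ[K] AdjoinRoot.root g) hroot
  have hs : Function.Surjective h := by
    intro z
    induction z using TensorProduct.induction_on with
    | zero => exact ⟨0, map_zero _⟩
    | add a b ha hb => obtain ⟨a', rfl⟩ := ha; obtain ⟨b', rfl⟩ := hb; exact ⟨a' + b', map_add _ _ _⟩
    | tmul l x =>
      obtain ⟨q, rfl⟩ := AdjoinRoot.mk_surjective x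
      refine ⟨algebraMap L _ l * aeval (AdjoinRoot.root (g.map (algebraMap K L))) (q.map (algebraMap K L)), ?_⟩
      rw [map_mul, AlgHom.commutes, ← aeval_algHom_apply, show h (AdjoinRoot.root (g.map (algebraMap K L))) = (1 : L) ⊗ₜ[K] AdjoinRoot.root g from AdjoinRoot.liftAlgHom_root _ _ _ _, Polynomial.aeval_map_algebraMap,
        show ((1 : L) ⊗ₜ[K] AdjoinRoot.root g) = (Algebra.TensorProduct.includeRight : AdjoinRoot g →ₐ[K] L ⊗[K] AdjoinRoot g) (AdjoinRoot.root g) from rfl,
        aeval_algHom_apply, AdjoinRoot.aeval_eq, Algebra.TensorProduct.includeRight_apply, Algebra.TensorProduct.algebraMap_apply,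
        Algebra.TensorProduct.tmul_mul_tmul, mul_one, one_mul]
      rfl
  haveI : Nontrivial (L ⊗[K] AdjoinRoot g) := by
    haveI : Nontrivial (AdjoinRoot g) := AdjoinRoot.nontrivial g (fun h0 => by
      have := hg.natDegree_pos
      rw [natDegree_map, natDegree_eq_of_degree_eq_some h0] at this
      exact absurd this (lt_irrefl 0))
    exact (Algebra.TensorProduct.includeLeft_injective (R := K) (S := K) (A := L) (B := AdjoinRoot g)
      (algebraMap K (AdjoinRoot g)).injective).nontrivial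
  exact (MulEquiv.isField (Field.toIsField _) (RingEquiv.ofBijective h ⟨RingHom.injective h.toRingHom, hs⟩).symm.toMulEquiv)

/-- If all `p`-th powers lie in `L`, a `p`-th root of a uniformizer generates the maximal ideal. -/
theorem weak_of_pow_mem (p : ℕ) (hp : p.Prime) {B L M : Type u} [CommRing B] [IsDomain B] [IsDiscreteValuationRing B]
    [Field L] [Algebra B L] [IsFractionRing B L] [Field M] [Algebra L M]
    (hpow : ∀ y : M, y ^ p ∈ Set.range (algebraMap L M)) (W : ValuationSubring M)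
    (hW : EtRam.Dominates B ((algebraMap L M).comp (algebraMap B L)) W) {π : B} (hπ : Irreducible π) (t : M)
    (ht : t ^ p = algebraMap L M (algebraMap B L π)) (w : W) (hw : w ∈ maximalIdeal W) :
    ∃ v : M, v ∈ W ∧ (w : M) = t * v := by
  have hπlt : W.valuation (algebraMap L M (algebraMap B L π)) < 1 := hW.2 π ((mem_maximalIdeal _).mpr hπ.not_isUnit)
  have hwlt : W.valuation (w : M) < 1 := (W.valuation_lt_one_iff w).mp hw
  have ht0 : t ≠ 0 := fun h => by
    rw [h, zero_pow hp.ne_zero] at ht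
    exact hπ.ne_zero (IsFractionRing.injective B L (((algebraMap L M).injective (ht.symm.trans (map_zero _).symm)).trans (map_zero _).symm))
  obtain ⟨l, hl⟩ := hpow w
  by_cases hw0 : (w : M) = 0
  · exact ⟨0, W.zero_mem, by rw [hw0, mul_zero]⟩
  have hl0 : l ≠ 0 := fun h => pow_ne_zero p hw0 (by rw [← hl, h, map_zero])
  have hlt : W.valuation (algebraMap L M l) < 1 := by rw [hl, map_pow]; exact pow_lt_one₀ zero_le' hwlt hp.ne_zero
  obtain ⟨b, hb⟩ : ∃ b : B, algebraMap B L b = l := by
    rcases ValuationRing.isInteger_or_isInteger B l with h | h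
    · exact h
    · obtain ⟨c, hc⟩ := h
      exfalso
      have h1 : W.valuation (algebraMap L M l⁻¹) ≤ 1 := by rw [← hc]; exact (W.valuation_le_one_iff _).mpr (hW.1 c)
      rw [map_inv₀, map_inv₀, inv_le_one₀ (zero_lt_iff.mpr ((Valuation.ne_zero_iff _).mpr ((_root_.map_ne_zero _).mpr hl0)))] at h1
      exact absurd hlt (not_lt.mpr h1)
  obtain ⟨c, hc⟩ : π ∣ b := by
    rw [← Ideal.mem_span_singleton, ← hπ.maximalIdeal_eq, mem_maximalIdeal, mem_nonunits_iff]
    intro hu
    have h2 : W.valuation (algebraMap L M (algebraMap B L b)) = 1 := by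
      obtain ⟨u, rfl⟩ := hu
      exact (W.valuation_eq_one_iff ⟨_, hW.1 u⟩).mp ((u.isUnit).map (((algebraMap L M).comp (algebraMap B L)).codRestrict W hW.1))
    rw [hb] at h2
    exact hlt.ne h2
  refine ⟨(w : M) / t, ?_, (mul_div_cancel₀ _ ht0).symm⟩
  rw [← W.valuation_le_one_iff, ← pow_le_one_iff hp.ne_zero, ← map_pow, div_pow, ← hl, ← hb, hc, ht, map_mul, map_mul,
    mul_div_cancel_left₀ _ (by rw [← ht]; exact pow_ne_zero _ ht0)]
  exact (W.valuation_le_one_iff _).mpr (hW.1 c)

end Groth.Agent.EtRamLib.Trichotomy
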